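import Groth.Agent.SGA7.K564.ConstTors
import Groth.Prelude.Def_Red

/-!
# Constant groups through their points; base change; translations of extensions
-/

set_option autoImplicit false
universe u

open CategoryTheory CategoryTheory.Limits MonoidalCategory CartesianMonoidalCategory MonObj GrpObj AlgebraicGeometry

namespace K565.ConstPts

open K564.ConstTors

variable {S : Scheme.{u}} {Z : Type u} [Group Z]

/-- `G` behaves like a constant group with points `Z`. -/
structure CP (Z : Type u) [Group Z] (G : Over S) [GrpObj G] where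
  pt : Z → (𝟙_ (Over S) ⟶ G)
  mul : ∀ z w, pt (z * w) = pt z * pt w
  dec : ∀ {T : Over S} (g : T ⟶ G), ∃ V : Z → T.left.Opens, (∀ t : T.left, ∃! z, t ∈ V z) ∧
      ∀ z, (V z).ι ≫ g.left = (V z).ι ≫ (toUnit T ≫ pt z).left
  inj : ∀ {T : Over S} [Nonempty T.left] {z w : Z}, toUnit T ≫ pt z = toUnit T ≫ pt w → z = w

/-- constant groups. -/
noncomputable def ofConst {G : Over S} [GrpObj G] {eG : G ≅ TwC.const S Z} (hG : TwC.IsConstGrp Z G eG) :
    CP Z G where
  pt z := cpt eG z
  mul z w := cpt_mul hG z w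
  dec g := const_dec g
  inj h := cpt_injective h

namespace CP

variable {G : Over S} [GrpObj G] (c : CP Z G)

theorem pt_one : c.pt 1 = 1 := by
  have h := c.mul 1 1
  rw [_root_.mul_one] at h
  exact mul_eq_left.1 h.symm

theorem pt_inv (z : Z) : c.pt z⁻¹ = (c.pt z)⁻¹ := by
  rw [eq_inv_iff_mul_eq_one, ← c.mul, inv_mul_cancel, c.pt_one]

section BC

variable {S' : Scheme.{u}} (i : S' ⟶ S)

theorem bc_aux (T : Over S') (z : Z) :
    (toUnit T ≫ Functor.LaxMonoidal.ε (Over.pullback i) ≫ (Over.pullback i).map (c.pt z)).left ≫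
      pullback.fst G.hom i = (toUnit (Over.mk (T.hom ≫ i)) ≫ c.pt z).left := by
  have h1 : ((Over.pullback i).map (c.pt z)).left ≫ pullback.fst G.hom i =
      pullback.fst (𝟙_ (Over S)).hom i ≫ (c.pt z).left := pullback.lift_fst _ _ _
  have h2 : (toUnit T ≫ Functor.LaxMonoidal.ε (Over.pullback i)).left ≫ pullback.fst (𝟙_ (Over S)).hom i =
      T.hom ≫ i := by
    have h3 : pullback.fst (𝟙_ (Over S)).hom i ≫ (𝟙_ (Over S)).hom = pullback.snd (𝟙_ (Over S)).hom i ≫ i :=
      pullback.condition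
    have h4 : (toUnit T ≫ Functor.LaxMonoidal.ε (Over.pullback i)).left ≫ pullback.snd (𝟙_ (Over S)).hom i = T.hom :=
      Over.w (toUnit T ≫ Functor.LaxMonoidal.ε (Over.pullback i))
    have h5 : pullback.fst (𝟙_ (Over S)).hom i ≫ (𝟙_ (Over S)).hom = pullback.fst (𝟙_ (Over S)).hom i :=
      Category.comp_id _
    rw [← h5, h3, ← Category.assoc, h4]
  rw [← Category.assoc, Over.comp_left, Category.assoc, h1, ← Category.assoc, h2, Over.comp_left, Over.toUnit_left]
  rfl

/-- base change. -/
noncomputable def bc : CP Z (Red.bc i G) where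
  pt z := Functor.LaxMonoidal.ε (Over.pullback i) ≫ (Over.pullback i).map (c.pt z)
  mul z w := by
    rw [c.mul, ← MonObj.comp_mul]
    congr 1
    exact Functor.map_mul _ _ _
  dec {T} g := by
    let g1 : Over.mk (T.hom ≫ i) ⟶ G := Over.homMk (g.left ≫ pullback.fst G.hom i) (by
      have h1 : g.left ≫ pullback.snd G.hom i = T.hom := Over.w g
      change (g.left ≫ pullback.fst G.hom i) ≫ G.hom = T.hom ≫ i
      rw [Category.assoc, pullback.condition, ← Category.assoc, h1])
    obtain ⟨V, hV1, hV2⟩ := c.dec g1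
    refine ⟨V, hV1, fun z => ?_⟩
    apply pullback.hom_ext
    · rw [Category.assoc, Category.assoc, c.bc_aux i T z]
      exact hV2 z
    · rw [Category.assoc, Category.assoc]
      congr 1
      have h1 : g.left ≫ pullback.snd G.hom i = T.hom := Over.w g
      have h2 : (toUnit T ≫ Functor.LaxMonoidal.ε (Over.pullback i) ≫ (Over.pullback i).map (c.pt z)).left ≫
        pullback.snd G.hom i = T.hom := Over.w _
      rw [h1, h2]
  inj {T} hT z w h := by
    have hT' : Nonempty (Over.mk (T.hom ≫ i)).left := hT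
    apply c.inj (T := Over.mk (T.hom ≫ i))
    apply Over.OverMorphism.ext
    rw [← c.bc_aux i T z, ← c.bc_aux i T w, h]

end BC

section Ext

variable {E P : Over S} [GrpObj E] [GrpObj P]

/-- the translations of an extension with constant kernel. -/
noncomputable def toCT (u : G ⟶ E) (v : E ⟶ P) [IsMonHom u] [IsMonHom v]
    (huv : u ≫ v = 1) (hpb : IsPullback (fst E G) ((E ◁ u) ≫ μ[E]) v v) : CT v.left Z where
  ρ z := ((𝟙 E) * (toUnit E ≫ c.pt z ≫ u)⁻¹).left
  ρ_q z := by
    rw [← Over.comp_left]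
    congr 1
    rw [mul_comp, Category.id_comp, inv_comp, Category.assoc, Category.assoc, huv, comp_one, comp_one,
      inv_one, _root_.mul_one]
  ρ_one := by rw [c.pt_one, one_comp, comp_one, inv_one, _root_.mul_one]; rfl
  ρ_mul z w := by
    rw [← Over.comp_left]
    congr 1
    rw [comp_mul, Category.comp_id, comp_inv, c.mul, mul_comp, comp_mul, _root_.mul_inv_rev, ← _root_.mul_assoc]
    congr 2
    rw [← Category.assoc _ (toUnit E), toUnit_unique (_ ≫ toUnit E) (toUnit E)]
  dec {T} x y h := by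
    let T' : Over S := Over.mk (x ≫ E.hom)
    let x' : T' ⟶ E := Over.homMk x rfl
    have hy : y ≫ E.hom = x ≫ E.hom := by
      rw [← Over.w v, ← Category.assoc, ← Category.assoc, h]
    let y' : T' ⟶ E := Over.homMk y hy
    have hxy : x' ≫ v = y' ≫ v := Over.OverMorphism.ext h
    let l : T' ⟶ E ⊗ G := hpb.lift x' y' hxy
    let g : T' ⟶ G := l ≫ snd E G
    have hl1 : l ≫ fst E G = x' := hpb.lift_fst _ _ _
    have hg : y' = x' * (g ≫ u) := by
      have h1 : l ≫ (E ◁ u) ≫ μ[E] = y' := hpb.lift_snd _ _ _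
      rw [← h1, ← hl1, Hom.mul_def, ← Category.assoc]
      congr 1
      apply CartesianMonoidalCategory.hom_ext <;> simp [g]
    obtain ⟨V, hV1, hV2⟩ := c.dec g
    refine ⟨fun z => V z⁻¹, fun t => ?_, fun z => ?_⟩
    · obtain ⟨z, hz, hz'⟩ := hV1 t
      refine ⟨z⁻¹, by simpa using hz, ?_⟩
      intro w hw
      rw [← hz' _ hw, _root_.inv_inv]
    let U : Over S := Over.mk ((V z⁻¹).ι ≫ T'.hom)
    let j : U ⟶ T' := Over.homMk (V z⁻¹).ι rfl
    have hj : j ≫ g = j ≫ toUnit T' ≫ c.pt z⁻¹ := by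
      apply Over.OverMorphism.ext
      rw [Over.comp_left, Over.comp_left]
      exact hV2 z⁻¹
    have h4 : j ≫ y' = j ≫ x' ≫ ((𝟙 E) * (toUnit E ≫ c.pt z ≫ u)⁻¹) := by
      rw [hg, comp_mul, comp_mul, comp_mul, Category.comp_id]
      congr 1
      rw [← Category.assoc, hj, c.pt_inv, comp_inv, comp_inv, comp_inv, comp_inv, inv_comp]
      congr 1
    exact congrArg (fun f => f.left) h4
  free {T} _ x z h := by
    let T' : Over S := Over.mk (x ≫ E.hom)
    let x' : T' ⟶ E := Over.homMk x rfl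
    have hT : Nonempty T'.left := ‹Nonempty T›
    have h1 : x' ≫ ((𝟙 E) * (toUnit E ≫ c.pt z ≫ u)⁻¹) = x' := Over.OverMorphism.ext h
    rw [comp_mul, Category.comp_id, mul_eq_left, comp_inv, inv_eq_one,
      ← Category.assoc x' (toUnit E), toUnit_unique (x' ≫ toUnit E) (toUnit T')] at h1
    apply c.inj (T := T')
    rw [c.pt_one, comp_one]
    have h2 : lift x' (toUnit T' ≫ c.pt z) = lift x' (1 : T' ⟶ G) := by
      apply hpb.hom_ext
      · rw [lift_fst, lift_fst]
      · have h3 : ∀ g : T' ⟶ G, lift x' g ≫ (E ◁ u) ≫ μ[E] = x' * (g ≫ u) := by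
          intro g
          rw [Hom.mul_def, ← Category.assoc]
          congr 1
          apply CartesianMonoidalCategory.hom_ext <;> simp
        rw [h3, h3, Category.assoc, h1, one_comp]
    have h5 := congrArg (fun f => f ≫ snd E G) h2
    simpa using h5

end Ext

end CP

end K565.ConstPts
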