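import Groth.Prelude.Def_ArtFun2
import Mathlib.RingTheory.Ideal.Cotangent
import Mathlib.RingTheory.Nakayama
import Mathlib.LinearAlgebra.Dual.Lemmas
import Mathlib.Algebra.Module.Torsion.Basic
import Mathlib.RingTheory.AdicCompletion.Functoriality

/-!
# Tangent vectors of augmented local algebras
-/

set_option autoImplicit false

universe u v

open CategoryTheory ArtFun ArtFun.Art

namespace K565.Tangent

section Functional

variable {R k : Type u} [CommRing R] [IsLocalRing R] [Field k]

/-- If the maximal ideal is not contained in `J + m²` there is a non-zero functional on `m` killing `J`. -/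
theorem exists_functional (res : R →+* k) (hker : ∀ a, a ∈ IsLocalRing.maximalIdeal R → res a = 0)
    (J : Ideal R) (h : ¬ IsLocalRing.maximalIdeal R ≤ J ⊔ IsLocalRing.maximalIdeal R ^ 2) :
    ∃ L : ↥(IsLocalRing.maximalIdeal R) →+ k, (∀ (r : R) (x : ↥(IsLocalRing.maximalIdeal R)), L (r • x) = res r * L x) ∧
      (∀ x : ↥(IsLocalRing.maximalIdeal R), (x : R) ∈ J → L x = 0) ∧ ∃ x, L x ≠ 0 := by
  classical
  set m := IsLocalRing.maximalIdeal R with hm
  let N : Submodule R ↥m := Submodule.comap m.subtype (J ⊔ m ^ 2)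
  have htor : Module.IsTorsionBySet R (↥m ⧸ N) m := by
    rintro x ⟨a, ha⟩
    obtain ⟨y, rfl⟩ := Submodule.Quotient.mk_surjective N x
    change a • (Submodule.Quotient.mk y : ↥m ⧸ N) = 0
    rw [← Submodule.Quotient.mk_smul, Submodule.Quotient.mk_eq_zero]
    change a * (y : R) ∈ J ⊔ m ^ 2
    refine Ideal.mem_sup_right ?_
    rw [pow_two]
    exact Ideal.mul_mem_mul ha y.2
  let : Field (R ⧸ m) := Ideal.Quotient.field m
  let : Module (R ⧸ m) (↥m ⧸ N) := htor.module
  obtain ⟨a, ha, haJ⟩ := SetLike.not_le_iff_exists.1 h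
  have hv : (Submodule.Quotient.mk (⟨a, ha⟩ : ↥m) : ↥m ⧸ N) ≠ 0 := by
    rw [Ne, Submodule.Quotient.mk_eq_zero]
    exact haJ
  have := (Module.forall_dual_apply_eq_zero_iff (R ⧸ m) (Submodule.Quotient.mk (⟨a, ha⟩ : ↥m) : ↥m ⧸ N)).not.2 hv
  push Not at this
  obtain ⟨φ, hφ⟩ := this
  let e : R ⧸ m →+* k := Ideal.Quotient.lift m res hker
  refine ⟨(e.toAddMonoidHom.comp φ.toAddMonoidHom).comp N.mkQ.toAddMonoidHom, ?_, ?_, ⟨a, ha⟩, ?_⟩
  · intro r x
    change e (φ (Submodule.Quotient.mk (r • x))) = res r * e (φ (Submodule.Quotient.mk x))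
    rw [Submodule.Quotient.mk_smul]
    have h1 : (r • (Submodule.Quotient.mk x : ↥m ⧸ N)) =
      (Ideal.Quotient.mk m r : R ⧸ m) • (Submodule.Quotient.mk x : ↥m ⧸ N) := rfl
    rw [h1, map_smul, smul_eq_mul, map_mul]
    rfl
  · intro x hx
    change e (φ (Submodule.Quotient.mk x)) = 0
    have : (Submodule.Quotient.mk x : ↥m ⧸ N) = 0 := by
      rw [Submodule.Quotient.mk_eq_zero]
      exact Ideal.mem_sup_left hx
    rw [this, map_zero, map_zero]
  · change e (φ (Submodule.Quotient.mk (⟨a, ha⟩ : ↥m))) ≠ 0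
    intro h0
    exact hφ ((map_eq_zero e).1 h0)

end Functional

section Dual

variable {Λ k : Type u} [CommRing Λ] [Field k] [Algebra Λ k]

/-- A `Λ`-linear derivation-like map gives a point with values in the dual numbers. -/
def ofDer {R : Type u} [CommRing R] [Algebra Λ R] (res : R →ₐ[Λ] k) (D : R → k)
    (hadd : ∀ a b, D (a + b) = D a + D b) (hmul : ∀ a b, D (a * b) = res a * D b + res b * D a)
    (hΛ : ∀ l : Λ, D (algebraMap Λ R l) = 0) : HomSet R res (dual Λ k) :=
  ⟨{ toFun := fun r => ((res r, D r) : TrivSqZeroExt k k)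
     map_one' := TrivSqZeroExt.ext (map_one res) (by
      have h := hΛ 1
      rw [map_one] at h
      exact h)
     map_mul' := fun a b => TrivSqZeroExt.ext (map_mul res a b) (by
      change D (a * b) = res a • D b + MulOpposite.op (res b) • D a
      rw [hmul, smul_eq_mul, op_smul_eq_smul, smul_eq_mul])
     map_zero' := TrivSqZeroExt.ext (map_zero res) (by
      have h := hΛ 0
      rw [map_zero] at h
      exact h)
     map_add' := fun a b => TrivSqZeroExt.ext (map_add res a b) (hadd a b)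
     commutes' := fun l => TrivSqZeroExt.ext (by
        change res (algebraMap Λ R l) = (algebraMap Λ (TrivSqZeroExt k k) l).fst
        rw [TrivSqZeroExt.algebraMap_eq_inl', TrivSqZeroExt.fst_inl, AlgHom.commutes]) (by
        change D (algebraMap Λ R l) = (algebraMap Λ (TrivSqZeroExt k k) l).snd
        rw [TrivSqZeroExt.algebraMap_eq_inl', TrivSqZeroExt.snd_inl, hΛ]) },
   AlgHom.ext fun _ => rfl⟩

@[simp] theorem ofDer_snd {R : Type u} [CommRing R] [Algebra Λ R] (res : R →ₐ[Λ] k) (D : R → k)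
    (hadd : ∀ a b, D (a + b) = D a + D b) (hmul : ∀ a b, D (a * b) = res a * D b + res b * D a)
    (hΛ : ∀ l : Λ, D (algebraMap Λ R l) = 0) (r : R) :
    TrivSqZeroExt.snd ((ofDer res D hadd hmul hΛ).1 r) = D r := rfl

/-- A functional on the maximal ideal, killing the image of the kernel of `Λ → k`, gives a derivation. -/
theorem exists_der (hk : Function.Surjective (algebraMap Λ k)) {R : Type u} [CommRing R] [Algebra Λ R]
    (res : R →ₐ[Λ] k) (M : Ideal R) (hM : ∀ a, a ∈ M ↔ res a = 0)
    (L : ↥M →+ k) (hL : ∀ (r : R) (x : ↥M), L (r • x) = res r * L x)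
    (hLΛ : ∀ (l : Λ) (hl : algebraMap Λ R l ∈ M), L ⟨algebraMap Λ R l, hl⟩ = 0) :
    ∃ D : R → k, (∀ a b, D (a + b) = D a + D b) ∧ (∀ a b, D (a * b) = res a * D b + res b * D a) ∧
      (∀ l : Λ, D (algebraMap Λ R l) = 0) ∧ ∀ x : ↥M, D x = L x := by
  choose s hs using hk
  have hmem : ∀ r, r - algebraMap Λ R (s (res r)) ∈ M := fun r => by
    rw [hM, map_sub, AlgHom.commutes, hs, sub_self]
  have hindep : ∀ (r : R) (l : Λ) (h : r - algebraMap Λ R l ∈ M),
      L ⟨_, hmem r⟩ = L ⟨r - algebraMap Λ R l, h⟩ := by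
    intro r l h
    have h1 : algebraMap Λ R (l - s (res r)) ∈ M := by
      have := M.sub_mem (hmem r) h
      have e : r - algebraMap Λ R (s (res r)) - (r - algebraMap Λ R l) = algebraMap Λ R (l - s (res r)) := by
        rw [map_sub]; ring
      rwa [e] at this
    have h2 : (⟨_, hmem r⟩ : ↥M) = ⟨r - algebraMap Λ R l, h⟩ + ⟨_, h1⟩ := by
      apply Subtype.ext
      change r - algebraMap Λ R (s (res r)) = r - algebraMap Λ R l + algebraMap Λ R (l - s (res r))
      rw [map_sub]; ring
    rw [h2, map_add, hLΛ, add_zero]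
  refine ⟨fun r => L ⟨_, hmem r⟩, ?_, ?_, ?_, ?_⟩
  · intro a b
    have h : a + b - algebraMap Λ R (s (res a) + s (res b)) ∈ M := by
      rw [hM, map_sub, AlgHom.commutes, map_add, map_add, hs, hs, sub_self]
    change L ⟨_, hmem (a + b)⟩ = L ⟨_, hmem a⟩ + L ⟨_, hmem b⟩
    rw [hindep (a + b) _ h, ← map_add]
    congr 1
    apply Subtype.ext
    change a + b - algebraMap Λ R (s (res a) + s (res b)) =
      a - algebraMap Λ R (s (res a)) + (b - algebraMap Λ R (s (res b)))
    rw [map_add]; ring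
  · intro a b
    have h : a * b - algebraMap Λ R (s (res a) * s (res b)) ∈ M := by
      rw [hM, map_sub, AlgHom.commutes, map_mul, map_mul, hs, hs, sub_self]
    change L ⟨_, hmem (a * b)⟩ = res a * L ⟨_, hmem b⟩ + res b * L ⟨_, hmem a⟩
    rw [hindep (a * b) _ h, ← hL, ← hL, ← map_add]
    have e : (⟨_, h⟩ : ↥M) = (a • ⟨_, hmem b⟩ + b • ⟨_, hmem a⟩) -
      (a - algebraMap Λ R (s (res a))) • (⟨_, hmem b⟩ : ↥M) := by
      apply Subtype.ext
      change a * b - algebraMap Λ R (s (res a) * s (res b)) = (a * (b - algebraMap Λ R (s (res b))) +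
        b * (a - algebraMap Λ R (s (res a)))) - (a - algebraMap Λ R (s (res a))) * (b - algebraMap Λ R (s (res b)))
      rw [map_mul]; ring
    rw [e, map_sub, hL, (hM _).1 (hmem a), zero_mul, sub_zero]
  · intro l
    have h : algebraMap Λ R l - algebraMap Λ R l ∈ M := by rw [sub_self]; exact M.zero_mem
    change L ⟨_, hmem _⟩ = 0
    rw [hindep _ l h]
    have : (⟨algebraMap Λ R l - algebraMap Λ R l, h⟩ : ↥M) = 0 := Subtype.ext (sub_self _)
    rw [this, map_zero]
  · intro x
    have h : (x : R) - algebraMap Λ R 0 ∈ M := by rw [map_zero, sub_zero]; exact x.2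
    change L ⟨_, hmem x⟩ = L x
    rw [hindep _ 0 h]
    congr 1
    apply Subtype.ext
    change (x : R) - algebraMap Λ R 0 = x
    rw [map_zero, sub_zero]

/-- The trivial tangent vector. -/
def triv {R : Type u} [CommRing R] [Algebra Λ R] (res : R →ₐ[Λ] k) : HomSet R res (dual Λ k) :=
  ofDer res (fun _ => 0) (fun _ _ => (add_zero 0).symm) (fun a b => by simp) (fun _ => rfl)

/-- If distinct points with values in the dual numbers are separated by an endomorphism `α` fixing them ... then
`α` is surjective. -/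
theorem surjective_of_comp_injective (hk : Function.Surjective (algebraMap Λ k)) {R S : Type u} [CommRing R]
    [Algebra Λ R] [CommRing S] [IsLocalRing S] [Algebra Λ S] [IsNoetherianRing S] [IsLocalRing R]
    [IsPrecomplete (IsLocalRing.maximalIdeal R) R] [IsHausdorff (IsLocalRing.maximalIdeal S) S]
    (resR : R →ₐ[Λ] k) (hresR : Function.Surjective resR) (resS : S →ₐ[Λ] k) (hresS : Function.Surjective resS)
    (α : R →ₐ[Λ] S) (hα : resS.comp α = resR)
    (H : ∀ ψ : HomSet S resS (dual Λ k), ψ.1.comp α = (triv resS).1.comp α → ψ = triv resS) :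
    Function.Surjective α := by
  classical
  have hkerR : ∀ a : R, a ∈ IsLocalRing.maximalIdeal R ↔ resR a = 0 := by
    intro a
    have hmax : (RingHom.ker (resR : R →+* k)).IsMaximal :=
      RingHom.ker_isMaximal_of_surjective (resR : R →+* k) hresR
    rw [← IsLocalRing.eq_maximalIdeal hmax, RingHom.mem_ker]
    rfl
  have hkerS : ∀ a : S, a ∈ IsLocalRing.maximalIdeal S ↔ resS a = 0 := by
    intro a
    have hmax : (RingHom.ker (resS : S →+* k)).IsMaximal :=
      RingHom.ker_isMaximal_of_surjective (resS : S →+* k) hresS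
    rw [← IsLocalRing.eq_maximalIdeal hmax, RingHom.mem_ker]
    rfl
  set mR := IsLocalRing.maximalIdeal R with hmR
  set mS := IsLocalRing.maximalIdeal S with hmS
  set J := mR.map (α : R →+* S) with hJ
  have hJm : J ≤ mS := by
    rw [hJ, Ideal.map_le_iff_le_comap]
    intro a ha
    change α a ∈ mS
    rw [hkerS, ← AlgHom.comp_apply, hα]
    exact (hkerR a).1 ha
  have hJΛ : ∀ l : Λ, algebraMap Λ S l ∈ mS → algebraMap Λ S l ∈ J := by
    intro l hl
    rw [hkerS, AlgHom.commutes] at hl
    have h1 : algebraMap Λ R l ∈ mR := by rw [hkerR, AlgHom.commutes, hl]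
    have h2 : α (algebraMap Λ R l) ∈ J := Ideal.mem_map_of_mem (α : R →+* S) h1
    rwa [AlgHom.commutes] at h2
  have hle : mS ≤ J ⊔ mS ^ 2 := by
    by_contra hcon
    obtain ⟨L, hL1, hL2, x, hx⟩ := exists_functional (resS : S →+* k) (fun a ha => (hkerS a).1 ha) J hcon
    obtain ⟨D, hD1, hD2, hD3, hD4⟩ := exists_der hk resS mS hkerS L hL1
      (fun l hl => hL2 _ (hJΛ l hl))
    have h1 := H (ofDer resS D hD1 hD2 hD3) (by
      apply AlgHom.ext
      intro r
      obtain ⟨l, hl⟩ := hk (resR r)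
      have hr : r - algebraMap Λ R l ∈ mR := by
        rw [hkerR, map_sub, AlgHom.commutes, hl, sub_self]
      refine TrivSqZeroExt.ext rfl ?_
      change D (α r) = 0
      have e : α r = α (r - algebraMap Λ R l) + algebraMap Λ S l := by
        rw [map_sub, AlgHom.commutes]; ring
      rw [e, hD1, hD3, add_zero]
      have hmem : α (r - algebraMap Λ R l) ∈ J := Ideal.mem_map_of_mem (α : R →+* S) hr
      rw [show α (r - algebraMap Λ R l) = ((⟨_, hJm hmem⟩ : ↥mS) : S) from rfl, hD4]
      exact hL2 _ hmem)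
    have h2 : TrivSqZeroExt.snd ((ofDer resS D hD1 hD2 hD3).1 (x : S)) =
      TrivSqZeroExt.snd ((triv resS).1 (x : S)) := by rw [h1]
    change D x = 0 at h2
    rw [hD4] at h2
    exact hx h2
  have hmJ : mS ≤ J := by
    have hfg : mS.FG := IsNoetherian.noetherian mS
    refine Submodule.le_of_le_smul_of_le_jacobson_bot (I := mS) hfg
      (IsLocalRing.maximalIdeal_le_jacobson _) ?_
    rw [smul_eq_mul, ← pow_two]
    exact hle
  have hJeq : J = mS := le_antisymm hJm hmJ
  have : IsHausdorff (mR.map (α : R →+* S)) S := by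
    rw [← hJ, hJeq]; infer_instance
  refine surjective_of_mk_map_comp_surjective (I := mR) (f := (α : R →+* S)) ?_
  intro y
  obtain ⟨y, rfl⟩ := Ideal.Quotient.mk_surjective y
  obtain ⟨l, hl⟩ := hk (resS y)
  refine ⟨algebraMap Λ R l, ?_⟩
  change Ideal.Quotient.mk _ (α (algebraMap Λ R l)) = Ideal.Quotient.mk _ y
  rw [Ideal.Quotient.eq, AlgHom.commutes, ← hJ, hJeq, hkerS, map_sub, AlgHom.commutes, hl, sub_self]

end Dual

end K565.Tangent
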