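import Groth.Agent.SGA7.K565.ArtTools
import Groth.Agent.SGA7.K565.Tangent

/-!
# `B ×_A B = B ×_k k[ε]` for a small extension, and the action of the tangent space
-/

set_option autoImplicit false

universe u v

open CategoryTheory ArtFun ArtFun.Art K565.ArtTools

namespace K565.SmallTangent

variable {Λ k : Type u} [CommRing Λ] [Field k] [Algebra Λ k]

/-- For a small extension `p : B → A` and `C = B ×_A B`, there is a map `q : C → k[ε]` such that
`C = B ×_k k[ε]` through `(p₁, q)`, and `q` is trivial on the diagonal. -/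
theorem exists_isFibreProd_dual {A B C : Art Λ k} {p : B ⟶ A} (hp : IsSmallExt p)
    {p₁ p₂ : C ⟶ B} (h : IsFibreProd p₁ p₂ p p) :
    ∃ q : C ⟶ dual Λ k, IsFibreProd p₁ q (toBase B) (toBase (dual Λ k)) := by
  obtain ⟨t, ht0, hpt, hker, hm⟩ := IsSmallExt.exists_gen hp
  have hrest : B.res t = 0 := by
    rw [← Art.res_app p, hpt, map_zero]
  have htt : t * t = 0 := hm t hrest
  -- cancellation
  have hcancel : ∀ b : B, b * t = 0 ↔ B.res b = 0 := by
    intro b
    refine ⟨fun hb => ?_, hm b⟩
    by_contra hr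
    have hu : IsUnit b := by
      by_contra hu
      exact hr ((Art.mem_maximalIdeal_iff B b).1 ((IsLocalRing.mem_maximalIdeal b).2 hu))
    obtain ⟨u, rfl⟩ := hu
    apply ht0
    have := congrArg (fun z => (↑u⁻¹ : B) * z) hb
    simpa using this
  have hdiff : ∀ c : C, ∃ b : B, p₂ c - p₁ c = b * t := by
    intro c
    apply hker
    refine (map_sub p.toAlgHom _ _).trans ?_
    exact sub_eq_zero.2 (h.w_apply c).symm
  choose β hβ using hdiff
  have hδ : ∀ (c : C) (b : B), p₂ c - p₁ c = b * t → B.res (β c) = B.res b := by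
    intro c b hb
    rw [hβ c] at hb
    have : (β c - b) * t = 0 := by rw [sub_mul, hb, sub_self]
    rw [hcancel, map_sub] at this
    exact sub_eq_zero.1 this
  have e₁ : ∀ c c' : C, p₁ (c + c') = p₁ c + p₁ c' := fun c c' => map_add p₁.toAlgHom c c'
  have e₂ : ∀ c c' : C, p₂ (c + c') = p₂ c + p₂ c' := fun c c' => map_add p₂.toAlgHom c c'
  have m₁ : ∀ c c' : C, p₁ (c * c') = p₁ c * p₁ c' := fun c c' => map_mul p₁.toAlgHom c c'
  have m₂ : ∀ c c' : C, p₂ (c * c') = p₂ c * p₂ c' := fun c c' => map_mul p₂.toAlgHom c c'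
  let q' : HomSet C C.res (dual Λ k) := K565.Tangent.ofDer C.res (fun c => B.res (β c))
    (by
      intro c c'
      rw [← map_add]
      apply hδ
      rw [e₁, e₂, add_mul, ← hβ, ← hβ]; ring)
    (by
      intro c c'
      have : C.res c * B.res (β c') + C.res c' * B.res (β c) = B.res (p₁ c * β c' + p₁ c' * β c) := by
        rw [map_add, map_mul, map_mul, Art.res_app, Art.res_app]
      rw [this]
      apply hδ
      have h2 : p₂ c = p₁ c + β c * t := by rw [← hβ]; ring
      have h2' : p₂ c' = p₁ c' + β c' * t := by rw [← hβ]; ring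
      rw [m₁, m₂, h2, h2']
      linear_combination (β c * β c') * htt)
    (by
      intro l
      rw [← map_zero B.res]
      apply hδ
      rw [zero_mul]
      exact sub_eq_zero.2 ((p₂.toAlgHom.commutes l).trans (p₁.toAlgHom.commutes l).symm))
  refine ⟨⟨q'.1, q'.2⟩, ?_, ?_, ?_⟩
  · rw [eq_toBase (p₁ ≫ toBase B)]
    exact (eq_toBase _).symm
  · intro c c' h₁ h₂
    apply h.inj c c' h₁
    have h3 : B.res (β c) = B.res (β c') := congrArg TrivSqZeroExt.snd h₂
    have h4 : (β c - β c') * t = 0 := by rw [hcancel, map_sub, h3, sub_self]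
    have h5 : p₂ c - p₁ c = p₂ c' - p₁ c' := by
      rw [hβ, hβ]
      rw [sub_mul] at h4
      exact sub_eq_zero.1 h4
    rw [h₁] at h5
    exact sub_left_inj.1 h5
  · intro b d hbd
    have hbd' : B.res b = TrivSqZeroExt.fst d := hbd
    obtain ⟨b', hb'⟩ := B.res_surjective (TrivSqZeroExt.snd d)
    obtain ⟨c, hc₁, hc₂⟩ := h.surj b (b + b' * t) (by
      refine Eq.trans ?_ (map_add p.toAlgHom b (b' * t)).symm
      have : p.toAlgHom (b' * t) = 0 := by
        rw [map_mul]
        have : p.toAlgHom t = 0 := hpt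
        rw [this, mul_zero]
      rw [this, add_zero])
    refine ⟨c, hc₁, ?_⟩
    refine TrivSqZeroExt.ext ?_ ?_
    · change C.res c = TrivSqZeroExt.fst d
      rw [← hbd', ← hc₁, Art.res_app]
    · change B.res (β c) = TrivSqZeroExt.snd d
      rw [← hb']
      apply hδ
      rw [hc₁, hc₂]; ring

/-- The key injectivity. -/
theorem eq_of_tangent_injective (hk : Function.Surjective (algebraMap Λ k)) {G H : Art Λ k ⥤ Type v} (ψ : G ⟶ H)
    (hG1 : S1 G) (hG2 : Heps G)
    (hH : ∀ ⦃B A A' A'' : Art Λ k⦄ (p' : B ⟶ A') (p'' : B ⟶ A'') (f' : A' ⟶ A) (f'' : A'' ⟶ A)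
      (h : IsFibreProd p' p'' f' f''), Function.Surjective f'' → Function.Injective (cmp H h))
    (hψ : Function.Injective (TangentSpace.map ψ))
    ⦃A B : Art Λ k⦄ (p : B ⟶ A) (hp : Function.Surjective p) (g g' : G.obj B)
    (hgA : G.map p g = G.map p g') (hgH : ψ.app B g = ψ.app B g') : g = g' := by
  revert g g'
  refine smallExt_induction (fun A B p => ∀ g g' : G.obj B, G.map p g = G.map p g' →
    ψ.app B g = ψ.app B g' → g = g') ?_ ?_ ?_ p hp
  · intro A B e he g g' h1 _
    have : Function.Injective (G.map e) := by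
      intro x y hxy
      have h2 := congrArg (G.map (inv e)) hxy
      rw [← Functor.map_comp_apply, ← Functor.map_comp_apply, IsIso.hom_inv_id, G.map_id] at h2
      exact h2
    exact this h1
  · intro A B p hp g g' h1 h2
    obtain ⟨C, p₁, p₂, hC⟩ := exists_isFibreProd hk p p hp.1
    obtain ⟨q, hq⟩ := exists_isFibreProd_dual hp hC
    obtain ⟨Δ, hΔ₁, hΔ₂⟩ := exists_lift hC (𝟙 B) (𝟙 B) rfl
    obtain ⟨z, hz⟩ := hG1 p₁ p₂ p p hC hp.1 ⟨(g, g'), h1⟩
    have hz₁ : G.map p₁ z = g := congrArg (fun x => x.1.1) hz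
    have hz₂ : G.map p₂ z = g' := congrArg (fun x => x.1.2) hz
    -- in `H`, `z` is diagonal
    have hzH : ψ.app C z = H.map Δ (ψ.app B g) := by
      apply hH p₁ p₂ p p hC hp.1
      apply FibProd.ext
      · change H.map p₁ (ψ.app C z) = H.map p₁ (H.map Δ (ψ.app B g))
        rw [← NatTrans.naturality_apply, hz₁, ← Functor.map_comp_apply, hΔ₁, H.map_id]
        rfl
      · change H.map p₂ (ψ.app C z) = H.map p₂ (H.map Δ (ψ.app B g))
        rw [← NatTrans.naturality_apply, hz₂, ← Functor.map_comp_apply, hΔ₂, H.map_id, ← h2]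
        rfl
    -- so its tangent component is trivial
    have hzq : G.map q z = G.map q (G.map Δ g) := by
      apply hψ
      change ψ.app _ (G.map q z) = ψ.app _ (G.map q (G.map Δ g))
      rw [NatTrans.naturality_apply, NatTrans.naturality_apply, NatTrans.naturality_apply, hzH]
    have hzΔ : z = G.map Δ g := by
      apply (hG2 p₁ q hq).1
      apply FibProd.ext
      · change G.map p₁ z = G.map p₁ (G.map Δ g)
        rw [hz₁, ← Functor.map_comp_apply, hΔ₁, G.map_id]
        rfl
      · exact hzq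
    rw [← hz₂, hzΔ, ← Functor.map_comp_apply, hΔ₂, G.map_id]
    rfl
  · intro A B C p q hp hq ih1 ih2 g g' h1 h2
    rw [Functor.map_comp_apply, Functor.map_comp_apply] at h1
    have h3 := ih2 _ _ h1 (by
      rw [NatTrans.naturality_apply, NatTrans.naturality_apply, h2])
    exact ih1 _ _ h3 h2

end K565.SmallTangent
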