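import Groth.Agent.SGA7.K565.DefCat

/-!
# Glueing deformations over a fibre product
-/

set_option autoImplicit false

universe u

open CategoryTheory CategoryTheory.Limits AlgebraicGeometry ArtFun ArtFun.Art K565.ArtTools K565.DefCat
open Groth.Agent.FlatB.PushRing

namespace K565.DefGlue

variable {Λ k : Type u} [CommRing Λ] [Field k] [Algebra Λ k] {X : Scheme.{u}} {x : X ⟶ specPt k}

variable {B A A₁ A₂ : Art Λ k} {p₁ : B ⟶ A₁} {p₂ : B ⟶ A₂} {f₁ : A₁ ⟶ A} {f₂ : A₂ ⟶ A}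

theorem isPushout_spec (h : IsFibreProd p₁ p₂ f₁ f₂) (hf₂ : Function.Surjective f₂) :
    IsPushout (specMap f₂) (specMap f₁) (specMap p₂) (specMap p₁) := by
  have h0 := Groth.Agent.FlatB.PushSpec.isPushout_Spec f₂.toAlgHom.toRingHom f₁.toAlgHom.toRingHom hf₂
  -- the ring isomorphism
  let e₀ : B →+* eqL f₂.toAlgHom.toRingHom f₁.toAlgHom.toRingHom :=
    eqL.lift p₂.toAlgHom.toRingHom p₁.toAlgHom.toRingHom (by
      ext b
      exact (h.w_apply b).symm)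
  have hbij : Function.Bijective e₀ := by
    constructor
    · intro b b' hb
      refine h.inj b b' ?_ ?_
      · exact congrArg (fun z => z.1.2) hb
      · exact congrArg (fun z => z.1.1) hb
    · rintro ⟨⟨a₂, a₁⟩, ha⟩
      obtain ⟨b, hb₁, hb₂⟩ := h.surj a₁ a₂ ha.symm
      exact ⟨b, eqL.ext hb₂ hb₁⟩
  let e : B ≃+* eqL f₂.toAlgHom.toRingHom f₁.toAlgHom.toRingHom := RingEquiv.ofBijective e₀ hbij
  let E : Spec (CommRingCat.of (eqL f₂.toAlgHom.toRingHom f₁.toAlgHom.toRingHom)) ≅ spec B :=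
    Scheme.Spec.mapIso e.toCommRingCatIso.op
  have hE : E.hom = Spec.map (CommRingCat.ofHom e₀) := rfl
  refine IsPushout.of_iso h0 (Iso.refl _) (Iso.refl _) (Iso.refl _) E ?_ ?_ ?_ ?_
  · rw [Iso.refl_hom, Iso.refl_hom, Category.comp_id, Category.id_comp]
  · rw [Iso.refl_hom, Iso.refl_hom, Category.comp_id, Category.id_comp]
  · rw [Iso.refl_hom, Category.id_comp, hE, ← Spec.map_comp, ← CommRingCat.ofHom_comp]
    rfl
  · rw [Iso.refl_hom, Category.id_comp, hE, ← Spec.map_comp, ← CommRingCat.ofHom_comp]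
    rfl

theorem isThickening_specMap {A A' : Art Λ k} (f : A' ⟶ A) (hf : Function.Surjective f) :
    MoreMor.IsFiniteOrderThickening (specMap f) := by
  apply K565.Thick.isFiniteOrderThickening _ hf
  obtain ⟨n, hn⟩ := isNilpotent_maximalIdeal A'
  refine ⟨n, ?_⟩
  have h1 : RingHom.ker f.toAlgHom.toRingHom ≤ IsLocalRing.maximalIdeal A' := ker_le_maximalIdeal f
  have h2 := Ideal.pow_right_mono h1 n
  rw [hn] at h2
  exact le_bot_iff.1 h2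

/-- Existence of the glued deformation. -/
theorem exists_glued (h : IsFibreProd p₁ p₂ f₁ f₂) (hf₂ : Function.Surjective f₂)
    {ξ₁ : DefSch (Λ := Λ) X x A₁} {ξ₂ : DefSch (Λ := Λ) X x A₂} {ξ : DefSch (Λ := Λ) X x A}
    (b₁ : BC ξ₁ f₁ ξ) (b₂ : BC ξ₂ f₂ ξ) :
    ∃ (η : DefSch (Λ := Λ) X x B) (c₁ : BC η p₁ ξ₁) (c₂ : BC η p₂ ξ₂),
      IsPushout b₂.t b₁.t c₂.t c₁.t := by
  have hth := isThickening_specMap f₂ hf₂
  have hcl : IsClosedImmersion (specMap f₂) := hth.1.1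
  have hsu : Function.Surjective (specMap f₂) := hth.1.2.surj
  obtain ⟨W, a', b', κ, hpo, hp2, hp1⟩ := K565.Glue.exists_glue (specMap f₂) (specMap f₁) hsu b₂.t b₁.t ξ₂.f ξ₁.f ξ.f
    b₂.isPullback.flip b₁.isPullback.flip (specMap p₂) (specMap p₁) (isPushout_spec h hf₂)
  have hflat : Flat κ := by
    refine K565.GlueFlat.flat_of_isPullback (isNilpotent_maximalIdeal B) p₁.toAlgHom.toRingHom p₂.toAlgHom.toRingHom
      ?_ κ b' ξ₁.f a' ξ₂.f hp1 hp2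
    intro b h1 h2
    refine h.inj b 0 ?_ ?_
    · exact h1.trans (map_zero p₁.toAlgHom).symm
    · exact h2.trans (map_zero p₂.toAlgHom).symm
  have e12 : ξ₁.i ≫ b' = ξ₂.i ≫ a' := by
    rw [← b₁.i_t, ← b₂.i_t, Category.assoc, Category.assoc, hpo.w]
  let η : DefSch (Λ := Λ) X x B :=
    { total := W
      f := κ
      flat := hflat
      i := ξ₁.i ≫ b'
      isPullback := by
        have h2 := ξ₁.isPullback.paste_horiz hp1
        rwa [specRes_comp] at h2 }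
  exact ⟨η, ⟨b', hp1, rfl⟩, ⟨a', hp2, e12.symm⟩, hpo⟩

/-- The total space of a deformation over the fibre product is the pushout of its base changes. -/
theorem isPushout_of_bc (h : IsFibreProd p₁ p₂ f₁ f₂) (hf₂ : Function.Surjective f₂)
    {η : DefSch (Λ := Λ) X x B}
    {ξ₁ : DefSch (Λ := Λ) X x A₁} {ξ₂ : DefSch (Λ := Λ) X x A₂} {ξ : DefSch (Λ := Λ) X x A}
    (b₁ : BC ξ₁ f₁ ξ) (b₂ : BC ξ₂ f₂ ξ) (c₁ : BC η p₁ ξ₁) (c₂ : BC η p₂ ξ₂) (hc : b₁.t ≫ c₁.t = b₂.t ≫ c₂.t) :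
    IsPushout b₂.t b₁.t c₂.t c₁.t := by
  obtain ⟨η', c₁', c₂', hpo⟩ := exists_glued h hf₂ b₁ b₂
  let φ : η'.total ⟶ η.total := hpo.desc c₂.t c₁.t hc.symm
  have h1 : c₂'.t ≫ φ = c₂.t := hpo.inl_desc _ _ _
  have h2 : c₁'.t ≫ φ = c₁.t := hpo.inr_desc _ _ _
  have hf : φ ≫ η.f = η'.f := by
    apply hpo.hom_ext
    · rw [← Category.assoc, h1, c₂.isPullback.w, c₂'.isPullback.w]
    · rw [← Category.assoc, h2, c₁.isPullback.w, c₁'.isPullback.w]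
  have hi : η'.i ≫ φ = η.i := by
    rw [← c₁'.i_t, Category.assoc, h2, c₁.i_t]
  have := isIso_of_morphism φ hf hi
  exact hpo.of_iso (Iso.refl _) (Iso.refl _) (Iso.refl _) (asIso φ) (by simp) (by simp) (by simp [h1]) (by simp [h2])

/-- Two deformations over the fibre product with compatible isomorphisms of their base changes are isomorphic,
compatibly. -/
theorem exists_iso_of_compat (h : IsFibreProd p₁ p₂ f₁ f₂) (hf₂ : Function.Surjective f₂)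
    {η η' : DefSch (Λ := Λ) X x B}
    {ξ₁ : DefSch (Λ := Λ) X x A₁} {ξ₂ : DefSch (Λ := Λ) X x A₂} {ξ : DefSch (Λ := Λ) X x A}
    (b₁ : BC ξ₁ f₁ ξ) (b₂ : BC ξ₂ f₂ ξ) (c₁ : BC η p₁ ξ₁) (c₂ : BC η p₂ ξ₂) (hc : b₁.t ≫ c₁.t = b₂.t ≫ c₂.t)
    (c₁' : BC η' p₁ ξ₁) (c₂' : BC η' p₂ ξ₂) (hc' : b₁.t ≫ c₁'.t = b₂.t ≫ c₂'.t) :
    ∃ e : η.Iso η', c₁.t ≫ e.iso.hom = c₁'.t ∧ c₂.t ≫ e.iso.hom = c₂'.t := by
  have hpo := isPushout_of_bc h hf₂ b₁ b₂ c₁ c₂ hc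
  let φ : η.total ⟶ η'.total := hpo.desc c₂'.t c₁'.t hc'.symm
  have h1 : c₂.t ≫ φ = c₂'.t := hpo.inl_desc _ _ _
  have h2 : c₁.t ≫ φ = c₁'.t := hpo.inr_desc _ _ _
  have hf : φ ≫ η'.f = η.f := by
    apply hpo.hom_ext
    · rw [← Category.assoc, h1, c₂.isPullback.w, c₂'.isPullback.w]
    · rw [← Category.assoc, h2, c₁.isPullback.w, c₁'.isPullback.w]
  have hi : η.i ≫ φ = η'.i := by
    rw [← c₁.i_t, Category.assoc, h2, c₁'.i_t]
  exact ⟨isoOfMorphism φ hf hi, h2, h1⟩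

/-- Base change composed with an equality of morphisms. -/
def bcCongr {η : DefSch (Λ := Λ) X x B} {g g' : B ⟶ A} {ξ : DefSch (Λ := Λ) X x A} (b : BC η g ξ) (hg : g = g') :
    BC η g' ξ := ⟨b.t, hg ▸ b.isPullback, b.i_t⟩

/-- Given base changes over `A₁`, `A₂`, and a base change of the first to `A`, there is a compatible base change
of the second. -/
theorem exists_compat_bc (hw : p₁ ≫ f₁ = p₂ ≫ f₂) {η : DefSch (Λ := Λ) X x B}
    {ξ₁ : DefSch (Λ := Λ) X x A₁} {ξ₂ : DefSch (Λ := Λ) X x A₂} {ξ : DefSch (Λ := Λ) X x A}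
    (b₁ : BC ξ₁ f₁ ξ) (c₁ : BC η p₁ ξ₁) (c₂ : BC η p₂ ξ₂) :
    ∃ b₂ : BC ξ₂ f₂ ξ, b₁.t ≫ c₁.t = b₂.t ≫ c₂.t := by
  let d₁ : BC η (p₂ ≫ f₂) ξ := bcCongr (c₁.comp b₁) hw
  obtain ⟨e, he⟩ := d₁.exists_iso (c₂.comp (BC.canonical ξ₂ f₂))
  refine ⟨(BC.canonical ξ₂ f₂).ofIso e, ?_⟩
  have he' : e.iso.hom ≫ (BC.canonical ξ₂ f₂).t ≫ c₂.t = b₁.t ≫ c₁.t := he
  rw [← he', ← Category.assoc]
  rfl

end K565.DefGlue
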