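import Groth.Prelude.Def_ArtFun3
import Mathlib.RingTheory.FiniteLength
import Mathlib.RingTheory.SimpleModule.Basic
import Mathlib.RingTheory.LocalRing.Pullback
import Mathlib.RingTheory.HopkinsLevitzki

/-!
# Tools on the category of augmented local Artinian algebras
-/

set_option autoImplicit false

universe u v

open CategoryTheory ArtFun ArtFun.Art

namespace K565.ArtTools

variable {Λ k : Type u} [CommRing Λ] [Field k] [Algebra Λ k]

section FinLen

variable (hk : Function.Surjective (algebraMap Λ k))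
include hk

/-- Elements of an object differ from elements of `Λ` by elements of the maximal ideal. -/
theorem exists_sub_mem (A : Art Λ k) (a : A) : ∃ l : Λ, a - algebraMap Λ A l ∈ IsLocalRing.maximalIdeal A := by
  obtain ⟨l, hl⟩ := hk (A.res a)
  exact ⟨l, by rw [Art.mem_maximalIdeal_iff, map_sub, AlgHom.commutes, hl, sub_self]⟩

theorem isArtinian_of_isFiniteLength (A : Art Λ k) (M : Type u) [AddCommGroup M] [Module A M] (h : IsFiniteLength A M) :
    ∀ [Module Λ M] [IsScalarTower Λ A M], IsArtinian Λ M ∧ IsNoetherian Λ M := by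
  induction h with
  | of_subsingleton =>
    intro _ _
    exact ⟨inferInstance, inferInstance⟩
  | @of_simple_quotient M _ _ N _ _ ih =>
    intro _ _
    have : IsSimpleModule Λ (M ⧸ N) := by
      have hnt : Nontrivial (M ⧸ N) := IsSimpleModule.nontrivial A (M ⧸ N)
      have h1 : ∀ W : Submodule Λ (M ⧸ N), W = ⊥ ∨ W = ⊤ := by
        intro W
        by_cases hW : W = ⊥
        · exact Or.inl hW
        right
        obtain ⟨w, hw, hw0⟩ := (Submodule.ne_bot_iff W).1 hW
        rw [eq_top_iff]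
        rintro x -
        have h2 : Submodule.span A {w} = ⊤ := by
          rcases IsSimpleOrder.eq_bot_or_eq_top (Submodule.span A {w}) with h | h
          · rw [Submodule.span_singleton_eq_bot] at h
            exact absurd h hw0
          · exact h
        have h3 : x ∈ Submodule.span A {w} := by rw [h2]; trivial
        obtain ⟨a, rfl⟩ := Submodule.mem_span_singleton.1 h3
        obtain ⟨l, hl⟩ := exists_sub_mem hk A a
        have h4 : (a - algebraMap Λ A l) • w = 0 := by
          by_contra hne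
          have h5 : Submodule.span A {(a - algebraMap Λ A l) • w} = ⊤ := by
            rcases IsSimpleOrder.eq_bot_or_eq_top (Submodule.span A {(a - algebraMap Λ A l) • w}) with h | h
            · rw [Submodule.span_singleton_eq_bot] at h
              exact absurd h hne
            · exact h
          have h6 : w ∈ Submodule.span A {(a - algebraMap Λ A l) • w} := by rw [h5]; trivial
          obtain ⟨b, hb⟩ := Submodule.mem_span_singleton.1 h6
          have h7 : (1 - b * (a - algebraMap Λ A l)) • w = 0 := by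
            rw [sub_smul, one_smul, mul_smul, hb, sub_self]
          have h8 : IsUnit (1 - b * (a - algebraMap Λ A l)) := by
            by_contra hu
            have h9 : (1 : A) ∈ IsLocalRing.maximalIdeal A := by
              have := Ideal.add_mem _ ((IsLocalRing.mem_maximalIdeal _).2 hu)
                (Ideal.mul_mem_left (IsLocalRing.maximalIdeal A) b hl)
              simpa only [sub_add_cancel] using this
            exact (Ideal.ne_top_iff_one _).1 (IsLocalRing.maximalIdeal.isMaximal A).ne_top h9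
          obtain ⟨u, hu⟩ := h8
          rw [← hu] at h7
          exact hw0 (by
            have := congrArg (fun z => (↑u⁻¹ : A) • z) h7
            simpa [smul_smul] using this)
        have h10 : a • w = l • w := by
          have : a • w = (a - algebraMap Λ A l) • w + (algebraMap Λ A l) • w := by rw [← add_smul, sub_add_cancel]
          rw [this, h4, zero_add, algebraMap_smul]
        rw [h10]
        exact W.smul_mem l hw
      have h11 : IsSimpleOrder (Submodule Λ (M ⧸ N)) := { eq_bot_or_eq_top := h1 }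
      exact { toIsSimpleOrder := h11 }
    obtain ⟨h1, h2⟩ := @ih inferInstance inferInstance
    have e1 : IsArtinian Λ (N.restrictScalars Λ) := h1
    have e2 : IsNoetherian Λ (N.restrictScalars Λ) := h2
    have e3 : IsArtinian Λ (M ⧸ N.restrictScalars Λ) := inferInstanceAs (IsArtinian Λ (M ⧸ N))
    have e4 : IsNoetherian Λ (M ⧸ N.restrictScalars Λ) := inferInstanceAs (IsNoetherian Λ (M ⧸ N))
    exact ⟨(isArtinian_iff_submodule_quotient (N.restrictScalars Λ)).2 ⟨e1, e3⟩,
      (isNoetherian_iff_submodule_quotient (N.restrictScalars Λ)).2 ⟨e2, e4⟩⟩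

theorem isArtinian (A : Art Λ k) : IsArtinian Λ A ∧ IsNoetherian Λ A := by
  have : IsFiniteLength A A := by
    rw [isFiniteLength_iff_isNoetherian_isArtinian]
    exact ⟨inferInstance, inferInstance⟩
  exact isArtinian_of_isFiniteLength hk A A this

end FinLen

/-! ### Fibre products -/

section FibProdObj

variable (hk : Function.Surjective (algebraMap Λ k)) {A A₁ A₂ : Art Λ k} (f₁ : A₁ ⟶ A) (f₂ : A₂ ⟶ A)
  (hf₂ : Function.Surjective f₂)

/-- The fibre product as an object. -/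
def fibObj : Art Λ k :=
  have : IsLocalHom f₂.toAlgHom := Art.isLocalHom f₂
  have h1 : IsArtinian Λ A₁ := (isArtinian hk A₁).1
  have h2 : IsArtinian Λ A₂ := (isArtinian hk A₂).1
  { carrier := ↥(AlgHom.pullback f₁.toAlgHom f₂.toAlgHom)
    isLocalRing := AlgHom.isLocalRing_pullback f₁.toAlgHom f₂.toAlgHom
    isArtinianRing := by
      have h3 : IsArtinian Λ ↥(Subalgebra.toSubmodule (AlgHom.pullback f₁.toAlgHom f₂.toAlgHom)) :=
        inferInstance
      have h4 : IsArtinian Λ ↥(AlgHom.pullback f₁.toAlgHom f₂.toAlgHom) := h3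
      exact isArtinian_of_tower Λ h4
    res := A₁.res.comp (AlgHom.pullbackFst f₁.toAlgHom f₂.toAlgHom)
    res_surjective := A₁.res_surjective.comp
      (AlgHom.surjective_pullbackFst_of_surjective f₁.toAlgHom f₂.toAlgHom hf₂) }

/-- The first projection. -/
def fibFst : fibObj hk f₁ f₂ hf₂ ⟶ A₁ := ⟨AlgHom.pullbackFst f₁.toAlgHom f₂.toAlgHom, rfl⟩

/-- The second projection. -/
def fibSnd : fibObj hk f₁ f₂ hf₂ ⟶ A₂ := ⟨AlgHom.pullbackSnd f₁.toAlgHom f₂.toAlgHom, by
  apply AlgHom.ext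
  intro x
  change A₂.res x.1.2 = A₁.res x.1.1
  have h : f₁ x.1.1 = f₂ x.1.2 := x.2
  rw [← Art.res_app f₂, ← h, Art.res_app]⟩

theorem isFibreProd_fib : IsFibreProd (fibFst hk f₁ f₂ hf₂) (fibSnd hk f₁ f₂ hf₂) f₁ f₂ where
  w := Art.hom_ext (AlgHom.ext fun x => x.2)
  inj b₁ b₂ h₁ h₂ := Subtype.ext (Prod.ext h₁ h₂)
  surj a₁ a₂ h := ⟨⟨(a₁, a₂), h⟩, rfl, rfl⟩

include hk hf₂ in
theorem exists_isFibreProd : ∃ (B : Art Λ k) (p₁ : B ⟶ A₁) (p₂ : B ⟶ A₂), IsFibreProd p₁ p₂ f₁ f₂ :=
  ⟨_, _, _, isFibreProd_fib hk f₁ f₂ hf₂⟩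

end FibProdObj

/-- Lifting into a fibre product. -/
theorem exists_lift {B A A₁ A₂ C : Art Λ k} {p₁ : B ⟶ A₁} {p₂ : B ⟶ A₂} {f₁ : A₁ ⟶ A} {f₂ : A₂ ⟶ A}
    (h : IsFibreProd p₁ p₂ f₁ f₂) (g₁ : C ⟶ A₁) (g₂ : C ⟶ A₂) (hg : g₁ ≫ f₁ = g₂ ≫ f₂) :
    ∃ g : C ⟶ B, g ≫ p₁ = g₁ ∧ g ≫ p₂ = g₂ := by
  have hg' : ∀ c, f₁ (g₁ c) = f₂ (g₂ c) := fun c => by
    change (g₁ ≫ f₁) c = (g₂ ≫ f₂) c
    rw [hg]
  choose s hs using fun c => h.surj (g₁ c) (g₂ c) (hg' c)
  refine ⟨⟨{ toFun := s, map_one' := ?_, map_mul' := ?_, map_zero' := ?_, map_add' := ?_, commutes' := ?_ }, ?_⟩,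
    ?_, ?_⟩
  · refine h.inj _ _ ?_ ?_
    · rw [(hs 1).1]; exact (map_one g₁.toAlgHom).trans (map_one p₁.toAlgHom).symm
    · rw [(hs 1).2]; exact (map_one g₂.toAlgHom).trans (map_one p₂.toAlgHom).symm
  · intro a b
    refine h.inj _ _ ?_ ?_
    · rw [(hs _).1]
      refine (map_mul g₁.toAlgHom a b).trans ?_
      refine Eq.trans ?_ (map_mul p₁.toAlgHom _ _).symm
      exact congrArg₂ (· * ·) (hs a).1.symm (hs b).1.symm
    · rw [(hs _).2]
      refine (map_mul g₂.toAlgHom a b).trans ?_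
      refine Eq.trans ?_ (map_mul p₂.toAlgHom _ _).symm
      exact congrArg₂ (· * ·) (hs a).2.symm (hs b).2.symm
  · refine h.inj _ _ ?_ ?_
    · change p₁ (s 0) = _
      rw [(hs 0).1]; exact (map_zero g₁.toAlgHom).trans (map_zero p₁.toAlgHom).symm
    · change p₂ (s 0) = _
      rw [(hs 0).2]; exact (map_zero g₂.toAlgHom).trans (map_zero p₂.toAlgHom).symm
  · intro a b
    refine h.inj _ _ ?_ ?_
    · change p₁ (s (a + b)) = _
      rw [(hs _).1]
      refine (map_add g₁.toAlgHom a b).trans ?_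
      refine Eq.trans ?_ (map_add p₁.toAlgHom _ _).symm
      exact congrArg₂ (· + ·) (hs a).1.symm (hs b).1.symm
    · change p₂ (s (a + b)) = _
      rw [(hs _).2]
      refine (map_add g₂.toAlgHom a b).trans ?_
      refine Eq.trans ?_ (map_add p₂.toAlgHom _ _).symm
      exact congrArg₂ (· + ·) (hs a).2.symm (hs b).2.symm
  · intro l
    refine h.inj _ _ ?_ ?_
    · change p₁ (s _) = _
      rw [(hs _).1]
      exact (g₁.toAlgHom.commutes l).trans (p₁.toAlgHom.commutes l).symm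
    · change p₂ (s _) = _
      rw [(hs _).2]
      exact (g₂.toAlgHom.commutes l).trans (p₂.toAlgHom.commutes l).symm
  · apply AlgHom.ext
    intro c
    change B.res (s c) = C.res c
    rw [← Art.res_app p₁, (hs c).1, Art.res_app]
  · exact Art.hom_ext (AlgHom.ext fun c => (hs c).1)
  · exact Art.hom_ext (AlgHom.ext fun c => (hs c).2)

theorem hom_ext_fib {B A A₁ A₂ C : Art Λ k} {p₁ : B ⟶ A₁} {p₂ : B ⟶ A₂} {f₁ : A₁ ⟶ A} {f₂ : A₂ ⟶ A}
    (h : IsFibreProd p₁ p₂ f₁ f₂) {g g' : C ⟶ B} (h₁ : g ≫ p₁ = g' ≫ p₁) (h₂ : g ≫ p₂ = g' ≫ p₂) : g = g' := by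
  apply Art.hom_ext
  apply AlgHom.ext
  intro c
  refine h.inj _ _ ?_ ?_
  · change (g ≫ p₁) c = (g' ≫ p₁) c
    rw [h₁]
  · change (g ≫ p₂) c = (g' ≫ p₂) c
    rw [h₂]

/-! ### Bijective morphisms are isomorphisms -/

theorem isIso_of_bijective {A B : Art Λ k} (f : A ⟶ B) (hf : Function.Bijective f) : IsIso f := by
  let e : A ≃ₐ[Λ] B := AlgEquiv.ofBijective f.toAlgHom hf
  refine ⟨⟨⟨e.symm.toAlgHom, ?_⟩, ?_, ?_⟩⟩
  · apply AlgHom.ext
    intro b
    obtain ⟨a, rfl⟩ := hf.2 b
    change A.res (e.symm (e a)) = B.res (f a)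
    rw [e.symm_apply_apply, Art.res_app]
  · apply Art.hom_ext
    apply AlgHom.ext
    intro a
    exact e.symm_apply_apply a
  · apply Art.hom_ext
    apply AlgHom.ext
    intro a
    exact e.apply_symm_apply a

theorem bijective_of_isIso {A B : Art Λ k} (f : A ⟶ B) [IsIso f] : Function.Bijective f := by
  refine Function.bijective_iff_has_inverse.2 ⟨inv f, fun a => ?_, fun b => ?_⟩
  · change (f ≫ inv f) a = a
    rw [IsIso.hom_inv_id]; rfl
  · change (inv f ≫ f) b = b
    rw [IsIso.inv_hom_id]; rfl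

/-! ### Small extensions -/

theorem exists_socle_aux {B : Type u} [CommRing B] (m K K₀ : Ideal B) (h : ¬ K₀ ≤ K) (n : ℕ)
    (hn : m ^ n * K₀ ≤ K) : ∃ t ∈ K₀, t ∉ K ∧ ∀ a ∈ m, a * t ∈ K := by
  induction n with
  | zero =>
    rw [pow_zero, one_mul] at hn
    exact absurd hn h
  | succ n ih =>
    by_cases hc : m ^ n * K₀ ≤ K
    · exact ih hc
    · obtain ⟨t, ht, htK⟩ := SetLike.not_le_iff_exists.1 hc
      have h1 : m ^ n * K₀ ≤ K₀ := Ideal.mul_le_right
      refine ⟨t, h1 ht, htK, fun a ha => hn ?_⟩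
      have h2 : a * t ∈ m * (m ^ n * K₀) := Ideal.mul_mem_mul ha ht
      rwa [pow_succ', mul_assoc]

theorem isNilpotent_maximalIdeal_aux (B : Type u) [CommRing B] [IsLocalRing B] [IsArtinianRing B] :
    IsNilpotent (IsLocalRing.maximalIdeal B) := by
  have := IsArtinianRing.isNilpotent_jacobson_bot (R := B)
  rwa [IsLocalRing.jacobson_eq_maximalIdeal (R := B) ⊥ bot_ne_top] at this

theorem isNilpotent_maximalIdeal (B : Art Λ k) : IsNilpotent (IsLocalRing.maximalIdeal B) :=
  isNilpotent_maximalIdeal_aux B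

theorem exists_socle (B : Art Λ k) (K K₀ : Ideal B) (h : ¬ K₀ ≤ K) :
    ∃ t ∈ K₀, t ∉ K ∧ ∀ a ∈ IsLocalRing.maximalIdeal B, a * t ∈ K := by
  obtain ⟨n, hn⟩ := isNilpotent_maximalIdeal B
  refine exists_socle_aux _ K K₀ h n ?_
  rw [hn]
  intro x hx
  rw [Submodule.zero_eq_bot, Ideal.bot_mul] at hx
  rw [(Ideal.mem_bot.1 hx)]
  exact K.zero_mem

theorem ker_le_maximalIdeal {A B : Art Λ k} (p : B ⟶ A) :
    RingHom.ker p.toAlgHom ≤ IsLocalRing.maximalIdeal B := by
  intro a ha
  rw [Art.mem_maximalIdeal_iff, ← Art.res_app p]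
  rw [RingHom.mem_ker] at ha
  rw [ha, map_zero]

theorem isSmallExt_of {A B : Art Λ k} (p : B ⟶ A) (hp : Function.Surjective p) (t : B) (ht0 : t ≠ 0)
    (hpt : p t = 0) (hker : ∀ x, p x = 0 → ∃ c, x = c * t) (hm : ∀ a, B.res a = 0 → a * t = 0) : IsSmallExt p := by
  have hkerq : RingHom.ker p.toAlgHom = Ideal.span {t} := by
    apply le_antisymm
    · intro x hx
      obtain ⟨c, rfl⟩ := hker x hx
      exact Ideal.mul_mem_left _ _ (Ideal.mem_span_singleton_self _)
    · rw [Ideal.span_singleton_le_iff_mem, RingHom.mem_ker]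
      exact hpt
  refine ⟨hp, ?_, ?_, ?_⟩
  · rw [hkerq]
    intro h0
    exact ht0 (Ideal.span_singleton_eq_bot.1 h0)
  · rw [hkerq]
    exact ⟨⟨_, rfl⟩⟩
  · rw [hkerq, eq_bot_iff, Ideal.mul_le]
    intro a ha x hx
    obtain ⟨c, rfl⟩ := Ideal.mem_span_singleton'.1 hx
    rw [Art.mem_maximalIdeal_iff] at ha
    rw [Ideal.mem_bot, mul_left_comm, hm a ha, mul_zero]

theorem IsSmallExt.exists_gen {A B : Art Λ k} {p : B ⟶ A} (h : IsSmallExt p) :
    ∃ t : B, t ≠ 0 ∧ p t = 0 ∧ (∀ x, p x = 0 → ∃ c, x = c * t) ∧ ∀ a, B.res a = 0 → a * t = 0 := by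
  obtain ⟨-, h2, ⟨⟨t, ht⟩⟩, h4⟩ := h
  have ht' : RingHom.ker p.toAlgHom = Ideal.span {t} := ht
  have hmem : t ∈ RingHom.ker p.toAlgHom := by rw [ht']; exact Ideal.mem_span_singleton_self t
  refine ⟨t, ?_, hmem, ?_, ?_⟩
  · rintro rfl
    apply h2
    rw [ht']
    exact Ideal.span_singleton_eq_bot.2 rfl
  · intro x hx
    have : x ∈ Ideal.span {t} := by rw [← ht']; exact hx
    obtain ⟨c, hc⟩ := Ideal.mem_span_singleton'.1 this
    exact ⟨c, hc.symm⟩
  · intro a ha
    have h5 : a * t ∈ IsLocalRing.maximalIdeal B * RingHom.ker p.toAlgHom :=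
      Ideal.mul_mem_mul ((Art.mem_maximalIdeal_iff B a).2 ha) hmem
    rw [h4] at h5
    exact h5

theorem quotMk_eq_zero_iff (B : Art Λ k) (K : Ideal B) (hK : K ≤ IsLocalRing.maximalIdeal B) (x : B) :
    quotMk B K hK x = 0 ↔ x ∈ K := Ideal.Quotient.eq_zero_iff_mem

theorem quotFactor_quotMk {C D : Art Λ k} {K : Ideal C} (hK : K ≤ IsLocalRing.maximalIdeal C) (p : C ⟶ D)
    (hp : K ≤ RingHom.ker p.toAlgHom) (x : C) : quotFactor hK p hp (quotMk C K hK x) = p x := rfl

theorem quotFactor_surjective {C D : Art Λ k} {K : Ideal C} (hK : K ≤ IsLocalRing.maximalIdeal C) (p : C ⟶ D)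
    (hp : K ≤ RingHom.ker p.toAlgHom) (h : Function.Surjective p) : Function.Surjective (quotFactor hK p hp) := by
  intro a
  obtain ⟨b, rfl⟩ := h a
  exact ⟨quotMk C K hK b, rfl⟩

theorem quotFactor_bijective {C D : Art Λ k} {K : Ideal C} (hK : K ≤ IsLocalRing.maximalIdeal C) (p : C ⟶ D)
    (hp : K ≤ RingHom.ker p.toAlgHom) (hp' : RingHom.ker p.toAlgHom ≤ K) (h : Function.Surjective p) :
    Function.Bijective (quotFactor hK p hp) := by
  refine ⟨?_, quotFactor_surjective hK p hp h⟩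
  intro x y hxy
  obtain ⟨x, rfl⟩ := quotMk_surjective C K hK x
  obtain ⟨y, rfl⟩ := quotMk_surjective C K hK y
  have h1 : p.toAlgHom x = p.toAlgHom y := hxy
  apply Ideal.Quotient.eq.2
  apply hp'
  rw [RingHom.mem_ker, map_sub, h1, sub_self]

/-- One step: dividing by a socle element is a small extension. -/
theorem isSmallExt_quot_quot (B : Art Λ k) (K K' : Ideal B) (t : B) (hKm : K ≤ IsLocalRing.maximalIdeal B)
    (hK'm : K' ≤ IsLocalRing.maximalIdeal B) (hK' : K' = K ⊔ Ideal.span {t}) (ht2 : t ∉ K)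
    (ht3 : ∀ a ∈ IsLocalRing.maximalIdeal B, a * t ∈ K) (hKq : K ≤ RingHom.ker (quotMk B K' hK'm).toAlgHom) :
    IsSmallExt (quotFactor hKm (quotMk B K' hK'm) hKq) := by
  refine isSmallExt_of _ (quotFactor_surjective _ _ _ (quotMk_surjective _ _ _)) (quotMk B K hKm t) ?_ ?_ ?_ ?_
  · rw [Ne, quotMk_eq_zero_iff]
    exact ht2
  · rw [quotFactor_quotMk, quotMk_eq_zero_iff, hK']
    exact Ideal.mem_sup_right (Ideal.mem_span_singleton_self t)
  · intro x hx
    obtain ⟨x, rfl⟩ := quotMk_surjective B K hKm x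
    rw [quotFactor_quotMk, quotMk_eq_zero_iff, hK'] at hx
    obtain ⟨y, hy, z, hz, rfl⟩ := Submodule.mem_sup.1 hx
    obtain ⟨c, rfl⟩ := Ideal.mem_span_singleton'.1 hz
    refine ⟨quotMk B K hKm c, ?_⟩
    have h1 := (quotMk_eq_zero_iff B K hKm y).2 hy
    refine (map_add (quotMk B K hKm).toAlgHom y (c * t)).trans ?_
    have h2 : (quotMk B K hKm).toAlgHom y = 0 := h1
    rw [h2, zero_add]
    exact map_mul (quotMk B K hKm).toAlgHom c t
  · intro a ha
    obtain ⟨a, rfl⟩ := quotMk_surjective B K hKm a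
    rw [Art.res_app, ← Art.mem_maximalIdeal_iff] at ha
    refine (map_mul (quotMk B K hKm).toAlgHom a t).symm.trans ?_
    exact (quotMk_eq_zero_iff B K hKm _).2 (ht3 a ha)

theorem smallExt_induction (P : ∀ ⦃A B : Art Λ k⦄, (B ⟶ A) → Prop)
    (hiso : ∀ ⦃A B : Art Λ k⦄ (e : B ⟶ A), IsIso e → P e)
    (hsmall : ∀ ⦃A B : Art Λ k⦄ (p : B ⟶ A), IsSmallExt p → P p)
    (hcomp : ∀ ⦃A B C : Art Λ k⦄ (p : C ⟶ B) (q : B ⟶ A), Function.Surjective p → Function.Surjective q →
      P p → P q → P (p ≫ q))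
    ⦃A B : Art Λ k⦄ (f : B ⟶ A) (hf : Function.Surjective f) : P f := by
  have key : ∀ K : Ideal B, ∀ (hK : K ≤ RingHom.ker f.toAlgHom),
      P (quotFactor (hK.trans (ker_le_maximalIdeal f)) f hK) := by
    intro K
    induction K using WellFoundedGT.induction with
    | ind K ih =>
      intro hK
      by_cases hKe : RingHom.ker f.toAlgHom ≤ K
      · exact hiso _ (isIso_of_bijective _ (quotFactor_bijective _ _ _ hKe hf))
      · obtain ⟨t, ht1, ht2, ht3⟩ := exists_socle B K _ hKe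
        obtain ⟨K', hK'⟩ : ∃ K' : Ideal B, K' = K ⊔ Ideal.span {t} := ⟨_, rfl⟩
        have hK'f : K' ≤ RingHom.ker f.toAlgHom := by
          rw [hK']
          exact sup_le hK ((Ideal.span_singleton_le_iff_mem _).2 ht1)
        have hKK' : K < K' := by
          refine lt_of_le_of_ne (by rw [hK']; exact le_sup_left) ?_
          intro he
          apply ht2
          rw [he, hK']
          exact Ideal.mem_sup_right (Ideal.mem_span_singleton_self t)
        have hKm := hK.trans (ker_le_maximalIdeal f)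
        have hK'm := hK'f.trans (ker_le_maximalIdeal f)
        have hKq : K ≤ RingHom.ker (quotMk B K' hK'm).toAlgHom := by
          intro x hx
          rw [RingHom.mem_ker]
          exact (quotMk_eq_zero_iff B K' hK'm x).2 (hKK'.le hx)
        have hq : quotFactor hKm (quotMk B K' hK'm) hKq ≫ quotFactor hK'm f hK'f = quotFactor hKm f hK := by
          apply Art.hom_ext
          apply AlgHom.ext
          intro x
          obtain ⟨x, rfl⟩ := quotMk_surjective B K hKm x
          rfl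
        rw [← hq]
        exact hcomp _ _ (quotFactor_surjective _ _ _ (quotMk_surjective _ _ _)) (quotFactor_surjective _ _ _ hf)
          (hsmall _ (isSmallExt_quot_quot B K K' t hKm hK'm hK' ht2 ht3 hKq)) (ih K' hKK' hK'f)
  have h0 := key ⊥ bot_le
  have hm : (⊥ : Ideal B) ≤ IsLocalRing.maximalIdeal B := bot_le
  have h1 : quotMk B ⊥ hm ≫ quotFactor hm f bot_le = f := quotMk_quotFactor _ _ _
  have h2 : P (quotMk B ⊥ hm ≫ quotFactor hm f bot_le) := by
    have hb : Function.Bijective (quotMk B ⊥ hm) := by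
      refine ⟨?_, quotMk_surjective _ _ _⟩
      intro x y hxy
      have := Ideal.Quotient.eq.1 hxy
      rw [Ideal.mem_bot] at this
      exact sub_eq_zero.1 this
    exact hcomp _ _ hb.2 (quotFactor_surjective _ _ _ hf) (hiso _ (isIso_of_bijective _ hb)) h0
  rw [h1] at h2
  exact h2

end K565.ArtTools
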