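import Groth.Agent.SGA7.K565.Glue

/-!
# Flatness over a fibre product of rings
-/

set_option autoImplicit false

universe u

open CategoryTheory CategoryTheory.Limits AlgebraicGeometry TopologicalSpace TensorProduct

namespace K565.GlueFlat

/-- Two base changes. -/
theorem flat_of_two (B : Type u) [CommRing B] [IsLocalRing B] (hnil : IsNilpotent (IsLocalRing.maximalIdeal B))
    (A₁ A₂ M : Type u) [CommRing A₁] [CommRing A₂] [Algebra B A₁] [Algebra B A₂]
    (hinj : ∀ b : B, algebraMap B A₁ b = 0 → algebraMap B A₂ b = 0 → b = 0) [AddCommGroup M] [Module B M]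
    (h₁ : Module.Flat A₁ (A₁ ⊗[B] M)) (h₂ : Module.Flat A₂ (A₂ ⊗[B] M)) : Module.Flat B M := by
  let F : Bool → Type u := fun b => Bool.rec A₁ A₂ b
  let c : ∀ i, CommRing (F i) := fun i => Bool.rec (inferInstanceAs (CommRing A₁)) (inferInstanceAs (CommRing A₂)) i
  let a : ∀ i, @Algebra B (F i) _ ((c i).toCommSemiring.toSemiring) := fun i =>
    Bool.rec (motive := fun i => @Algebra B (F i) _ ((c i).toCommSemiring.toSemiring))
      (inferInstanceAs (Algebra B A₁)) (inferInstanceAs (Algebra B A₂)) i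
  let _ : Field (B ⧸ IsLocalRing.maximalIdeal B) := Ideal.Quotient.field _
  refine @Groth.Agent.Ega43.NilpotentFlat.flat_of_nilpotent_of_injective B _ M _ _ Bool F c a _
    (IsLocalRing.maximalIdeal B) hnil ?_ ?_ ?_
  · intro b hb
    exact hinj b (hb false) (hb true)
  · infer_instance
  · intro i
    cases i
    · exact h₁
    · exact h₂

/-- Flatness of an affine base change, read on rings. -/
theorem flat_tensor_of_isPullback {B A C : Type u} [CommRing B] [CommRing A] [CommRing C] [Algebra B A] [Algebra B C]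
    {Q : Scheme.{u}} (q₁ : Q ⟶ Spec (CommRingCat.of C)) (q₂ : Q ⟶ Spec (CommRingCat.of A))
    (h : IsPullback q₁ q₂ (Spec.map (CommRingCat.ofHom (algebraMap B C))) (Spec.map (CommRingCat.ofHom (algebraMap B A))))
    [Flat q₂] : Module.Flat A (A ⊗[B] C) := by
  have h' := isPullback_SpecMap_of_isPushout _ _ _ _ (CommRingCat.isPushout_tensorProduct B A C)
  have h2 : Flat (Spec.map (CommRingCat.ofHom (S := A ⊗[B] C) Algebra.TensorProduct.includeLeftRingHom)) := by
    have e := h'.flip.isoIsPullback_hom_snd _ _ h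
    rw [← e]
    infer_instance
  rw [Flat.SpecMap_iff] at h2
  exact RingHom.flat_algebraMap_iff.1 h2

theorem flat_of_isPullback {B : Type u} [CommRing B] [IsLocalRing B] (hnil : IsNilpotent (IsLocalRing.maximalIdeal B))
    {A₁ A₂ : Type u} [CommRing A₁] [CommRing A₂] (p₁ : B →+* A₁) (p₂ : B →+* A₂)
    (hinj : ∀ b : B, p₁ b = 0 → p₂ b = 0 → b = 0) {W Y₁ Y₂ : Scheme.{u}} (k : W ⟶ Spec (CommRingCat.of B))
    (a₁ : Y₁ ⟶ W) (f₁ : Y₁ ⟶ Spec (CommRingCat.of A₁)) (a₂ : Y₂ ⟶ W) (f₂ : Y₂ ⟶ Spec (CommRingCat.of A₂))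
    (h₁ : IsPullback a₁ f₁ k (Spec.map (CommRingCat.ofHom p₁)))
    (h₂ : IsPullback a₂ f₂ k (Spec.map (CommRingCat.ofHom p₂))) [Flat f₁] [Flat f₂] : Flat k := by
  refine (IsZariskiLocalAtSource.iff_of_openCover (P := @Flat) W.affineOpenCover.openCover).mpr fun i ↦ ?_
  have he : IsOpenImmersion (W.affineOpenCover.f i) := inferInstance
  change Flat (W.affineOpenCover.f i ≫ k)
  generalize W.affineOpenCover.f i = e at he ⊢
  generalize W.affineOpenCover.X i = C₀ at e he ⊢
  -- write the composite as `Spec` of a ring map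
  obtain ⟨φ, hφ⟩ : ∃ φ : CommRingCat.of B ⟶ C₀, Spec.map φ = e ≫ k :=
    ⟨Spec.preimage (e ≫ k), Spec.map_preimage _⟩
  let C : Type u := C₀
  let _ : Algebra B C := φ.hom.toAlgebra
  let _ : Algebra B A₁ := p₁.toAlgebra
  let _ : Algebra B A₂ := p₂.toAlgebra
  have key : ∀ {A : Type u} [CommRing A] [Algebra B A] {Y : Scheme.{u}} (a : Y ⟶ W) (f : Y ⟶ Spec (CommRingCat.of A))
      (_ : IsPullback a f k (Spec.map (CommRingCat.ofHom (algebraMap B A)))) [Flat f], Module.Flat A (A ⊗[B] C) := by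
    intro A _ _ Y a f h _
    have h4 : Flat (pullback.snd e a ≫ f) := inferInstance
    have h5 : IsPullback (pullback.fst e a) (pullback.snd e a ≫ f) (e ≫ k)
        (Spec.map (CommRingCat.ofHom (algebraMap B A))) := (IsPullback.of_hasPullback e a).paste_vert h
    rw [← hφ] at h5
    exact flat_tensor_of_isPullback (C := C) _ _ h5
  have h6 : Module.Flat B C := flat_of_two B hnil A₁ A₂ C hinj (key a₁ f₁ h₁) (key a₂ f₂ h₂)
  rw [← hφ, Flat.SpecMap_iff]
  exact h6

end K565.GlueFlat
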