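import Groth.Prelude.Def_MoreMor
import Mathlib.AlgebraicGeometry.Morphisms.ClosedImmersion
import Mathlib.AlgebraicGeometry.IdealSheaf.Functorial

/-!
# `Spec` of a surjection with nilpotent kernel is a finite order thickening
-/

set_option autoImplicit false
universe u

open CategoryTheory CategoryTheory.Limits AlgebraicGeometry

namespace K565.Thick

variable {A A₀ : Type u} [CommRing A] [CommRing A₀] (φ : A →+* A₀) (hφ : Function.Surjective φ)

theorem ker_appTop : ∃ e : A ≃+* Γ(Spec (CommRingCat.of A), ⊤),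
    RingHom.ker ((Spec.map (CommRingCat.ofHom φ)).app ⊤).hom = (RingHom.ker φ).map e.toRingHom := by
  let e : A ≃+* Γ(Spec (CommRingCat.of A), ⊤) := (Scheme.ΓSpecIso (CommRingCat.of A)).symm.commRingCatIsoToRingEquiv
  refine ⟨e, ?_⟩
  have h := Scheme.ΓSpecIso_inv_naturality (CommRingCat.ofHom φ)
  have h' : ∀ a, ((Spec.map (CommRingCat.ofHom φ)).app ⊤).hom (e a) =
      (Scheme.ΓSpecIso (CommRingCat.of A₀)).inv.hom (φ a) := fun a => congr($(h).hom a).symm
  have hinj : Function.Injective (Scheme.ΓSpecIso (CommRingCat.of A₀)).inv.hom :=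
    (Scheme.ΓSpecIso (CommRingCat.of A₀)).symm.commRingCatIsoToRingEquiv.injective
  apply le_antisymm
  · intro x hx
    obtain ⟨a, rfl⟩ := e.surjective x
    refine Ideal.mem_map_of_mem e.toRingHom ?_
    rw [RingHom.mem_ker] at hx ⊢
    rw [h'] at hx
    exact hinj (hx.trans (map_zero _).symm)
  · rw [Ideal.map_le_iff_le_comap]
    intro a ha
    change ((Spec.map (CommRingCat.ofHom φ)).app ⊤).hom (e a) = 0
    rw [h', (show φ a = 0 from ha)]
    exact map_zero _

include hφ

theorem isFiniteOrderThickening (hn : IsNilpotent (RingHom.ker φ)) :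
    MoreMor.IsFiniteOrderThickening (Spec.map (CommRingCat.ofHom φ)) := by
  obtain ⟨n, hn⟩ := hn
  have h1 : IsClosedImmersion (Spec.map (CommRingCat.ofHom φ)) := IsClosedImmersion.spec_of_surjective _ hφ
  refine ⟨⟨h1, ?_⟩, n, ?_⟩
  · refine ⟨fun (x : PrimeSpectrum A) => ?_⟩
    have h3 : x ∈ Set.range (PrimeSpectrum.comap φ) := by
      rw [range_comap_of_surjective _ _ hφ]
      intro a ha
      have h4 : a ^ n = 0 := by
        have : a ^ n ∈ (RingHom.ker φ) ^ n := Ideal.pow_mem_pow ha n
        rwa [hn] at this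
      exact x.2.mem_of_pow_mem n (by rw [h4]; exact x.asIdeal.zero_mem)
    exact h3
  · obtain ⟨e, he⟩ := ker_appTop φ
    apply Scheme.IdealSheafData.ext_of_isAffine
    rw [Scheme.IdealSheafData.ideal_pow, Pi.pow_apply, Scheme.Hom.ker_apply, he, ← Ideal.map_pow, hn]
    rw [Submodule.zero_eq_bot, Ideal.map_bot]
    rfl

end K565.Thick
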