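import Groth.Prelude.Def_ArtFun4
import Groth.Agent.SGA7.K565.Thick
import Groth.Agent.SGA7.K565.ArtTools
import Groth.Agent.SGA7.K565.GlueFlat
import Groth.Agent.S1318

/-!
# The category of deformations: base change morphisms, morphisms are isomorphisms, glueing
-/

set_option autoImplicit false

universe u

open CategoryTheory CategoryTheory.Limits AlgebraicGeometry ArtFun ArtFun.Art K565.ArtTools

namespace K565.DefCat

variable {Λ k : Type u} [CommRing Λ] [Field k] [Algebra Λ k] {X : Scheme.{u}} {x : X ⟶ specPt k}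

/-- `ξ` is the base change of `η` along `g`. -/
structure BC {B A : Art Λ k} (η : DefSch (Λ := Λ) X x B) (g : B ⟶ A) (ξ : DefSch (Λ := Λ) X x A) where
  /-- the map on total spaces -/
  t : ξ.total ⟶ η.total
  isPullback : IsPullback t ξ.f η.f (specMap g)
  i_t : ξ.i ≫ t = η.i

variable {A B C : Art Λ k}

/-- The canonical one. -/
noncomputable def BC.canonical (η : DefSch (Λ := Λ) X x B) (g : B ⟶ A) : BC η g (η.baseChange g) :=
  ⟨pullback.fst _ _, IsPullback.of_hasPullback _ _, DefSch.baseChange_i_fst η g⟩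

/-- Uniqueness of base change. -/
theorem BC.exists_iso {η : DefSch (Λ := Λ) X x B} {g : B ⟶ A} {ξ ξ' : DefSch (Λ := Λ) X x A} (b : BC η g ξ)
    (b' : BC η g ξ') : ∃ e : ξ.Iso ξ', e.iso.hom ≫ b'.t = b.t := by
  refine ⟨⟨b.isPullback.isoIsPullback _ _ b'.isPullback, b.isPullback.isoIsPullback_hom_snd _ _ b'.isPullback, ?_⟩,
    b.isPullback.isoIsPullback_hom_fst _ _ b'.isPullback⟩
  apply b'.isPullback.hom_ext
  · rw [Category.assoc, b.isPullback.isoIsPullback_hom_fst _ _ b'.isPullback, b.i_t, b'.i_t]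
  · rw [Category.assoc, b.isPullback.isoIsPullback_hom_snd _ _ b'.isPullback, DefSch.i_f, DefSch.i_f]

/-- Composition. -/
def BC.comp {η : DefSch (Λ := Λ) X x B} {g : B ⟶ A} {ξ : DefSch (Λ := Λ) X x A} {h : A ⟶ C}
    {ζ : DefSch (Λ := Λ) X x C} (b : BC η g ξ) (c : BC ξ h ζ) : BC η (g ≫ h) ζ where
  t := c.t ≫ b.t
  isPullback := by
    rw [specMap_comp]
    exact c.isPullback.paste_horiz b.isPullback
  i_t := by rw [← Category.assoc, c.i_t, b.i_t]

/-- Transport along an isomorphism of the base change. -/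
def BC.ofIso {η : DefSch (Λ := Λ) X x B} {g : B ⟶ A} {ξ ξ' : DefSch (Λ := Λ) X x A} (b : BC η g ξ) (e : ξ'.Iso ξ) :
    BC η g ξ' where
  t := e.iso.hom ≫ b.t
  isPullback := by
    have h : IsPullback e.iso.hom ξ'.f ξ.f (𝟙 _) := IsPullback.of_horiz_isIso ⟨by rw [e.hom_f, Category.comp_id]⟩
    have h2 := h.paste_horiz b.isPullback
    rwa [Category.id_comp] at h2
  i_t := by rw [← Category.assoc, e.i_hom, b.i_t]

/-- Transport along an isomorphism of the total deformation. -/
def BC.toIso {η η' : DefSch (Λ := Λ) X x B} {g : B ⟶ A} {ξ : DefSch (Λ := Λ) X x A} (b : BC η g ξ) (e : η.Iso η') :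
    BC η' g ξ where
  t := b.t ≫ e.iso.hom
  isPullback := by
    have h : IsPullback e.iso.hom η.f η'.f (𝟙 _) := IsPullback.of_horiz_isIso ⟨by rw [e.hom_f, Category.comp_id]⟩
    have h2 := b.isPullback.paste_horiz h
    rwa [Category.comp_id] at h2
  i_t := by rw [← Category.assoc, b.i_t, e.i_hom]

theorem cl_eq_iff {ξ ξ' : DefSch (Λ := Λ) X x A} : ξ.cl = ξ'.cl ↔ Nonempty (ξ.Iso ξ') :=
  ⟨fun h => Quotient.exact h, fun h => Quotient.sound h⟩

theorem map_cl_eq_iff {η : DefSch (Λ := Λ) X x B} {g : B ⟶ A} {ξ : DefSch (Λ := Λ) X x A} :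
    (defFunctor X x).map g η.cl = ξ.cl ↔ Nonempty (BC η g ξ) := by
  rw [defFunctor_map_cl, cl_eq_iff]
  constructor
  · rintro ⟨e⟩
    exact ⟨(BC.canonical η g).ofIso e.symm⟩
  · rintro ⟨b⟩
    obtain ⟨e, -⟩ := (BC.canonical η g).exists_iso b
    exact ⟨e⟩

theorem exists_rep (z : (defFunctor (Λ := Λ) X x).obj A) : ∃ ξ : DefSch (Λ := Λ) X x A, ξ.cl = z :=
  Quotient.exists_rep z

/-! ### Morphisms of deformations are isomorphisms -/

theorem isFiniteOrderThickening_specRes (B : Art Λ k) : MoreMor.IsFiniteOrderThickening (specRes B) := by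
  apply K565.Thick.isFiniteOrderThickening _ B.res_surjective
  have h : RingHom.ker B.res.toRingHom = IsLocalRing.maximalIdeal B := by
    ext a
    rw [Art.mem_maximalIdeal_iff]
    rfl
  rw [h]
  exact isNilpotent_maximalIdeal B

theorem isIso_of_morphism {η η' : DefSch (Λ := Λ) X x B} (φ : η.total ⟶ η'.total) (hf : φ ≫ η'.f = η.f)
    (hi : η.i ≫ φ = η'.i) : IsIso φ := by
  have hfl : Flat (φ ≫ η'.f) := by rw [hf]; infer_instance
  refine (Groth.Agent.S1318.result η.i η'.i (specRes B) (𝟙 X) φ x η'.f (isFiniteOrderThickening_specRes B) ?_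
    η'.isPullback ?_).1 inferInstance
  · rw [Category.id_comp, hf]
    exact η.isPullback
  · rw [Category.id_comp, hi]

/-- A morphism of deformations gives an isomorphism of deformations. -/
noncomputable def isoOfMorphism {η η' : DefSch (Λ := Λ) X x B} (φ : η.total ⟶ η'.total) (hf : φ ≫ η'.f = η.f)
    (hi : η.i ≫ φ = η'.i) : η.Iso η' :=
  have := isIso_of_morphism φ hf hi
  ⟨asIso φ, hf, hi⟩

/-! ### The augmentation as a base change -/

/-- Over the field everything is trivial. -/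
theorem isIso_i (ξ : DefSch (Λ := Λ) X x (base Λ k)) : IsIso ξ.i :=
  MorphismProperty.of_isPullback (P := MorphismProperty.isomorphisms Scheme) ξ.isPullback.flip
    (Art.isIso_specRes_base (Λ := Λ) (k := k))

/-- Every deformation over the field is isomorphic to every other. -/
theorem nonempty_iso_base (ξ ξ' : DefSch (Λ := Λ) X x (base Λ k)) : Nonempty (ξ.Iso ξ') := by
  have h1 := isIso_i ξ
  have h2 := isIso_i ξ'
  refine ⟨⟨asIso (inv ξ.i ≫ ξ'.i), ?_, ?_⟩⟩
  · rw [asIso_hom, Category.assoc, DefSch.i_f, IsIso.inv_comp_eq, DefSch.i_f]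
  · rw [asIso_hom, ← Category.assoc, IsIso.hom_inv_id, Category.id_comp]

end K565.DefCat
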