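import Groth.Agent.SGA7.K565.DefGlue

/-!
# The deformation functor: `H0`, `S1`, `Heps`, and lifting of automorphisms
-/

set_option autoImplicit false

universe u

open CategoryTheory CategoryTheory.Limits AlgebraicGeometry ArtFun ArtFun.Art K565.ArtTools K565.DefCat K565.DefGlue

namespace K565.DefFun

variable {Λ k : Type u} [CommRing Λ] [Field k] [Algebra Λ k] (X : Scheme.{u}) (x : X ⟶ specPt k)

theorem h0 : H0 (defFunctor (Λ := Λ) X x) := by
  constructor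
  · exact ⟨(DefSch.self X x inferInstance).cl⟩
  · refine ⟨fun a b => ?_⟩
    obtain ⟨ξ, rfl⟩ := exists_rep a
    obtain ⟨ξ', rfl⟩ := exists_rep b
    exact cl_eq_iff.2 (nonempty_iso_base ξ ξ')

theorem s1 : S1 (defFunctor (Λ := Λ) X x) := by
  rintro B A A₁ A₂ p₁ p₂ f₁ f₂ h hf₂ ⟨⟨z₁, z₂⟩, hz⟩
  obtain ⟨ξ₁, rfl⟩ := exists_rep z₁
  obtain ⟨ξ₂, rfl⟩ := exists_rep z₂
  have hz' : (defFunctor X x).map f₂ ξ₂.cl = (ξ₁.baseChange f₁).cl := hz.symm
  obtain ⟨b₂⟩ := map_cl_eq_iff.1 hz'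
  obtain ⟨η, c₁, c₂, -⟩ := exists_glued h hf₂ (BC.canonical ξ₁ f₁) b₂
  refine ⟨η.cl, ?_⟩
  apply FibProd.ext
  · exact map_cl_eq_iff.2 ⟨c₁⟩
  · exact map_cl_eq_iff.2 ⟨c₂⟩

variable {X x}

/-- Lifting of automorphisms along `p`. -/
def AutLift {A' A : Art Λ k} (p : A' ⟶ A) : Prop :=
  ∀ ξ' : DefSch (Λ := Λ) X x A', Function.Surjective (fun e : ξ'.Iso ξ' => e.baseChange p)

theorem iso_ext {A : Art Λ k} {ξ ξ' : DefSch (Λ := Λ) X x A} {e e' : ξ.Iso ξ'} (h : e.iso.hom = e'.iso.hom) : e = e' := by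
  obtain ⟨i, _, _⟩ := e
  obtain ⟨i', _, _⟩ := e'
  have : i = i' := Iso.ext h
  subst this
  rfl

theorem baseChange_hom_t {A' A : Art Λ k} (p : A' ⟶ A) {ξ ξ' : DefSch (Λ := Λ) X x A'} (e : ξ.Iso ξ') :
    (e.baseChange p).iso.hom ≫ (BC.canonical ξ' p).t = (BC.canonical ξ p).t ≫ e.iso.hom :=
  DefSch.pullMap_fst e.iso.hom e.hom_f p

/-- Injectivity of the comparison map, given lifting of automorphisms. -/
theorem cmp_injective_of_autLift {B A A₁ A₂ : Art Λ k} {p₁ : B ⟶ A₁} {p₂ : B ⟶ A₂} {f₁ : A₁ ⟶ A} {f₂ : A₂ ⟶ A}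
    (h : IsFibreProd p₁ p₂ f₁ f₂) (hf₂ : Function.Surjective f₂) (haut : AutLift (X := X) (x := x) f₂) :
    Function.Injective (cmp (defFunctor (Λ := Λ) X x) h) := by
  intro z z' hzz'
  obtain ⟨η, rfl⟩ := exists_rep z
  obtain ⟨η', rfl⟩ := exists_rep z'
  have h1 : (defFunctor X x).map p₁ η'.cl = (η.baseChange p₁).cl :=
    (congrArg (fun t => t.1.1) hzz').symm
  have h2 : (defFunctor X x).map p₂ η'.cl = (η.baseChange p₂).cl :=
    (congrArg (fun t => t.1.2) hzz').symm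
  obtain ⟨c₁'⟩ := map_cl_eq_iff.1 h1
  obtain ⟨c₂'⟩ := map_cl_eq_iff.1 h2
  have c₁ := BC.canonical η p₁
  have c₂ := BC.canonical η p₂
  generalize η.baseChange p₁ = ξ₁ at *
  generalize η.baseChange p₂ = ξ₂ at *
  -- base change to `A`
  let b₂ := BC.canonical ξ₂ f₂
  obtain ⟨b₁, hb₁⟩ := exists_compat_bc h.w.symm b₂ c₂ c₁
  obtain ⟨b₂', hb₂'⟩ := exists_compat_bc h.w b₁ c₁' c₂'
  -- `b₂` and `b₂'` differ by an automorphism
  obtain ⟨e, he⟩ := b₂.exists_iso b₂'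
  obtain ⟨e₀, he₀⟩ := haut ξ₂ e
  have h3 : e.iso.hom ≫ b₂.t = b₂.t ≫ e₀.iso.hom := by
    rw [← he₀]
    exact baseChange_hom_t f₂ e₀
  -- correct `c₂'`
  have h4 : b₂'.t = e.iso.inv ≫ b₂.t := by rw [← he, e.iso.inv_hom_id_assoc]
  have h5 : e.iso.inv ≫ b₂.t = b₂.t ≫ e₀.iso.inv := by
    rw [Iso.inv_comp_eq, ← Category.assoc, h3, Category.assoc, Iso.hom_inv_id, Category.comp_id]
  obtain ⟨θ, -⟩ := exists_iso_of_compat h hf₂ b₁ b₂ c₁ c₂ hb₁.symm c₁' (c₂'.ofIso e₀.symm) (by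
    rw [hb₂', h4, h5, Category.assoc]
    rfl)
  exact cl_eq_iff.2 ⟨θ⟩

theorem autLift_toBase (A' : Art Λ k) : AutLift (X := X) (x := x) (toBase A') := by
  intro ξ' e
  refine ⟨DefSch.Iso.refl ξ', ?_⟩
  apply iso_ext
  have h1 := isIso_i (ξ'.baseChange (toBase A'))
  rw [← cancel_epi (ξ'.baseChange (toBase A')).i, e.i_hom]
  exact ((DefSch.Iso.refl ξ').baseChange (toBase A')).i_hom

variable (X x)

theorem heps : Heps (defFunctor (Λ := Λ) X x) := by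
  intro B A' p' p'' h
  have hs : Function.Surjective (toBase (dual Λ k)) := (dual Λ k).res_surjective
  exact ⟨cmp_injective_of_autLift h hs (autLift_toBase _), s1 X x p' p'' _ _ h hs⟩

variable {X x}

/-- Conversely injectivity of the comparison map for `A' ×_A A'` gives lifting of automorphisms. -/
theorem autLift_of_cmp_injective {C A A' : Art Λ k} {p : A' ⟶ A} (hp : Function.Surjective p) {p₁ p₂ : C ⟶ A'}
    (h : IsFibreProd p₁ p₂ p p) (hinj : Function.Injective (cmp (defFunctor (Λ := Λ) X x) h)) :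
    AutLift (X := X) (x := x) p := by
  intro ξ' σ
  let b := BC.canonical ξ' p
  obtain ⟨η₁, c₁, c₂, hpo⟩ := exists_glued h hp b b
  obtain ⟨η₂, c₁', c₂', hpo'⟩ := exists_glued h hp b (b.ofIso σ)
  have h1 : η₁.cl = η₂.cl := by
    apply hinj
    apply FibProd.ext
    · exact (map_cl_eq_iff.2 ⟨c₁⟩).trans (map_cl_eq_iff.2 ⟨c₁'⟩).symm
    · exact (map_cl_eq_iff.2 ⟨c₂⟩).trans (map_cl_eq_iff.2 ⟨c₂'⟩).symm
  obtain ⟨θ⟩ := cl_eq_iff.1 h1
  obtain ⟨α, hα⟩ := (c₁.toIso θ).exists_iso c₁'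
  obtain ⟨β, hβ⟩ := (c₂.toIso θ).exists_iso c₂'
  have hα' : α.iso.hom ≫ c₁'.t = c₁.t ≫ θ.iso.hom := hα
  have hβ' : β.iso.hom ≫ c₂'.t = c₂.t ≫ θ.iso.hom := hβ
  have e1 : (α.baseChange p).iso.hom ≫ b.t = b.t ≫ α.iso.hom := baseChange_hom_t p α
  have e2 : (β.baseChange p).iso.hom ≫ b.t = b.t ≫ β.iso.hom := baseChange_hom_t p β
  have w1 : b.t ≫ c₂.t = b.t ≫ c₁.t := hpo.w
  have w2 : (σ.iso.hom ≫ b.t) ≫ c₂'.t = b.t ≫ c₁'.t := hpo'.w
  have key : (α.baseChange p).iso.hom ≫ σ.iso.hom = (β.baseChange p).iso.hom := by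
    apply (c₂'.comp b).isPullback.hom_ext
    · change _ ≫ (b.t ≫ c₂'.t) = _ ≫ (b.t ≫ c₂'.t)
      rw [Category.assoc]
      have w2' : σ.iso.hom ≫ b.t ≫ c₂'.t = b.t ≫ c₁'.t := by rw [← Category.assoc, w2]
      rw [w2', ← Category.assoc, e1, Category.assoc, hα', ← Category.assoc, ← w1, Category.assoc, ← hβ',
        ← Category.assoc, ← e2, Category.assoc]
    · rw [Category.assoc, σ.hom_f, (α.baseChange p).hom_f, (β.baseChange p).hom_f]
  refine ⟨α.symm.trans β, ?_⟩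
  apply iso_ext
  have e3 : ((α.symm.trans β).baseChange p).iso.hom = (α.baseChange p).iso.inv ≫ (β.baseChange p).iso.hom := by
    apply b.isPullback.hom_ext
    · rw [baseChange_hom_t p (α.symm.trans β), Category.assoc, e2, ← Category.assoc]
      change b.t ≫ (α.iso.inv ≫ β.iso.hom) = _
      rw [← Category.assoc]
      congr 1
      rw [Iso.eq_inv_comp, ← Category.assoc, e1, Category.assoc, Iso.hom_inv_id, Category.comp_id]
    · rw [((α.symm.trans β).baseChange p).hom_f, Category.assoc, (β.baseChange p).hom_f, Iso.eq_inv_comp,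
        (α.baseChange p).hom_f]
  change ((α.symm.trans β).baseChange p).iso.hom = σ.iso.hom
  rw [e3, ← key, Iso.inv_hom_id_assoc]

end K565.DefFun
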