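import Groth.Agent.SGA7.K565.SmallTangent

/-!
# The injectivity of `SmallTangent` for natural families across universes, and for `h_R`
-/

set_option autoImplicit false

universe u v w

open CategoryTheory ArtFun ArtFun.Art K565.ArtTools K565.SmallTangent

namespace K565.SmallTangent2

variable {Λ k : Type u} [CommRing Λ] [Field k] [Algebra Λ k]

/-- The key injectivity. -/
theorem eq_of_tangent_injective (hk : Function.Surjective (algebraMap Λ k)) {G : Art Λ k ⥤ Type v}
    {H : Art Λ k ⥤ Type w} (ψ : ∀ A : Art Λ k, G.obj A → H.obj A)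
    (hnat : ∀ {A B : Art Λ k} (f : A ⟶ B) (g : G.obj A), ψ B (G.map f g) = H.map f (ψ A g))
    (hG1 : S1 G) (hG2 : Heps G)
    (hH : ∀ ⦃B A A' A'' : Art Λ k⦄ (p' : B ⟶ A') (p'' : B ⟶ A'') (f' : A' ⟶ A) (f'' : A'' ⟶ A)
      (h : IsFibreProd p' p'' f' f''), Function.Surjective f'' → Function.Injective (cmp H h))
    (hψ : Function.Injective (ψ (dual Λ k)))
    ⦃A B : Art Λ k⦄ (p : B ⟶ A) (hp : Function.Surjective p) (g g' : G.obj B)
    (hgA : G.map p g = G.map p g') (hgH : ψ B g = ψ B g') : g = g' := by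
  revert g g'
  refine smallExt_induction (fun A B p => ∀ g g' : G.obj B, G.map p g = G.map p g' →
    ψ B g = ψ B g' → g = g') ?_ ?_ ?_ p hp
  · intro A B e he g g' h1 _
    have : Function.Injective (G.map e) := by
      intro x y hxy
      have h2 := congrArg (G.map (inv e)) hxy
      rw [← Functor.map_comp_apply, ← Functor.map_comp_apply, IsIso.hom_inv_id, G.map_id] at h2
      exact h2
    exact this h1
  · intro A B p hp g g' h1 h2
    obtain ⟨C, p₁, p₂, hC⟩ := exists_isFibreProd hk p p hp.1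
    obtain ⟨q, hq⟩ := exists_isFibreProd_dual hp hC
    obtain ⟨Δ, hΔ₁, hΔ₂⟩ := exists_lift hC (𝟙 B) (𝟙 B) rfl
    obtain ⟨z, hz⟩ := hG1 p₁ p₂ p p hC hp.1 ⟨(g, g'), h1⟩
    have hz₁ : G.map p₁ z = g := congrArg (fun x => x.1.1) hz
    have hz₂ : G.map p₂ z = g' := congrArg (fun x => x.1.2) hz
    -- in `H`, `z` is diagonal
    have hzH : ψ C z = H.map Δ (ψ B g) := by
      apply hH p₁ p₂ p p hC hp.1
      apply FibProd.ext
      · change H.map p₁ (ψ C z) = H.map p₁ (H.map Δ (ψ B g))
        rw [← hnat, hz₁, ← Functor.map_comp_apply, hΔ₁, H.map_id]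
        rfl
      · change H.map p₂ (ψ C z) = H.map p₂ (H.map Δ (ψ B g))
        rw [← hnat, hz₂, ← Functor.map_comp_apply, hΔ₂, H.map_id, ← h2]
        rfl
    -- so its tangent component is trivial
    have hzq : G.map q z = G.map q (G.map Δ g) := by
      apply hψ
      rw [hnat, hnat, hnat, hzH]
    have hzΔ : z = G.map Δ g := by
      apply (hG2 p₁ q hq).1
      apply FibProd.ext
      · change G.map p₁ z = G.map p₁ (G.map Δ g)
        rw [hz₁, ← Functor.map_comp_apply, hΔ₁, G.map_id]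
        rfl
      · exact hzq
    rw [← hz₂, hzΔ, ← Functor.map_comp_apply, hΔ₂, G.map_id]
    rfl
  · intro A B C p q hp hq ih1 ih2 g g' h1 h2
    rw [Functor.map_comp_apply, Functor.map_comp_apply] at h1
    have h3 := ih2 _ _ h1 (by
      rw [hnat, hnat, h2])
    exact ih1 _ _ h3 h2

section HR

variable {R : Type u} [CommRing R] [Algebra Λ R] (resR : R →ₐ[Λ] k)

theorem hR_ext {A : Art Λ k} {φ φ' : HomSet R resR A} (h : ∀ r, φ.1 r = φ'.1 r) : φ = φ' :=
  Subtype.ext (AlgHom.ext h)

/-- `h_R` is left exact. -/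
theorem isLeftExact_hR : IsLeftExact (hR R resR) := by
  intro B A A' A'' p' p'' f' f'' h
  constructor
  · intro φ φ' hφ
    apply hR_ext
    intro r
    refine h.inj _ _ ?_ ?_
    · have h1 := congrArg (fun t => t.1.1) hφ
      exact congrArg (fun ψ : HomSet R resR A' => ψ.1 r) h1
    · have h1 := congrArg (fun t => t.1.2) hφ
      exact congrArg (fun ψ : HomSet R resR A'' => ψ.1 r) h1
  · rintro ⟨⟨φ', φ''⟩, hφ⟩
    have hφ' : ∀ r, f' (φ'.1 r) = f'' (φ''.1 r) := fun r =>
      congrArg (fun ψ : HomSet R resR A => ψ.1 r) hφ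
    choose s hs using fun r => h.surj (φ'.1 r) (φ''.1 r) (hφ' r)
    have hs1 : ∀ r, p'.toAlgHom (s r) = φ'.1 r := fun r => (hs r).1
    have hs2 : ∀ r, p''.toAlgHom (s r) = φ''.1 r := fun r => (hs r).2
    have hinj : ∀ b₁ b₂ : B, p'.toAlgHom b₁ = p'.toAlgHom b₂ → p''.toAlgHom b₁ = p''.toAlgHom b₂ → b₁ = b₂ := h.inj
    let φ : R →ₐ[Λ] B :=
      { toFun := s
        map_one' := hinj _ _ (by rw [hs1, map_one, map_one]) (by rw [hs2, map_one, map_one])
        map_mul' := fun a b => hinj _ _ (by rw [hs1, map_mul, map_mul, hs1, hs1]) (by rw [hs2, map_mul, map_mul, hs2, hs2])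
        map_zero' := hinj _ _ (by
          change p'.toAlgHom (s 0) = p'.toAlgHom 0
          rw [hs1, map_zero, map_zero]) (by
          change p''.toAlgHom (s 0) = p''.toAlgHom 0
          rw [hs2, map_zero, map_zero])
        map_add' := fun a b => hinj _ _ (by
          change p'.toAlgHom (s (a + b)) = p'.toAlgHom (s a + s b)
          rw [hs1, map_add, map_add, hs1, hs1]) (by
          change p''.toAlgHom (s (a + b)) = p''.toAlgHom (s a + s b)
          rw [hs2, map_add, map_add, hs2, hs2])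
        commutes' := fun l => hinj _ _ (by
          change p'.toAlgHom (s _) = _
          rw [hs1, AlgHom.commutes, AlgHom.commutes]) (by
          change p''.toAlgHom (s _) = _
          rw [hs2, AlgHom.commutes, AlgHom.commutes]) }
    refine ⟨⟨φ, ?_⟩, ?_⟩
    · apply AlgHom.ext
      intro r
      change B.res (s r) = resR r
      rw [← Art.res_app p']
      change A'.res (p'.toAlgHom (s r)) = _
      rw [hs1, ← AlgHom.comp_apply, φ'.2]
    · apply FibProd.ext
      · exact hR_ext _ fun r => hs1 r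
      · exact hR_ext _ fun r => hs2 r

theorem s1_hR : S1 (hR R resR) := fun _ _ _ _ p' p'' f' f'' h _ => (isLeftExact_hR resR p' p'' f' f'' h).2

theorem heps_hR : Heps (hR R resR) := fun _ _ p' p'' h => isLeftExact_hR resR p' p'' _ _ h

theorem hR_base_subsingleton : Subsingleton ((hR R resR).obj (base Λ k)) := by
  refine ⟨fun φ φ' => ?_⟩
  apply hR_ext
  intro r
  have h1 : (base Λ k).res.comp φ.1 = resR := φ.2
  have h2 : (base Λ k).res.comp φ'.1 = resR := φ'.2
  have h3 : (base Λ k).res (φ.1 r) = (base Λ k).res (φ'.1 r) := by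
    rw [← AlgHom.comp_apply, ← AlgHom.comp_apply, h1, h2]
  exact h3

end HR

/-- A miniversal family of a functor whose comparison maps are injective (for surjections) is universal. -/
theorem isUniversal_of_isMiniversal (hk : Function.Surjective (algebraMap Λ k)) {F : Art Λ k ⥤ Type w} (h0 : H0 F)
    (hF : ∀ ⦃B A A' A'' : Art Λ k⦄ (p' : B ⟶ A') (p'' : B ⟶ A'') (f' : A' ⟶ A) (f'' : A'' ⟶ A)
      (h : IsFibreProd p' p'' f' f''), Function.Surjective f'' → Function.Injective (cmp F h))
    {R : Type u} [CommRing R] [Algebra Λ R] {resR : R →ₐ[Λ] k} (ξ : Family R resR F) (hξ : IsMiniversal ξ) :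
    IsUniversal ξ := by
  intro A
  constructor
  · intro φ φ' hφ
    have := hR_base_subsingleton resR
    exact eq_of_tangent_injective hk (G := hR R resR) (H := F) (fun A φ => ξ.app A φ) (fun f g => ξ.natural f g)
      (s1_hR resR) (heps_hR resR) hF hξ.2.1 (toBase A) A.res_surjective φ φ' (Subsingleton.elim _ _) hφ
  · intro y
    have := h0.2
    let φ₀ : HomSet R resR (base Λ k) := ⟨resR, AlgHom.id_comp _⟩
    obtain ⟨ψ, -, hψ⟩ := hξ.1 (toBase A) A.res_surjective φ₀ y (Subsingleton.elim _ _)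
    exact ⟨ψ, hψ⟩

/-- The comparison maps of a pro-representable functor are bijective. -/
theorem isLeftExact_of_isUniversal {F : Art Λ k ⥤ Type w} {R : Type u} [CommRing R] [Algebra Λ R] {resR : R →ₐ[Λ] k}
    (ξ : Family R resR F) (hξ : IsUniversal ξ) : IsLeftExact F := by
  intro B A A' A'' p' p'' f' f'' h
  have hb := isLeftExact_hR resR p' p'' f' f'' h
  constructor
  · intro z z' hz
    obtain ⟨φ, rfl⟩ := (hξ B).2 z
    obtain ⟨φ', rfl⟩ := (hξ B).2 z'
    congr 1
    apply hb.1
    have h1 : F.map p' (ξ.app B φ) = F.map p' (ξ.app B φ') := congrArg (fun t => t.1.1) hz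
    have h2 : F.map p'' (ξ.app B φ) = F.map p'' (ξ.app B φ') := congrArg (fun t => t.1.2) hz
    rw [← ξ.natural, ← ξ.natural] at h1 h2
    apply FibProd.ext
    · exact (hξ A').1 h1
    · exact (hξ A'').1 h2
  · rintro ⟨⟨z', z''⟩, hz⟩
    obtain ⟨φ', rfl⟩ := (hξ A').2 z'
    obtain ⟨φ'', rfl⟩ := (hξ A'').2 z''
    have hz' : F.map f' (ξ.app A' φ') = F.map f'' (ξ.app A'' φ'') := hz
    rw [← ξ.natural, ← ξ.natural] at hz'
    obtain ⟨φ, hφ⟩ := hb.2 ⟨(φ', φ''), (hξ A).1 hz'⟩
    have e1 : HomSet.map p' φ = φ' := congrArg (fun t => t.1.1) hφ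
    have e2 : HomSet.map p'' φ = φ'' := congrArg (fun t => t.1.2) hφ
    refine ⟨ξ.app B φ, ?_⟩
    apply FibProd.ext
    · change F.map p' (ξ.app B φ) = ξ.app A' φ'
      rw [← ξ.natural, e1]
    · change F.map p'' (ξ.app B φ) = ξ.app A'' φ''
      rw [← ξ.natural, e2]

end K565.SmallTangent2
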