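import Groth.Agent.Models.NLIdeal
import Groth.Agent.Models.KoszulCot
import Groth.Agent.Deform.K681.KosRel
import Groth.Agent.Sga67.KoszulH1
import Groth.Agent.DefT.K694.Basic
import Mathlib.RingTheory.Polynomial.Basic

/-!
# `T²` vanishes for local complete intersections
-/

set_option autoImplicit false

universe u v w t m

open TensorProduct

namespace K565.LciT2

open K681.KosRel

/-- Relations with coefficients in a Koszul-regular ideal are trivial. -/
theorem mem_TR_of_isKoszulRegularIdeal {R : Type u} [CommRing R] {σ : Type w} (f : σ → R)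
    (hf : LCI.IsKoszulRegularIdeal (Ideal.span (Set.range f))) {q : σ →₀ R} (hq : ev f q = 0)
    (hqI : ∀ s, q s ∈ Ideal.span (Set.range f)) : q ∈ TR f := by
  classical
  let a : Ideal R := (TR f).comap (LinearMap.toSpanSingleton R _ q)
  have ha : ∀ r : R, r ∈ a ↔ r • q ∈ TR f := fun r => by
    change (LinearMap.toSpanSingleton R _ q) r ∈ TR f ↔ _
    rw [LinearMap.toSpanSingleton_apply]
  have htop : a = ⊤ := by
    by_contra hne
    obtain ⟨𝔪, h𝔪, hle⟩ := Ideal.exists_le_maximal a hne
    by_cases hI : Ideal.span (Set.range f) ≤ 𝔪
    · obtain ⟨g, hg, l, hl, hIl⟩ := hf ⟨𝔪, h𝔪.isPrime⟩ hI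
      have hy := Groth.Agent.Sga67.KoszulH1.isH1Regular_of_isKoszulRegularSeq l hl
      have hspan : Ideal.span (Set.range fun s => algebraMap R (Localization.Away g) (f s)) =
          Ideal.span (Set.range l.get) := by
        rw [Ideal.map_span, ← Set.range_comp] at hIl
        refine hIl.trans ?_
        congr 1
        ext x
        simp [List.mem_iff_get]
      have h1 := mem_TR_of_isH1Regular (f := fun s => algebraMap R (Localization.Away g) (f s)) hy hspan
        (q := q.mapRange (algebraMap R (Localization.Away g)) (map_zero _)) (by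
          have h2 : ∀ q : σ →₀ R, ev (fun s => algebraMap R (Localization.Away g) (f s))
              (q.mapRange (algebraMap R (Localization.Away g)) (map_zero _)) =
              algebraMap R (Localization.Away g) (ev f q) := by
            intro q
            simp only [ev, Finsupp.linearCombination_apply, Finsupp.sum]
            rw [map_sum]
            rw [Finset.sum_subset (Finsupp.support_mapRange (f := algebraMap R (Localization.Away g))
              (hf := map_zero _) (g := q))]
            · refine Finset.sum_congr rfl fun s _ => ?_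
              simp
            · intro s _ hs
              rw [Finsupp.notMem_support_iff] at hs
              rw [hs, zero_smul]
          rw [h2, hq, map_zero]) (by
          intro s
          have h3 : Ideal.span (Set.range fun s => algebraMap R (Localization.Away g) (f s)) =
              (Ideal.span (Set.range f)).map (algebraMap R (Localization.Away g)) := by
            rw [Ideal.map_span, ← Set.range_comp]
            rfl
          rw [h3, Finsupp.mapRange_apply]
          exact Ideal.mem_map_of_mem _ (hqI s))
      obtain ⟨m, ⟨n, rfl⟩, hm⟩ := exists_smul_mem_TR_of_localization (Submonoid.powers g)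
        (Localization.Away g) f q h1
      exact hg (h𝔪.isPrime.mem_of_pow_mem n (hle ((ha _).2 hm)))
    · obtain ⟨x, hx, hx'⟩ := Set.not_subset.1 hI
      have : ∃ s, f s ∉ 𝔪 := by
        by_contra hcon
        push Not at hcon
        apply hI
        rw [Ideal.span_le]
        rintro _ ⟨s, rfl⟩
        exact hcon s
      obtain ⟨s, hs⟩ := this
      apply hs
      apply hle
      rw [ha]
      have := ev_smul_sub_mem f (Finsupp.single s 1) q
      rwa [hq, zero_smul, sub_zero, ev, Finsupp.linearCombination_single, one_smul] at this
  have : (1 : R) ∈ a := htop ▸ trivial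
  rw [ha, one_smul] at this
  exact this

open CotT

variable {A : Type u} {B : Type v} {ι : Type w} {σ : Type t}
variable [CommRing A] [CommRing B] [Algebra A B]
variable (P : Algebra.Presentation A B ι σ)

lemma span_rel : Ideal.span (Set.range (rel P)) = P.toExtension.ker :=
  P.span_range_relation_eq_ker

lemma mem_trivRel_of (h : LCI.IsKoszulRegularIdeal P.toExtension.ker) {q : relMod P} (hq : q ∈ relKer P)
    (hqI : ∀ s, q s ∈ P.toExtension.ker) : q ∈ trivRel P := by
  rw [← span_rel P] at h hqI
  have h1 := mem_TR_of_isKoszulRegularIdeal (rel P) h (q := q) hq hqI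
  have h2 : TR (rel P) ≤ trivRel P := by
    refine Submodule.span_le.2 ?_
    rintro _ ⟨s, t, rfl⟩
    refine Submodule.subset_span ⟨Finsupp.single s 1, Finsupp.single t 1, ?_⟩
    rw [jmap_single, jmap_single, one_mul, one_mul]
  exact h2 h1

lemma d2_injective (h : LCI.IsKoszulRegularIdeal P.toExtension.ker) : Function.Injective (d2 P) := by
  rw [← LinearMap.ker_eq_bot, LinearMap.ker_eq_bot']
  intro z hz
  obtain ⟨z, rfl⟩ := Submodule.Quotient.mk_surjective _ z
  obtain ⟨q, rfl⟩ := K694.Basic.exists_one_tmul (N := ↥(relKer P)) (K694.Basic.algebraMap_surj P) z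
  rw [d2_mk_tmul] at hz
  have h1 : ∀ s, (q : relMod P) s ∈ P.toExtension.ker := by
    intro s
    have h2 : (LinearMap.lTensor B (Finsupp.lapply (M := P.toExtension.Ring) (R := P.toExtension.Ring) s)) ((1 : B) ⊗ₜ[P.toExtension.Ring] (q : relMod P)) = 0 := by
      rw [hz, map_zero]
    rw [LinearMap.lTensor_tmul, Finsupp.lapply_apply] at h2
    have h3 := congrArg (TensorProduct.rid P.toExtension.Ring B) h2
    rw [TensorProduct.rid_tmul, map_zero, Algebra.smul_def, mul_one] at h3
    exact h3
  have h4 := mem_trivRel_of P h q.2 h1
  rw [Submodule.Quotient.mk_eq_zero]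
  refine ⟨(1 : B) ⊗ₜ ⟨q, h4⟩, ?_⟩
  rw [LinearMap.baseChange_tmul]
  rfl

section Noeth

variable {A : Type u} {B : Type u} {ι : Type u} {σ : Type t}
variable [CommRing A] [CommRing B] [Algebra A B]
variable (P : Algebra.Presentation A B ι σ)

lemma projective_cotangent [IsNoetherianRing P.toExtension.Ring] (h : LCI.IsKoszulRegularIdeal P.toExtension.ker) :
    Module.Projective B P.toExtension.Cotangent := by
  have h1 : Module.Flat B P.toExtension.Cotangent :=
    (Groth.Agent.Models.NLIdeal.flat_cotangent_iff P.toExtension).2 (Groth.Agent.Models.KoszulCot.flat_cotangent h)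
  have hB : IsNoetherianRing B :=
    isNoetherianRing_of_surjective P.toExtension.Ring B (algebraMap P.toExtension.Ring B) (K694.Basic.algebraMap_surj P)
  have hf : Module.Finite B P.toExtension.Cotangent := by
    have : Module.Finite B (B ⊗[P.toExtension.Ring] P.toExtension.ker) := inferInstance
    exact Module.Finite.equiv P.toExtension.cotangentEquiv
  have := Module.finitePresentation_of_finite B P.toExtension.Cotangent
  exact Module.Flat.projective_of_finitePresentation

/-- `T²(B/A, M) = 0` when the ideal of a presentation is Koszul-regular. -/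
theorem subsingleton_T2 [IsNoetherianRing P.toExtension.Ring] (h : LCI.IsKoszulRegularIdeal P.toExtension.ker)
    (M : Type m) [AddCommGroup M] [Module B M] : Subsingleton (T2 P M) := by
  have := projective_cotangent P h
  obtain ⟨s, hs⟩ := Module.projective_lifting_property (toCot P) (LinearMap.id) (K694.Basic.toCot_surjective P)
  have h0 : ∃ s, toCot P ∘ₗ s = LinearMap.id := ⟨s, hs⟩
  have h1 := (((K694.Basic.exact_d2_toCot P).split_tfae (d2_injective P h) (K694.Basic.toCot_surjective P)).out 0 1).1 h0
  obtain ⟨l, hl⟩ := h1
  have h2 : LinearMap.range (d2Star P M) = ⊤ := by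
    rw [eq_top_iff]
    rintro φ -
    refine ⟨φ ∘ₗ l, ?_⟩
    rw [d2Star_apply, LinearMap.comp_assoc, hl, LinearMap.comp_id]
  change Subsingleton (_ ⧸ LinearMap.range (d2Star P M))
  rw [h2]
  exact ⟨fun x y => by
    obtain ⟨x, rfl⟩ := Submodule.Quotient.mk_surjective _ x
    obtain ⟨y, rfl⟩ := Submodule.Quotient.mk_surjective _ y
    exact (Submodule.Quotient.eq _).2 trivial⟩

end Noeth

end K565.LciT2
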