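import Groth.Agent.SGA7.K565.H1Fin
import Groth.Agent.SGA7.K565.DefFun
import Groth.Agent.Deform.K680.T1Fin
import Groth.Agent.Deform.K680.T1Van
import Groth.Agent.S12732
import Groth.Agent.S12726

/-!
# Hulls of deformation functors of schemes
-/

set_option autoImplicit false
universe u

open CategoryTheory CategoryTheory.Limits AlgebraicGeometry ArtFun ArtFun.Art TopologicalSpace Opposite
open K565.TOneDef K565.DefOpens K565.DefTan K565.DefTan2 K565.LocTriv K565.H1Zero K565.H1Fin

namespace K565.DefHull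

variable {Λ k : Type u} [CommRing Λ] [Field k] [Algebra Λ k] (X : Scheme.{u}) (x : X ⟶ specPt k)

/-- The tangent space of the functor of deformations of a proper scheme is finite-dimensional. -/
theorem finite_of_isProper [TangentStr (F (Λ := Λ) X x)] [IsProper x] :
    Module.Finite k (TangentSpace (F (Λ := Λ) X x)) := finite_tangent (K680.T1Fin.finite_G (x := x))

/-- Evaluation of the family of classes at `⊤`. -/
noncomputable def tcTop [TangentStr (F (Λ := Λ) X x)] [IsAffine X] :
    TangentSpace (F (Λ := Λ) X x) →ₗ[k] T k (Sec x (⊤ : X.Opens)) where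
  toFun z := (tcl (Λ := Λ) (X := X) (x := x) z).1 ⟨⊤, isAffineOpen_top X⟩
  map_add' a b := by rw [map_add]; rfl
  map_smul' c a := by rw [map_smul]; rfl

theorem eq_zero_of_tcTop [TangentStr (F (Λ := Λ) X x)] [IsAffine X] (z : TangentSpace (F (Λ := Λ) X x))
    (h : tcTop X x z = 0) : z = 0 := by
  obtain ⟨ξ, hξ⟩ := K565.DefCat.exists_rep z
  subst hξ
  obtain ⟨s, hs⟩ := K565.TOneCls.exists_section (ext ξ (isAffineOpen_top X)) h
  obtain ⟨p, -⟩ := exists_P0 ξ inl (isAffineOpen_top X) (s := s.toRingHom) ⟨hs, fun c => s.commutes c⟩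
  exact cl_eq_zero ξ p

theorem finite_of_isAffine [TangentStr (F (Λ := Λ) X x)] [IsAffine X] [LocallyOfFiniteType x] (U : X.Opens)
    (hU : Smooth (U.ι ≫ x)) (hfin : ((U : Set X)ᶜ).Finite) :
    Module.Finite k (TangentSpace (F (Λ := Λ) X x)) := by
  have h1 := K680.T1Van.finite_T x U hU hfin (isAffineOpen_top X)
  refine Module.Finite.of_injective (tcTop X x) ?_
  rw [← LinearMap.ker_eq_bot, LinearMap.ker_eq_bot']
  exact fun z hz => eq_zero_of_tcTop X x z hz

theorem subsingleton_der {Λ k : Type u} [CommRing Λ] [Field k] [Algebra Λ k]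
    (hk : Function.Surjective (algebraMap Λ k)) : Subsingleton (Derivation Λ k k) :=
  ⟨fun a b => by
    ext c
    obtain ⟨l, rfl⟩ := hk c
    rw [Derivation.map_algebraMap, Derivation.map_algebraMap]⟩

theorem finite_res {Λ k : Type u} [CommRing Λ] [Field k] [Algebra Λ k]
    (hk : Function.Surjective (algebraMap Λ k)) : Module.Finite Λ k :=
  Module.Finite.of_surjective (Algebra.linearMap Λ k) hk

/-- A hull exists as soon as the tangent space is finite-dimensional. -/
theorem hasHull_of_finite [IsNoetherianRing Λ] (hk : Function.Surjective (algebraMap Λ k))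
    (h : ∀ [TangentStr (F (Λ := Λ) X x)], Module.Finite k (TangentSpace (F (Λ := Λ) X x))) :
    HasHull (F (Λ := Λ) X x) := by
  have _ := finite_res hk
  have h0 := K565.DefFun.h0 (Λ := Λ) X x
  have h2 := K565.DefFun.heps (Λ := Λ) X x
  obtain ⟨t⟩ := Groth.Agent.S12726.result (F (Λ := Λ) X x) h0 h2
  exact Groth.Agent.S12732.result (subsingleton_der hk) (F (Λ := Λ) X x) h0 (K565.DefFun.s1 (Λ := Λ) X x) h2 h

end K565.DefHull
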