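import Groth.Agent.SGA7.K565.FppfDesc

/-!
# Extensions of group schemes: differences of points and descent
-/

set_option autoImplicit false

universe u

open CategoryTheory CategoryTheory.Limits MonoidalCategory CartesianMonoidalCategory MonObj AlgebraicGeometry

namespace K565.ExtTools

open K565.FppfDesc

variable {S : Scheme.{u}} {P G E : Over S} [GrpObj P] [GrpObj G] [GrpObj E] {u : G ⟶ E} {v : E ⟶ P}

theorem locSplit (hex : NonAbH1.IsExactSeq Scheme.fppfPrecoverage u v) : LocSplit v :=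
  locSplit_of_isLocallyTrivialFor v hex.2.2.2.2

theorem mul_u_eq (T : Over S) (c : T ⟶ E ⊗ G) : c ≫ (E ◁ u) ≫ μ[E] = (c ≫ fst E G) * (c ≫ snd E G ≫ u) := by
  rw [Hom.mul_def]
  rw [← Category.assoc]
  congr 1
  apply CartesianMonoidalCategory.hom_ext <;> simp

theorem exists_diff (hex : NonAbH1.IsExactSeq Scheme.fppfPrecoverage u v) {T : Over S} (x y : T ⟶ E)
    (h : x ≫ v = y ≫ v) : ∃ g : T ⟶ G, y = x * (g ≫ u) := by
  have pb := hex.2.2.2.1
  refine ⟨pb.lift x y h ≫ snd E G, ?_⟩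
  have h1 := mul_u_eq (u := u) T (pb.lift x y h)
  rw [pb.lift_snd, pb.lift_fst] at h1
  rw [Category.assoc]
  exact h1

theorem u_inj (hex : NonAbH1.IsExactSeq Scheme.fppfPrecoverage u v) {T : Over S} {g g' : T ⟶ G}
    (h : g ≫ u = g' ≫ u) : g = g' := by
  have pb := hex.2.2.2.1
  have h1 : lift (1 : T ⟶ E) g = lift (1 : T ⟶ E) g' := by
    apply pb.hom_ext
    · simp
    · rw [mul_u_eq, mul_u_eq]
      simp [h]
  have h2 := congrArg (fun c => c ≫ snd E G) h1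
  simpa using h2

theorem exists_ker (hex : NonAbH1.IsExactSeq Scheme.fppfPrecoverage u v) {T : Over S} (y : T ⟶ E)
    (h : y ≫ v = 1) : ∃ g : T ⟶ G, g ≫ u = y := by
  have := hex.2.1
  obtain ⟨g, hg⟩ := exists_diff hex (1 : T ⟶ E) y (by rw [MonObj.one_comp, h])
  exact ⟨g, by rw [hg, _root_.one_mul]⟩

theorem uv_one (hex : NonAbH1.IsExactSeq Scheme.fppfPrecoverage u v) {T : Over S} (g : T ⟶ G) :
    g ≫ u ≫ v = 1 := by
  rw [hex.2.2.1, MonObj.comp_one]

/-- Centrality. -/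
theorem central [IsCommMonObj G] (hex : NonAbH1.IsExactSeq Scheme.fppfPrecoverage u v)
    (hPG : ∀ f : P ⊗ G ⟶ G, lift (𝟙 P) (toUnit P ≫ η[G]) ≫ f = 1 → lift (toUnit G ≫ η[P]) (𝟙 G) ≫ f = 1 → f = 1)
    (T : Over S) (g : T ⟶ G) (x : T ⟶ E) : (g ≫ u) * x = x * (g ≫ u) := by
  have hu := hex.1
  have hv := hex.2.1
  -- the commutator
  let comm : E ⊗ G ⟶ E := fst E G * (snd E G ≫ u) * (fst E G)⁻¹ * (snd E G ≫ u)⁻¹
  have hcomm : ∀ (T : Over S) (a : T ⟶ E ⊗ G), a ≫ comm =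
      (a ≫ fst E G) * (a ≫ snd E G ≫ u) * (a ≫ fst E G)⁻¹ * (a ≫ snd E G ≫ u)⁻¹ := by
    intro T a
    simp only [comm, MonObj.comp_mul, GrpObj.comp_inv, Category.assoc]
  obtain ⟨c, hc⟩ := exists_ker hex comm (by
    simp only [comm, MonObj.mul_comp, GrpObj.inv_comp, Category.assoc, uv_one hex]
    simp)
  obtain ⟨c', hc'⟩ := ((locSplit hex).whiskerRight G).desc c (by
    intro T a b hab
    apply u_inj hex
    rw [Category.assoc, Category.assoc, hc, hcomm, hcomm]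
    have h1 : a ≫ fst E G ≫ v = b ≫ fst E G ≫ v := by
      have := congrArg (fun z => z ≫ fst P G) hab
      simpa using this
    have h2 : a ≫ snd E G = b ≫ snd E G := by
      have := congrArg (fun z => z ≫ snd P G) hab
      simpa using this
    obtain ⟨g', hg'⟩ := exists_diff hex (a ≫ fst E G) (b ≫ fst E G) (by
      rw [Category.assoc, Category.assoc, h1])
    have h3 : a ≫ snd E G ≫ u = b ≫ snd E G ≫ u := by rw [← Category.assoc, h2, Category.assoc]
    rw [← h3, hg']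
    have h4 : (g' ≫ u) * (a ≫ snd E G ≫ u) = (a ≫ snd E G ≫ u) * (g' ≫ u) := by
      have : a ≫ snd E G ≫ u = (a ≫ snd E G) ≫ u := by rw [Category.assoc]
      rw [this, ← MonObj.mul_comp, ← MonObj.mul_comp, mul_comm]
    rw [mul_inv_rev, mul_assoc (a ≫ fst E G) (g' ≫ u), h4]
    group)
  have hc1 : c' = 1 := by
    apply hPG
    · apply (locSplit hex).ext
      rw [MonObj.comp_one]
      apply u_inj hex
      have h1 : v ≫ lift (𝟙 P) (toUnit P ≫ η[G]) ≫ c' = lift (𝟙 E) (toUnit E ≫ η[G]) ≫ c := by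
        rw [← hc', ← Category.assoc, ← Category.assoc]
        congr 1
        apply CartesianMonoidalCategory.hom_ext <;> simp
      rw [h1, Category.assoc, hc, hcomm]
      have h2 : lift (𝟙 E) (toUnit E ≫ η[G]) ≫ snd E G ≫ u = 1 := by
        rw [lift_snd_assoc, Category.assoc, IsMonHom.one_hom]
        rfl
      rw [h2]
      simp [MonObj.one_comp]
    · apply u_inj hex
      have h1 : lift (toUnit G ≫ η[P]) (𝟙 G) ≫ c' = lift (toUnit G ≫ η[E]) (𝟙 G) ≫ c := by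
        rw [← hc', ← Category.assoc]
        congr 1
        apply CartesianMonoidalCategory.hom_ext
        · simp [IsMonHom.one_hom]
        · simp
      rw [h1, Category.assoc, hc, hcomm]
      have h2 : lift (toUnit G ≫ η[E]) (𝟙 G) ≫ fst E G = 1 := by
        rw [lift_fst]
        rfl
      rw [h2]
      simp [MonObj.one_comp]
  have h1 : lift x g ≫ comm = 1 := by
    rw [← hc, ← hc', hc1]
    simp [MonObj.one_comp]
  rw [hcomm] at h1
  simp only [lift_fst, lift_snd_assoc] at h1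
  have h2 := mul_inv_eq_one.1 h1
  rw [mul_inv_eq_iff_eq_mul] at h2
  exact h2.symm

/-- Commutativity. -/
theorem comm_of_central [IsCommMonObj P] (hex : NonAbH1.IsExactSeq Scheme.fppfPrecoverage u v)
    (hcen : ∀ (T : Over S) (g : T ⟶ G) (x : T ⟶ E), (g ≫ u) * x = x * (g ≫ u))
    (hPP : ∀ f : P ⊗ P ⟶ G, lift (𝟙 P) (toUnit P ≫ η[P]) ≫ f = 1 → lift (toUnit P ≫ η[P]) (𝟙 P) ≫ f = 1 → f = 1)
    (T : Over S) (x y : T ⟶ E) : x * y = y * x := by
  have hu := hex.1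
  have hv := hex.2.1
  let comm : E ⊗ E ⟶ E := fst E E * snd E E * (fst E E)⁻¹ * (snd E E)⁻¹
  have hcomm : ∀ (T : Over S) (a : T ⟶ E ⊗ E), a ≫ comm =
      (a ≫ fst E E) * (a ≫ snd E E) * (a ≫ fst E E)⁻¹ * (a ≫ snd E E)⁻¹ := by
    intro T a
    simp only [comm, MonObj.comp_mul, GrpObj.comp_inv]
  obtain ⟨c, hc⟩ := exists_ker hex comm (by
    simp only [comm, MonObj.mul_comp, GrpObj.inv_comp]
    rw [mul_comm (fst E E ≫ v)]
    group)
  obtain ⟨c', hc'⟩ := ((locSplit hex).tensor (locSplit hex)).desc c (by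
    intro T a b hab
    apply u_inj hex
    rw [Category.assoc, Category.assoc, hc, hcomm, hcomm]
    have h1 : a ≫ fst E E ≫ v = b ≫ fst E E ≫ v := by
      have := congrArg (fun z => z ≫ fst P P) hab
      simpa using this
    have h2 : a ≫ snd E E ≫ v = b ≫ snd E E ≫ v := by
      have := congrArg (fun z => z ≫ snd P P) hab
      simpa using this
    obtain ⟨g₁, hg₁⟩ := exists_diff hex (a ≫ fst E E) (b ≫ fst E E) (by
      rw [Category.assoc, Category.assoc, h1])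
    obtain ⟨g₂, hg₂⟩ := exists_diff hex (a ≫ snd E E) (b ≫ snd E E) (by
      rw [Category.assoc, Category.assoc, h2])
    rw [hg₁, hg₂]
    generalize a ≫ fst E E = x
    generalize a ≫ snd E E = y
    have c1 : ∀ z : T ⟶ E, (g₁ ≫ u) * z = z * (g₁ ≫ u) := hcen T g₁
    have c2 : ∀ z : T ⟶ E, (g₂ ≫ u) * z = z * (g₂ ≫ u) := hcen T g₂
    rw [mul_inv_rev, mul_inv_rev]
    have e1 : x * (g₁ ≫ u) * (y * (g₂ ≫ u)) * ((g₁ ≫ u)⁻¹ * x⁻¹) * ((g₂ ≫ u)⁻¹ * y⁻¹) =
      x * ((g₁ ≫ u) * (y * (g₂ ≫ u)) * (g₁ ≫ u)⁻¹) * x⁻¹ * ((g₂ ≫ u)⁻¹ * y⁻¹) := by group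
    rw [e1, c1, mul_inv_cancel_right]
    have e2 : x * (y * (g₂ ≫ u)) * x⁻¹ * ((g₂ ≫ u)⁻¹ * y⁻¹) =
      x * y * ((g₂ ≫ u) * x⁻¹ * (g₂ ≫ u)⁻¹) * y⁻¹ := by group
    rw [e2, c2, mul_inv_cancel_right])
  have hone : η[E] ≫ v = η[P] := IsMonHom.one_hom v
  have hc1 : c' = 1 := by
    apply hPP
    · apply (locSplit hex).ext
      rw [MonObj.comp_one]
      apply u_inj hex
      have h1 : v ≫ lift (𝟙 P) (toUnit P ≫ η[P]) ≫ c' = lift (𝟙 E) (toUnit E ≫ η[E]) ≫ c := by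
        rw [← hc', ← Category.assoc, ← Category.assoc]
        congr 1
        apply CartesianMonoidalCategory.hom_ext <;> simp [hone]
      rw [h1, Category.assoc, hc, hcomm]
      have h2 : lift (𝟙 E) (toUnit E ≫ η[E]) ≫ snd E E = 1 := by
        rw [lift_snd]
        rfl
      rw [h2]
      simp [MonObj.one_comp]
    · apply (locSplit hex).ext
      rw [MonObj.comp_one]
      apply u_inj hex
      have h1 : v ≫ lift (toUnit P ≫ η[P]) (𝟙 P) ≫ c' = lift (toUnit E ≫ η[E]) (𝟙 E) ≫ c := by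
        rw [← hc', ← Category.assoc, ← Category.assoc]
        congr 1
        apply CartesianMonoidalCategory.hom_ext <;> simp [hone]
      rw [h1, Category.assoc, hc, hcomm]
      have h2 : lift (toUnit E ≫ η[E]) (𝟙 E) ≫ fst E E = 1 := by
        rw [lift_fst]
        rfl
      rw [h2]
      simp [MonObj.one_comp]
  have h1 : lift x y ≫ comm = 1 := by
    rw [← hc, ← hc', hc1]
    simp [MonObj.one_comp]
  rw [hcomm] at h1
  simp only [lift_fst, lift_snd] at h1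
  have h2 := mul_inv_eq_one.1 h1
  rw [mul_inv_eq_iff_eq_mul] at h2
  exact h2

theorem isMonHom_of_bitorsor {E' : Over S} [GrpObj E'] [IsCommMonObj G] {u' : G ⟶ E'} {v' : E' ⟶ P}
    (hex : NonAbH1.IsExactSeq Scheme.fppfPrecoverage u v)
    (hex' : NonAbH1.IsExactSeq Scheme.fppfPrecoverage u' v')
    (hPP : ∀ c : P ⊗ P ⟶ G, lift (𝟙 P) (toUnit P ≫ η[P]) ≫ c = 1 → lift (toUnit P ≫ η[P]) (𝟙 P) ≫ c = 1 → c = 1)
    (f : E ⟶ E') (hv : f ≫ v' = v) (h1 : η[E] ≫ f = η[E'])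
    (hl : ∀ (T : Over S) (g : T ⟶ G) (x : T ⟶ E), ((g ≫ u) * x) ≫ f = (g ≫ u') * (x ≫ f))
    (hr : ∀ (T : Over S) (g : T ⟶ G) (x : T ⟶ E), (x * (g ≫ u)) ≫ f = (x ≫ f) * (g ≫ u')) :
    IsMonHom f := by
  have hu := hex.1
  have hv1 := hex.2.1
  have hu' := hex'.1
  have hv' := hex'.2.1
  have hone1 : ∀ T : Over S, (1 : T ⟶ E) ≫ f = 1 := by
    intro T
    change (toUnit T ≫ η[E]) ≫ f = toUnit T ≫ η[E']
    rw [Category.assoc, h1]
  -- the defect
  let d : E ⊗ E ⟶ E' := ((fst E E ≫ f) * (snd E E ≫ f))⁻¹ * ((fst E E * snd E E) ≫ f)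
  have hd : ∀ (T : Over S) (a : T ⟶ E ⊗ E), a ≫ d =
      (((a ≫ fst E E) ≫ f) * ((a ≫ snd E E) ≫ f))⁻¹ * (((a ≫ fst E E) * (a ≫ snd E E)) ≫ f) := by
    intro T a
    simp only [d, MonObj.comp_mul, GrpObj.comp_inv]
    rw [← Category.assoc a (fst E E * snd E E) f, MonObj.comp_mul, Category.assoc, Category.assoc]
  obtain ⟨c, hc⟩ := exists_ker hex' d (by
    simp only [d, MonObj.mul_comp, GrpObj.inv_comp, Category.assoc, hv]
    simp)
  obtain ⟨c', hc'⟩ := ((locSplit hex).tensor (locSplit hex)).desc c (by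
    intro T a b hab
    apply u_inj hex'
    rw [Category.assoc, Category.assoc, hc, hd, hd]
    have e1 : a ≫ fst E E ≫ v = b ≫ fst E E ≫ v := by
      have := congrArg (fun z => z ≫ fst P P) hab
      simpa using this
    have e2 : a ≫ snd E E ≫ v = b ≫ snd E E ≫ v := by
      have := congrArg (fun z => z ≫ snd P P) hab
      simpa using this
    -- left translation in the first variable
    obtain ⟨g₁, hg₁⟩ := exists_ker hex ((b ≫ fst E E) * (a ≫ fst E E)⁻¹) (by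
      rw [MonObj.mul_comp, GrpObj.inv_comp, Category.assoc, Category.assoc, e1, mul_inv_cancel])
    have hg₁' : b ≫ fst E E = (g₁ ≫ u) * (a ≫ fst E E) := by
      rw [hg₁, inv_mul_cancel_right]
    obtain ⟨g₂, hg₂⟩ := exists_diff hex (a ≫ snd E E) (b ≫ snd E E) (by
      rw [Category.assoc, Category.assoc, e2])
    rw [hg₁', hg₂, hl, hr]
    have e3 : (g₁ ≫ u) * (a ≫ fst E E) * ((a ≫ snd E E) * (g₂ ≫ u)) =
      (g₁ ≫ u) * (((a ≫ fst E E) * (a ≫ snd E E)) * (g₂ ≫ u)) := by group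
    rw [e3, hl, hr]
    -- the defect lies in `G`
    obtain ⟨g₃, hg₃⟩ := exists_ker hex' ((((a ≫ fst E E) ≫ f) * ((a ≫ snd E E) ≫ f))⁻¹ *
      (((a ≫ fst E E) * (a ≫ snd E E)) ≫ f)) (by
        rw [MonObj.mul_comp _ _ v', GrpObj.inv_comp, MonObj.mul_comp _ _ v', Category.assoc, Category.assoc,
          Category.assoc, Category.assoc, Category.assoc, hv, MonObj.mul_comp _ _ v, Category.assoc, Category.assoc,
          inv_mul_cancel])
    have hg₃' : ((a ≫ fst E E) * (a ≫ snd E E)) ≫ f =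
      (((a ≫ fst E E) ≫ f) * ((a ≫ snd E E) ≫ f)) * (g₃ ≫ u') := by
      rw [hg₃, mul_inv_cancel_left]
    rw [hg₃']
    generalize (a ≫ fst E E) ≫ f = x
    generalize (a ≫ snd E E) ≫ f = y
    have h4 : (g₃ ≫ u') * (g₂ ≫ u') = (g₂ ≫ u') * (g₃ ≫ u') := by
      rw [← MonObj.mul_comp, ← MonObj.mul_comp, mul_comm]
    have e5 : (g₁ ≫ u' * x * (y * g₂ ≫ u'))⁻¹ * (g₁ ≫ u' * (x * y * g₃ ≫ u' * g₂ ≫ u')) =
      (g₂ ≫ u')⁻¹ * ((g₃ ≫ u') * (g₂ ≫ u')) := by group
    rw [e5, h4]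
    group)
  have hone : η[E] ≫ v = η[P] := IsMonHom.one_hom v
  have hc1 : c' = 1 := by
    apply hPP
    · apply (locSplit hex).ext
      rw [MonObj.comp_one]
      apply u_inj hex'
      have e1 : v ≫ lift (𝟙 P) (toUnit P ≫ η[P]) ≫ c' = lift (𝟙 E) (toUnit E ≫ η[E]) ≫ c := by
        rw [← hc', ← Category.assoc, ← Category.assoc]
        congr 1
        apply CartesianMonoidalCategory.hom_ext <;> simp [hone]
      rw [e1, Category.assoc, hc, hd]
      have h2 : lift (𝟙 E) (toUnit E ≫ η[E]) ≫ snd E E = 1 := by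
        rw [lift_snd]
        rfl
      rw [h2, hone1]
      simp [MonObj.one_comp]
    · apply (locSplit hex).ext
      rw [MonObj.comp_one]
      apply u_inj hex'
      have e1 : v ≫ lift (toUnit P ≫ η[P]) (𝟙 P) ≫ c' = lift (toUnit E ≫ η[E]) (𝟙 E) ≫ c := by
        rw [← hc', ← Category.assoc, ← Category.assoc]
        congr 1
        apply CartesianMonoidalCategory.hom_ext <;> simp [hone]
      rw [e1, Category.assoc, hc, hd]
      have h2 : lift (toUnit E ≫ η[E]) (𝟙 E) ≫ fst E E = 1 := by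
        rw [lift_fst]
        rfl
      rw [h2, hone1]
      simp [MonObj.one_comp]
  have hd1 : d = 1 := by
    rw [← hc, ← hc', hc1]
    simp [MonObj.one_comp]
  have hmul : (fst E E * snd E E) ≫ f = (fst E E ≫ f) * (snd E E ≫ f) := by
    have := inv_mul_eq_one.1 hd1
    exact this.symm
  refine ⟨h1, ?_⟩
  have e1 : (μ[E] : E ⊗ E ⟶ E) = fst E E * snd E E := by
    rw [Hom.mul_def, lift_fst_snd, Category.id_comp]
  rw [e1, hmul, Hom.mul_def]
  congr 1

end K565.ExtTools
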