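import Groth.Agent.SGA7.K565.LamObs
import Groth.Agent.Deform.K681.AffOb

/-!
# Lifting deformations of an algebra along small extensions (any `Λ`), when `T² = 0`: conclusion
-/

set_option autoImplicit false

universe u

open CategoryTheory MvPolynomial TensorProduct

namespace K565.LamRep

open ArtFun ArtFun.Art CotT K681

variable {Λ k : Type u} [CommRing Λ] [Field k] [Algebra Λ k] {B₀ : Type u} [CommRing B₀] [Algebra k B₀] {ι σ : Type u}
variable {P : Algebra.Presentation k B₀ ι σ} {C' C : Art Λ k} {ρ : Rep P C} {p : C' ⟶ C}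
  {F' : σ → MvPolynomial ι C'} (g : Gen p)

local notation "RR" => P.toExtension.Ring

lemma algebraMap_eq_evB (r : RR) : algebraMap RR B₀ r = evB P r := algebraMap_toExtension P r

lemma mapRange_red_smul' (z : MvPolynomial ι C') (c : σ →₀ MvPolynomial ι C') :
    (z • c).mapRange (red C') (map_zero _) = red C' z • c.mapRange (red C') (map_zero _) := by
  ext1 s
  simp only [Finsupp.mapRange_apply, Finsupp.smul_apply, smul_eq_mul, map_mul]

lemma red_ev' (hF' : IsLift ρ p F') (c : σ →₀ MvPolynomial ι C') :
    red C' (ev' F' c) = AffRep.lc P (c.mapRange (red C') (map_zero _)) := by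
  rw [Finsupp.linearCombination_apply, Finsupp.linearCombination_apply, Finsupp.sum_mapRange_index (by simp),
    Finsupp.sum, Finsupp.sum, map_sum]
  exact Finset.sum_congr rfl fun s _ => by rw [smul_eq_mul, map_mul, red_F' hF', smul_eq_mul]

section Cocycle

variable (hF' : IsLift ρ p F')

include g in
lemma exists_isRel' (q : relKer P) :
    ∃ Q : σ →₀ MvPolynomial ι C', IsRel ρ p Q ∧ Q.mapRange (red C') (map_zero _) = (q : relMod P) :=
  exists_isRel g.surj (q : relMod P) q.2

/-- The obstruction cocycle on the relation module. -/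
noncomputable def phi0 : relKer P →ₗ[RR] B₀ where
  toFun q := val g P F' (exists_isRel' (ρ := ρ) g q).choose
  map_add' q q' := by
    rw [← val_add g hF' (exists_isRel' (ρ := ρ) g q).choose_spec.1 (exists_isRel' (ρ := ρ) g q').choose_spec.1]
    refine val_congr g hF' (exists_isRel' (ρ := ρ) g (q + q')).choose_spec.1
      (isRel_add (exists_isRel' (ρ := ρ) g q).choose_spec.1
        (exists_isRel' (ρ := ρ) g q').choose_spec.1) ?_
    rw [(exists_isRel' (ρ := ρ) g (q + q')).choose_spec.2,
      Finsupp.mapRange_add (map_add _), (exists_isRel' (ρ := ρ) g q).choose_spec.2,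
      (exists_isRel' (ρ := ρ) g q').choose_spec.2]
    rfl
  map_smul' r q := by
    obtain ⟨a, ha⟩ := red_surjective (ι := ι) C' r
    rw [RingHom.id_apply, Algebra.smul_def, algebraMap_eq_evB]
    have h1 := val_smul g hF' a (exists_isRel' (ρ := ρ) g q).choose_spec.1
    rw [ha] at h1
    rw [← h1]
    refine val_congr g hF' (exists_isRel' (ρ := ρ) g (r • q)).choose_spec.1
      (isRel_smul a (exists_isRel' (ρ := ρ) g q).choose_spec.1) ?_
    rw [(exists_isRel' (ρ := ρ) g (r • q)).choose_spec.2]
    rw [mapRange_red_smul', (exists_isRel' (ρ := ρ) g q).choose_spec.2, ha]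
    rfl

lemma phi0_eq (q : relKer P) {Q : σ →₀ MvPolynomial ι C'} (hQ : IsRel ρ p Q)
    (h : Q.mapRange (red C') (map_zero _) = (q : relMod P)) : phi0 g hF' q = val g P F' Q :=
  val_congr g hF' (exists_isRel' (ρ := ρ) g q).choose_spec.1 hQ
    ((exists_isRel' (ρ := ρ) g q).choose_spec.2.trans h.symm)

lemma phi0_trivial (a b : relMod P) (hab : jmap P a • b - jmap P b • a ∈ relKer P) :
    phi0 g hF' ⟨jmap P a • b - jmap P b • a, hab⟩ = 0 := by
  obtain ⟨a', ha'⟩ := Rep.exists_lift_finsupp (C := C') (ι := ι) a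
  obtain ⟨b', hb'⟩ := Rep.exists_lift_finsupp (C := C') (ι := ι) b
  have hev : ev' F' (ev' F' a' • b' - ev' F' b' • a') = 0 := by
    rw [map_sub, map_smul, map_smul, smul_eq_mul, smul_eq_mul, mul_comm, sub_self]
  have hrel : IsRel ρ p (ev' F' a' • b' - ev' F' b' • a') := by
    unfold IsRel
    rw [← mp_ev' hF', hev, map_zero]
  have hred : (ev' F' a' • b' - ev' F' b' • a').mapRange (red C') (map_zero _) = jmap P a • b - jmap P b • a := by
    refine Eq.trans ?_ (AffRep.triv_eq P a b)
    rw [Finsupp.mapRange_sub (map_sub _), mapRange_red_smul', mapRange_red_smul', red_ev' hF', red_ev' hF',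
      ha', hb']
  rw [phi0_eq g hF' _ hrel hred, val, hev, dv_zero, map_zero]

/-- The obstruction cocycle on the second term of the cotangent complex. -/
noncomputable def phi : L2 P →ₗ[B₀] B₀ := AffRep.liftL2 P (phi0 g hF') (phi0_trivial g hF')

lemma phi_mk (q : relKer P) {Q : σ →₀ MvPolynomial ι C'} (hQ : IsRel ρ p Q)
    (h : Q.mapRange (red C') (map_zero _) = (q : relMod P)) :
    phi g hF' (Submodule.Quotient.mk (1 ⊗ₜ q)) = val g P F' Q := by
  rw [phi, AffRep.liftL2_mk, one_mul, phi0_eq g hF' q hQ h]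

end Cocycle

/-- If `T² = 0` then the lifted equations may be chosen with vanishing obstruction cocycle. -/
theorem exists_good (hT2 : Subsingleton (T2 P B₀)) (ρ : Rep P C) : ∃ F' : σ → MvPolynomial ι C', IsLift ρ p F' ∧
    ∀ Q : σ →₀ MvPolynomial ι C', IsRel ρ p Q → val g P F' Q = 0 := by
  obtain ⟨F₀, hF₀⟩ := exists_isLift ρ p g.surj
  have h1 : toT2 P B₀ (phi g hF₀) = 0 := Subsingleton.elim _ _
  obtain ⟨ψ, hψ⟩ := (Submodule.Quotient.mk_eq_zero _).1 h1
  choose G₀ hG₀ using fun s => evB_surjective P (ψ (L1basis P s))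
  choose G hG using fun s => red_surjective (ι := ι) C' (G₀ s)
  refine ⟨fun s => F₀ s - g.t • G s, fun s => ?_, fun Q hQ => ?_⟩
  · rw [map_sub, mp_t_smul, sub_zero, hF₀]
  · have hev : ev' (fun s => F₀ s - g.t • G s) Q = ev' F₀ Q - g.t • (Q.sum fun s r => r * G s) := by
      rw [Finsupp.linearCombination_apply, Finsupp.linearCombination_apply, Finsupp.sum, Finsupp.sum, Finsupp.sum,
        Finset.smul_sum, ← Finset.sum_sub_distrib]
      refine Finset.sum_congr rfl fun s _ => ?_
      rw [smul_eq_mul, smul_eq_mul, mul_sub, mul_smul_comm]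
    have hq : Q.mapRange (red C') (map_zero _) ∈ relKer P := by
      change jmap P _ = 0
      rw [AffRep.jmap_eq, ← red_ev' hF₀, ← red_mp p, mp_ev'_eq_zero hF₀ hQ]
      exact map_zero _
    have h2 := phi_mk g hF₀ ⟨_, hq⟩ hQ rfl
    have h3 : ψ (d2 P (Submodule.Quotient.mk (1 ⊗ₜ (⟨_, hq⟩ : relKer P)))) = val g P F₀ Q := by
      rw [← h2, ← hψ]
      rfl
    rw [val, hev, dv_sub g (mp_ev'_eq_zero hF₀ hQ) (mp_t_smul g _), map_sub]
    change val g P F₀ Q - _ = 0
    rw [← h3, d2_mk_tmul, sub_eq_zero, dv_eq g rfl]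
    have h4 : (1 : B₀) ⊗ₜ[RR] ((⟨_, hq⟩ : relKer P) : relMod P) =
      (Q.mapRange (red C') (map_zero _)).sum fun s r => evB P r • L1basis P s := by
      rw [AffRep.one_tmul_eq_sum P]
      exact Finset.sum_congr rfl fun s _ =>
        congrArg (fun b : B₀ => b • L1basis P s) (algebraMap_eq_evB (P := P) (Q.mapRange (red C') (map_zero _) s))
    rw [h4, Finsupp.sum_mapRange_index (by simp), Finsupp.sum, Finsupp.sum, map_sum, map_sum, map_sum]
    refine Finset.sum_congr rfl fun s _ => ?_
    rw [map_smul, ← hG₀, ← hG, map_mul, map_mul, smul_eq_mul]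

section Construction

/-- In a deformation over `C`, lifts of a `k`-basis of `B₀` form a basis. -/
theorem bijective_of_basis {κ : Type u} (D : AlgDef k B₀ C) (b : Module.Basis κ k B₀) (β : κ → D.carrier)
    (hβ : ∀ i, D.π (β i) = b i) : Function.Bijective (Finsupp.linearCombination C β) := by
  have hπ : ∀ v : κ →₀ C, D.π (Finsupp.linearCombination C β v) =
      Finsupp.linearCombination k b (v.mapRange C.res (map_zero _)) := by
    intro v
    rw [Finsupp.linearCombination_apply, Finsupp.linearCombination_apply, Finsupp.sum_mapRange_index (by simp),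
      Finsupp.sum, Finsupp.sum, map_sum]
    refine Finset.sum_congr rfl fun i _ => ?_
    rw [Algebra.smul_def, map_mul, D.comp, hβ, Algebra.smul_def]
  refine FlatNil.bijective_of_nilpotent (IsLocalRing.maximalIdeal C) (isNilpotent_maximalIdeal C) _ ?_ ?_
  · intro d
    obtain ⟨v, hv⟩ := Finsupp.mapRange_surjective C.res (map_zero _) C.res_surjective (b.repr (D.π d))
    refine ⟨v, (mem_smul_top_iff_π D _).1 ?_⟩
    rw [map_sub, hπ, hv, b.linearCombination_repr, sub_self]
  · intro v hv
    rw [← mem_smul_top_iff_π, hπ] at hv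
    have h1 : v.mapRange C.res (map_zero _) = 0 := by
      have h2 := congrArg b.repr hv
      rwa [b.repr_linearCombination, map_zero] at h2
    rw [← Finsupp.sum_single v]
    refine Submodule.sum_mem _ fun i _ => ?_
    have h3 : Finsupp.single i (v i) = v i • Finsupp.single i (1 : C) := by
      rw [Finsupp.smul_single, smul_eq_mul, mul_one]
    rw [h3]
    refine Submodule.smul_mem_smul ?_ trivial
    rw [mem_maximalIdeal_iff]
    have := DFunLike.congr_fun h1 i
    rwa [Finsupp.mapRange_apply] at this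

variable (F')

/-- The candidate total ring. -/
abbrev Tot : Type u := MvPolynomial ι C' ⧸ Ideal.span (Set.range F')

variable {F'}

lemma mem_span_iff (z : MvPolynomial ι C') : z ∈ Ideal.span (Set.range F') ↔ ∃ Q, ev' F' Q = z := by
  rw [Finsupp.mem_span_range_iff_exists_finsupp]
  constructor
  · rintro ⟨c, hc⟩; exact ⟨c, by rw [Finsupp.linearCombination_apply]; exact hc⟩
  · rintro ⟨c, hc⟩; exact ⟨c, by rw [Finsupp.linearCombination_apply] at hc; exact hc⟩

variable (hF' : IsLift ρ p F')

include hF' in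
lemma evB_red_eq_zero (z : MvPolynomial ι C') (hz : z ∈ Ideal.span (Set.range F')) : evB P (red C' z) = 0 := by
  obtain ⟨Q, rfl⟩ := (mem_span_iff z).1 hz
  rw [red_ev' hF', Finsupp.linearCombination_apply, Finsupp.sum, map_sum]
  exact Finset.sum_eq_zero fun s _ => by rw [smul_eq_mul, map_mul, evB_relation, mul_zero]

/-- The reduction map of the candidate. -/
noncomputable def totπ : Tot F' →+* B₀ :=
  Ideal.Quotient.lift _ ((evB P).toRingHom.comp (red C')) (evB_red_eq_zero hF')

lemma totπ_mk (z : MvPolynomial ι C') : totπ hF' (Ideal.Quotient.mk _ z) = evB P (red C' z) := rfl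

lemma totπ_eq_zero_iff (y : Tot F') :
    totπ hF' y = 0 ↔ y ∈ IsLocalRing.maximalIdeal C' • (⊤ : Submodule C' (Tot F')) := by
  constructor
  · intro hy
    obtain ⟨z, rfl⟩ := Ideal.Quotient.mk_surjective y
    rw [totπ_mk] at hy
    obtain ⟨c, hc⟩ := exists_of_evB_eq_zero P _ hy
    obtain ⟨Q, rfl⟩ := Rep.exists_lift_finsupp (C := C') (ι := ι) c
    have h1 : red C' (z - ev' F' Q) = 0 := by
      rw [map_sub, red_ev' hF']
      exact sub_eq_zero.2 hc.symm
    rw [red_eq_zero_iff] at h1
    have h2 : Ideal.Quotient.mk (Ideal.span (Set.range F')) z = Ideal.Quotient.mk _ (z - ev' F' Q) := by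
      rw [Ideal.Quotient.mk_eq_mk_iff_sub_mem, sub_sub_cancel]
      exact (mem_span_iff _).2 ⟨Q, rfl⟩
    rw [h2]
    have h3 : (IsLocalRing.maximalIdeal C' • (⊤ : Submodule C' (MvPolynomial ι C'))).map
        (Ideal.Quotient.mkₐ C' (Ideal.span (Set.range F'))).toLinearMap ≤
        IsLocalRing.maximalIdeal C' • (⊤ : Submodule C' (Tot F')) := by
      rw [Submodule.map_smul'']
      exact Submodule.smul_mono le_rfl le_top
    exact h3 ⟨_, h1, rfl⟩
  · intro hy
    induction hy using Submodule.smul_induction_on' with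
    | smul a ha y _ =>
      obtain ⟨z, rfl⟩ := Ideal.Quotient.mk_surjective y
      have h1 : a • (Ideal.Quotient.mk (Ideal.span (Set.range F')) z) = Ideal.Quotient.mk _ (a • z) := rfl
      rw [h1, totπ_mk, red_smul, (mem_maximalIdeal_iff C' a).1 ha, zero_smul, map_zero]
    | add x _ y _ hx hy => rw [map_add, hx, hy, add_zero]

include hF' in
/-- If the obstruction cocycle of the lifted equations vanishes then these equations define a deformation. -/
theorem flat_tot (h : ∀ Q : σ →₀ MvPolynomial ι C', IsRel ρ p Q → val g P F' Q = 0) :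
    Module.Flat C' (Tot F') := by
  let b := Module.Basis.ofVectorSpace k B₀
  choose β₀ hβ₀ using fun i => evB_surjective P (b i)
  choose β hβ using fun i => red_surjective (ι := ι) C' (β₀ i)
  have hβ' : ∀ i, evB P (red C' (β i)) = b i := fun i => by rw [hβ, hβ₀]
  let Ψ := Finsupp.linearCombination C' (fun i => (Ideal.Quotient.mk (Ideal.span (Set.range F')) (β i) : Tot F'))
  have hΨ : ∀ v, Ψ v = Ideal.Quotient.mk _ (Finsupp.linearCombination C' β v) := by
    intro v
    have : Ψ = (Ideal.Quotient.mkₐ C' (Ideal.span (Set.range F'))).toLinearMap ∘ₗ Finsupp.linearCombination C' β := by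
      ext i
      simp only [Ψ, LinearMap.coe_comp, Function.comp_apply, Finsupp.lsingle_apply, Finsupp.linearCombination_single,
        one_smul]
      rfl
    rw [this]
    rfl
  have hred : ∀ v : _ →₀ C', evB P (red C' (Finsupp.linearCombination C' β v)) =
      Finsupp.linearCombination k b (v.mapRange C'.res (map_zero _)) := by
    intro v
    rw [Finsupp.linearCombination_apply, Finsupp.linearCombination_apply, Finsupp.sum_mapRange_index (by simp),
      Finsupp.sum, Finsupp.sum, map_sum, map_sum]
    refine Finset.sum_congr rfl fun i _ => ?_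
    rw [red_smul, map_smul, hβ']
  have hbij : Function.Bijective Ψ := by
    constructor
    · rw [injective_iff_map_eq_zero]
      intro v hv
      rw [hΨ, Ideal.Quotient.eq_zero_iff_mem] at hv
      obtain ⟨Q, hQ⟩ := (mem_span_iff _).1 hv
      -- reduction to `D`
      have h1 : ∀ i, p (v i) = 0 := by
        have hb := bijective_of_basis ρ.D b (fun i => ρ.θ (mp p (β i))) (fun i => by rw [ρ.hθ, red_mp, hβ'])
        have h2 : Finsupp.linearCombination C (fun i => ρ.θ (mp p (β i))) (v.mapRange p.toAlgHom (map_zero _)) = 0 := by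
          have h3 : Finsupp.linearCombination C (fun i => ρ.θ (mp p (β i))) (v.mapRange p.toAlgHom (map_zero _)) =
              ρ.θ (mp p (Finsupp.linearCombination C' β v)) := by
            rw [Finsupp.linearCombination_apply, Finsupp.linearCombination_apply, Finsupp.sum_mapRange_index (by simp),
              Finsupp.sum, Finsupp.sum, map_sum, map_sum]
            refine Finset.sum_congr rfl fun i _ => ?_
            rw [mp_smul, map_smul]
          rw [h3, ← hQ, mp_ev' hF', ρ.θ_ev]
        have h4 := hb.1 (h2.trans (map_zero _).symm)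
        intro i
        have := DFunLike.congr_fun h4 i
        rwa [Finsupp.mapRange_apply] at this
      have hrel : IsRel ρ p Q := by
        unfold IsRel
        rw [← mp_ev' hF', hQ, Finsupp.linearCombination_apply, Finsupp.sum, map_sum]
        refine Finset.sum_eq_zero fun i _ => ?_
        rw [mp_smul, h1, zero_smul]
      choose c hc using fun x : {x : C' // p x = 0} => g.gen x.1 x.2
      classical
      let w : _ →₀ C' := v.support.sum fun i => Finsupp.single i (c ⟨v i, h1 i⟩)
      have hw : ∀ i, v i = g.t * w i := by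
        intro i
        simp only [w, Finsupp.finsetSum_apply, Finsupp.single_apply, Finset.sum_ite_eq', Finsupp.mem_support_iff]
        split_ifs with hi
        · rw [mul_comm]; exact hc ⟨v i, h1 i⟩
        · rw [not_ne_iff.1 hi, mul_zero]
      have hvw : v = g.t • w := by
        ext i
        rw [hw, Finsupp.smul_apply, smul_eq_mul]
      have h5 := h Q hrel
      rw [val, hQ, dv_eq g (r := Finsupp.linearCombination C' β w) (by rw [hvw, map_smul]), hred] at h5
      have h8 := congrArg b.repr h5
      rw [b.repr_linearCombination, map_zero] at h8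
      ext i
      have h9 := DFunLike.congr_fun h8 i
      rw [Finsupp.mapRange_apply, Finsupp.coe_zero, Pi.zero_apply] at h9
      rw [hw, Finsupp.coe_zero, Pi.zero_apply, t_mul_eq_zero_iff]
      exact h9
    · refine FlatNil.surjective_of_nilpotent (IsLocalRing.maximalIdeal C') (isNilpotent_maximalIdeal C') _ ?_
      intro y
      obtain ⟨v, hv⟩ := Finsupp.mapRange_surjective C'.res (map_zero _) C'.res_surjective (b.repr (totπ hF' y))
      refine ⟨v, (totπ_eq_zero_iff hF' _).1 ?_⟩
      rw [map_sub, hΨ, totπ_mk, sub_eq_zero, hred, hv, b.linearCombination_repr]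
  exact Module.Flat.of_linearEquiv (LinearEquiv.ofBijective Ψ hbij).symm

/-- The deformation defined by lifted equations with vanishing obstruction cocycle. -/
noncomputable def totDef (h : ∀ Q : σ →₀ MvPolynomial ι C', IsRel ρ p Q → val g P F' Q = 0) : AlgDef k B₀ C' where
  carrier := Tot F'
  flat := flat_tot g hF' h
  π := totπ hF'
  comp a := by
    have h1 : algebraMap C' (Tot F') a = Ideal.Quotient.mk _ (MvPolynomial.C a) := rfl
    rw [h1, totπ_mk, red, MvPolynomial.map_C]
    exact (evB P).commutes _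
  surj b := by
    obtain ⟨r, hr⟩ := evB_surjective P b
    obtain ⟨z, rfl⟩ := red_surjective (ι := ι) C' r
    exact ⟨Ideal.Quotient.mk _ z, hr⟩
  ker := by
    ext y
    rw [RingHom.mem_ker, totπ_eq_zero_iff, Ideal.smul_top_eq_map]
    rfl

/-- It restricts to the given deformation. -/
theorem nonempty_totDef_iso (h : ∀ Q : σ →₀ MvPolynomial ι C', IsRel ρ p Q → val g P F' Q = 0) :
    Nonempty (((totDef g hF' h).toDefSch.baseChange p).Iso ρ.D.toDefSch) := by
  let φ : Tot F' →+* ρ.D.carrier := Ideal.Quotient.lift _ (ρ.θ.toRingHom.comp (mp p)) (by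
    intro z hz
    obtain ⟨Q, rfl⟩ := (mem_span_iff z).1 hz
    change ρ.θ (mp p (ev' F' Q)) = 0
    rw [mp_ev' hF', ρ.θ_ev])
  have hφ : ∀ z, φ (Ideal.Quotient.mk _ z) = ρ.θ (mp p z) := fun _ => rfl
  refine AlgDef.nonempty_baseChange_iso p (totDef g hF' h) ρ.D φ ?_ ?_
  · intro a
    change φ (Ideal.Quotient.mk _ (MvPolynomial.C a)) = _
    rw [hφ, mp, MvPolynomial.map_C]
    exact ρ.θ.commutes _
  · intro y
    obtain ⟨z, rfl⟩ := Ideal.Quotient.mk_surjective y
    change ρ.D.π (φ (Ideal.Quotient.mk _ z)) = totπ hF' (Ideal.Quotient.mk _ z)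
    rw [hφ, ρ.hθ, red_mp, totπ_mk]

end Construction

/-- Deformations of an algebra with `T² = 0` lift along small extensions. -/
theorem exists_lift_of_T2 (P : Algebra.Presentation k B₀ ι σ) (hT2 : Subsingleton (T2 P B₀)) {C' C : Art Λ k}
    {p : C' ⟶ C} (hp : IsSmallExt p) (D : AlgDef k B₀ C) :
    ∃ D' : AlgDef k B₀ C', Nonempty ((D'.toDefSch.baseChange p).Iso D.toDefSch) := by
  obtain ⟨g⟩ := exists_gen hp
  obtain ⟨ρ, rfl⟩ := exists_rep (P := P) D
  obtain ⟨F', hF', h⟩ := exists_good g hT2 ρ
  exact ⟨totDef g hF' h, nonempty_totDef_iso g hF' h⟩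

end K565.LamRep
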