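import Groth.Agent.SGA7.K566.TateEll
import Groth.Agent.SGA7.K411.BTbc
import Groth.Agent.Sga7.H753.Cond
import Groth.Agent.Sga7.H481.Transfer
import Groth.Agent.Sga7.H729.Main
import Groth.Agent.S4050
import Mathlib.FieldTheory.Galois.Profinite

/-!
# Composition of the parts of S12319
-/

set_option autoImplicit false

universe u

open CategoryTheory CategoryTheory.Limits AlgebraicGeometry MonObj

namespace K565.TateFinal

open Groth.Agent.Sga7.H753 Groth.Agent.Sga7.H753.BaseExt K411.BT Groth.Agent.Sga7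

theorem exists_prime_ne (k : Type*) [Field k] : ∃ ℓ : ℕ, ℓ.Prime ∧ (ℓ : k) ≠ 0 := by
  by_cases h2 : ((2 : ℕ) : k) = 0
  · refine ⟨3, Nat.prime_three, fun h3 => ?_⟩
    have h1 : ((3 : ℕ) : k) = ((2 : ℕ) : k) + 1 := by norm_num
    rw [h1, h2, zero_add] at h3
    exact one_ne_zero h3
  · exact ⟨2, Nat.prime_two, h2⟩

/-- Semistable reduction at one place. -/
theorem exists_ss (R K Ω : Type u) [CommRing R] [IsDomain R] [IsDiscreteValuationRing R] [Field K]
    [Algebra R K] [IsFractionRing R K] [Field Ω] [Algebra K Ω] [IsSepClosure K Ω]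
    (W : ValuationSubring Ω) (hW : SGA7.LiesOver K R W)
    (A : Over (Spec (CommRingCat.of K))) [GrpObj A] [IsProper A.hom] [GeometricallyIntegral A.hom] :
    ∃ (E : IntermediateField K Ω) (_ : FiniteDimensional K E) (_ : Normal K E),
      SGA7.HasSemistableReduction (Core.tr W E) E (Red.bc (fKL K E) A) := by
  have : IsSepClosed Ω := IsSepClosure.sep_closed K
  have : IsGalois K Ω := IsSepClosure.isGalois
  obtain ⟨ℓ, hℓ, hℓp⟩ := exists_prime_ne (IsLocalRing.ResidueField R)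
  obtain ⟨π', h⟩ := Groth.Agent.S4050.result R K Ω W hW ℓ hℓ hℓp A
  obtain ⟨E, hE1, hE2, hE⟩ : ∃ (E : IntermediateField K Ω) (_ : FiniteDimensional K E) (_ : Normal K E),
      E.fixingSubgroup ≤ (π' : Subgroup (Ω ≃ₐ[K] Ω)) := by
    have h1 : (π' : Set (Ω ≃ₐ[K] Ω)) ∈ nhds (1 : Ω ≃ₐ[K] Ω) := π'.mem_nhds_one
    obtain ⟨E, hE1, hE2, hE⟩ := (krullTopology_mem_nhds_one_iff_of_normal K Ω _).1 h1
    exact ⟨E, hE1, hE2, hE⟩
  refine ⟨E, hE1, hE2, ?_⟩
  have hdvr := Core.isDVR_tr (R := R) W E hW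
  have hsep : IsSepClosure E Ω := ⟨IsSepClosure.sep_closed K, Algebra.isSeparable_tower_top_of_isSeparable K E Ω⟩
  have hLO := Core.liesOver_tr W E
  have hv := Core.val_natCast W hW hℓp
  have hℓE := Core.natCast_residue_tr W E hv
  have hP : IsProper (Red.bc (fKL K E) A).hom := inferInstanceAs (IsProper (pullback.snd A.hom (fKL K E)))
  have hG : GeometricallyIntegral (Red.bc (fKL K E) A).hom :=
    inferInstanceAs (GeometricallyIntegral (pullback.snd A.hom (fKL K E)))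
  refine H729.Main.semistable_of_levelTwo (Core.tr W E) E Ω W hLO ℓ hℓ hℓE _ ?_
  intro ν σ τ hσ hτ x hx
  apply (ptsEquiv K E Ω A).injective
  rw [ptsEquiv_dev, ptsEquiv_dev, map_one]
  exact h ν _ _ (hE (Cond.restrictScalars_mem E σ)) (hE (Cond.restrictScalars_mem E τ))
    ((H481.Transfer.isInertia_restrictScalars_iff (K := K) σ).2 hσ)
    ((H481.Transfer.isInertia_restrictScalars_iff (K := K) τ).2 hτ) _ (by rw [← _root_.map_pow, hx, map_one])

section data

variable {S S₁ T T₁ : Scheme.{u}} {f : S₁ ⟶ S} {g : T ⟶ S} {g₁ : T₁ ⟶ S₁} {f₁ : T₁ ⟶ T} (w : g₁ ≫ f = f₁ ≫ g)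
  {l : ℕ} {P : ℕ → Over T} [∀ ν, GrpObj (P ν)] {h : ℕ} (G : BTGrp.ProBT l S h)
  (e : ∀ ν, Red.bc g (G.G ν) ≅ P ν)

/-- The isomorphisms after base change. -/
noncomputable def bcE (ν : ℕ) : Red.bc g₁ ((bcBT f G).G ν) ≅ Red.bc f₁ (P ν) :=
  sqI w (G.G ν) ≪≫ (Over.pullback f₁).mapIso (e ν)

theorem isMonHom_bcE (he : ∀ ν, IsMonHom (e ν).hom) (ν : ℕ) : IsMonHom (bcE w G e ν).hom := by
  have := isMonHom_sqI w (G.G ν)
  have := he ν
  have h2 : IsMonHom (M := Red.bc f₁ (Red.bc g (G.G ν))) (N := Red.bc f₁ (P ν)) ((Over.pullback f₁).map (e ν).hom) :=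
    inferInstance
  change IsMonHom ((sqI w (G.G ν)).hom ≫ (Over.pullback f₁).map (e ν).hom)
  infer_instance

theorem bcE_proj (t : ∀ ν, P (ν + 1) ⟶ P ν)
    (het : ∀ ν, (Over.pullback g).map (G.proj ν) ≫ (e ν).hom = (e (ν + 1)).hom ≫ t ν) (ν : ℕ) :
    (Over.pullback g₁).map ((bcBT f G).proj ν) ≫ (bcE w G e ν).hom =
      (bcE w G e (ν + 1)).hom ≫ (Over.pullback f₁).map (t ν) := by
  change (Over.pullback g₁).map ((Over.pullback f).map (G.proj ν)) ≫ (sqI w (G.G ν)).hom ≫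
    (Over.pullback f₁).map (e ν).hom = ((sqI w (G.G (ν + 1))).hom ≫ (Over.pullback f₁).map (e (ν + 1)).hom) ≫ _
  rw [← Category.assoc, sqI_naturality, Category.assoc, Category.assoc, ← Functor.map_comp, ← Functor.map_comp, het]

theorem bcE_incl {A : Over T} (i : ∀ ν, P ν ⟶ A)
    (hei : ∀ ν, (Over.pullback g).map (G.incl ν) ≫ (e (ν + 1)).hom ≫ i (ν + 1) = (e ν).hom ≫ i ν) (ν : ℕ) :
    (Over.pullback g₁).map ((bcBT f G).incl ν) ≫ (bcE w G e (ν + 1)).hom ≫ (Over.pullback f₁).map (i (ν + 1)) =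
      (bcE w G e ν).hom ≫ (Over.pullback f₁).map (i ν) := by
  change (Over.pullback g₁).map ((Over.pullback f).map (G.incl ν)) ≫ ((sqI w (G.G (ν + 1))).hom ≫
    (Over.pullback f₁).map (e (ν + 1)).hom) ≫ _ = ((sqI w (G.G ν)).hom ≫ (Over.pullback f₁).map (e ν).hom) ≫ _
  rw [Category.assoc, ← Category.assoc, sqI_naturality, Category.assoc, Category.assoc, ← Functor.map_comp,
    ← Functor.map_comp, ← Functor.map_comp, hei]

end data

/-- The base change of the data, with the base change of `G` as an opaque object. -/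
theorem exists_bc {S S₁ T T₁ : Scheme.{u}} {f : S₁ ⟶ S} {g : T ⟶ S} {g₁ : T₁ ⟶ S₁} {f₁ : T₁ ⟶ T}
    (w : g₁ ≫ f = f₁ ≫ g) {l : ℕ} {P : ℕ → Over T} [∀ ν, GrpObj (P ν)] {h : ℕ} (G : BTGrp.ProBT l S h)
    (e : ∀ ν, Red.bc g (G.G ν) ≅ P ν) (he : ∀ ν, IsMonHom (e ν).hom) (t : ∀ ν, P (ν + 1) ⟶ P ν)
    (het : ∀ ν, (Over.pullback g).map (G.proj ν) ≫ (e ν).hom = (e (ν + 1)).hom ≫ t ν)
    {A : Over T} (i : ∀ ν, P ν ⟶ A)
    (hei : ∀ ν, (Over.pullback g).map (G.incl ν) ≫ (e (ν + 1)).hom ≫ i (ν + 1) = (e ν).hom ≫ i ν) :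
    ∃ (G' : BTGrp.ProBT l S₁ h) (e' : ∀ ν, Red.bc g₁ (G'.G ν) ≅ Red.bc f₁ (P ν)), (∀ ν, IsMonHom (e' ν).hom) ∧
      (∀ ν, (Over.pullback g₁).map (G'.proj ν) ≫ (e' ν).hom = (e' (ν + 1)).hom ≫ (Over.pullback f₁).map (t ν)) ∧
      (∀ ν, (Over.pullback g₁).map (G'.incl ν) ≫ (e' (ν + 1)).hom ≫ (Over.pullback f₁).map (i (ν + 1)) =
        (e' ν).hom ≫ (Over.pullback f₁).map (i ν)) :=
  ⟨bcBT f G, bcE w G e, isMonHom_bcE w G e he, bcE_proj w G e t het, bcE_incl w G e i hei⟩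

/-- Conclusion of `K411.Via.main`. -/
def ViaMain : Prop :=
  ∀ (R K : Type u) [CommRing R] [IsDomain R] [IsDiscreteValuationRing R] [CharZero R]
    [Field K] [Algebra R K] [IsFractionRing R K] (l : ℕ) [Fact l.Prime] (_ : (l : R) ∈ IsLocalRing.maximalIdeal R)
    (A : Over (Spec (CommRingCat.of K))) [GrpObj A] [IsCommMonObj A] [IsProper A.hom] [GeometricallyIntegral A.hom]
    (_ : SGA7.HasSemistableReduction R K A)
    (P : ℕ → Over (Spec (CommRingCat.of K))) [∀ ν, GrpObj (P ν)] (i : ∀ ν, P ν ⟶ A) (t : ∀ ν, P (ν + 1) ⟶ P ν)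
    (_ : BTGrp.IsTatePro A l P i t)
    (h : ℕ) (G : BTGrp.ProBT l (Spec (CommRingCat.of R)) h)
    (e : ∀ ν, Red.bc (Spec.map (CommRingCat.ofHom (algebraMap R K))) (G.G ν) ≅ P ν)
    (_ : ∀ ν, IsMonHom (e ν).hom)
    (_ : ∀ ν, (SGA7.genFib R K).map (G.proj ν) ≫ (e ν).hom = (e (ν + 1)).hom ≫ t ν)
    (_ : ∀ ν, (SGA7.genFib R K).map (G.incl ν) ≫ (e (ν + 1)).hom ≫ i (ν + 1) = (e ν).hom ≫ i ν),
    SGA7.HasGoodReduction R K A

/-- Potentially good reduction and an extension of the `p`-divisible group give good reduction. -/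
def GoodMain : Prop :=
  ∀ (R K Ω : Type u) [CommRing R] [IsDomain R] [IsDiscreteValuationRing R] [CharZero R]
    [Field K] [Algebra R K] [IsFractionRing R K] [Field Ω] [Algebra K Ω] [IsSepClosure K Ω]
    (W : ValuationSubring Ω) (_ : SGA7.LiesOver K R W)
    (l : ℕ) [Fact l.Prime] (_ : (l : R) ∈ IsLocalRing.maximalIdeal R)
    (A : Over (Spec (CommRingCat.of K))) [GrpObj A] [IsCommMonObj A] [IsProper A.hom] [GeometricallyIntegral A.hom]
    (E : IntermediateField K Ω) (_ : FiniteDimensional K E) (_ : Normal K E)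
    (_ : SGA7.HasGoodReduction (Core.tr W E) E (Red.bc (fKL K E) A))
    (P : ℕ → Over (Spec (CommRingCat.of K))) [∀ ν, GrpObj (P ν)] (i : ∀ ν, P ν ⟶ A) (t : ∀ ν, P (ν + 1) ⟶ P ν)
    (_ : BTGrp.IsTatePro A l P i t)
    (h : ℕ) (G : BTGrp.ProBT l (Spec (CommRingCat.of R)) h)
    (e : ∀ ν, Red.bc (Spec.map (CommRingCat.ofHom (algebraMap R K))) (G.G ν) ≅ P ν)
    (_ : ∀ ν, IsMonHom (e ν).hom)
    (_ : ∀ ν, (SGA7.genFib R K).map (G.proj ν) ≫ (e ν).hom = (e (ν + 1)).hom ≫ t ν)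
    (_ : ∀ ν, (SGA7.genFib R K).map (G.incl ν) ≫ (e (ν + 1)).hom ≫ i (ν + 1) = (e ν).hom ≫ i ν),
    SGA7.HasGoodReduction R K A

theorem final (hVia : ViaMain.{u}) (hGood : GoodMain.{u})
    (R K : Type u) [CommRing R] [IsDomain R] [IsDiscreteValuationRing R]
    [Field K] [Algebra R K] [IsFractionRing R K]
    (A : Over (Spec (CommRingCat.of K))) [GrpObj A] [IsCommMonObj A] [IsProper A.hom] [GeometricallyIntegral A.hom]
    (l : ℕ) [Fact l.Prime] (hlK : (l : IsLocalRing.ResidueField R) = 0 → CharZero K)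
    (P : ℕ → Over (Spec (CommRingCat.of K))) [∀ ν, GrpObj (P ν)] (i : ∀ ν, P ν ⟶ A) (t : ∀ ν, P (ν + 1) ⟶ P ν)
    (hP : BTGrp.IsTatePro A l P i t)
    (h : ℕ) (G : BTGrp.ProBT l (Spec (CommRingCat.of R)) h)
    (e : ∀ ν, Red.bc (Spec.map (CommRingCat.ofHom (algebraMap R K))) (G.G ν) ≅ P ν)
    (he : ∀ ν, IsMonHom (e ν).hom)
    (het : ∀ ν, (SGA7.genFib R K).map (G.proj ν) ≫ (e ν).hom = (e (ν + 1)).hom ≫ t ν)
    (hei : ∀ ν, (SGA7.genFib R K).map (G.incl ν) ≫ (e (ν + 1)).hom ≫ i (ν + 1) = (e ν).hom ≫ i ν) :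
    SGA7.HasGoodReduction R K A := by
  by_cases hl : (l : IsLocalRing.ResidueField R) = 0
  swap
  · exact K566.TateEll.good R K A l hl P i t hP h G e he
  have hK0 := hlK hl
  have hR0 : CharZero R := ⟨fun a b hab => by
    have h1 := congrArg (algebraMap R K) hab
    rw [map_natCast, map_natCast] at h1
    exact Nat.cast_injective h1⟩
  have hlm : (l : R) ∈ IsLocalRing.maximalIdeal R := by
    rw [← IsLocalRing.residue_eq_zero_iff, map_natCast]
    exact hl
  obtain ⟨W, hW⟩ := Groth.Agent.Sga7.H274.ValExt.exists_liesOver K R (SeparableClosure K)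
  obtain ⟨E, hE1, hE2, hss⟩ := exists_ss R K (SeparableClosure K) W hW A
  refine hGood R K (SeparableClosure K) W hW l hlm A E hE1 hE2 ?_ P i t hP h G e he het hei
  have hdvr := Core.isDVR_tr (R := R) W E hW
  have hP' : IsProper (Red.bc (fKL K E) A).hom := inferInstanceAs (IsProper (pullback.snd A.hom (fKL K E)))
  have hG' : GeometricallyIntegral (Red.bc (fKL K E) A).hom :=
    inferInstanceAs (GeometricallyIntegral (pullback.snd A.hom (fKL K E)))
  let φ : R →+* Core.tr W E :=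
    { toFun := fun r => ⟨algebraMap K E (algebraMap R K r), hW.1 r⟩
      map_one' := Subtype.ext (by simp)
      map_mul' := fun a b => Subtype.ext (by simp)
      map_zero' := Subtype.ext (by simp)
      map_add' := fun a b => Subtype.ext (by simp) }
  let f : Spec (CommRingCat.of (Core.tr W E)) ⟶ Spec (CommRingCat.of R) := Spec.map (CommRingCat.ofHom φ)
  have w : Spec.map (CommRingCat.ofHom (algebraMap (Core.tr W E) E)) ≫ f =
      fKL K E ≫ Spec.map (CommRingCat.ofHom (algebraMap R K)) := by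
    dsimp only [f, fKL]
    rw [← Spec.map_comp, ← Spec.map_comp, ← CommRingCat.ofHom_comp, ← CommRingCat.ofHom_comp]
    rfl
  have h0 : CharZero (Core.tr W E) := ⟨fun a b hab => by
    have h1 := congrArg (Subtype.val : Core.tr W E → E) hab
    have hE0 : CharZero E := charZero_of_injective_algebraMap (algebraMap K E).injective
    have h2 : ∀ n : ℕ, ((n : Core.tr W E) : E) = (n : E) := fun n => map_natCast (Core.tr W E).subtype n
    rw [h2, h2] at h1
    exact Nat.cast_injective h1⟩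
  have hlm' : (l : Core.tr W E) ∈ IsLocalRing.maximalIdeal (Core.tr W E) := by
    have h1 := (Core.dominates R W E hW).2 (l : R) hlm
    have h2 : (((algebraMap K E).comp (algebraMap R K)) (l : R)) = (((l : Core.tr W E)) : E) := by
      rw [map_natCast]
      exact (map_natCast (Core.tr W E).subtype l).symm
    rw [h2] at h1
    exact (ValuationSubring.valuation_lt_one_iff _ _).2 h1
  obtain ⟨G', e', he', het', hei'⟩ := exists_bc w G e he t het i hei
  exact hVia (Core.tr W E) E l hlm' (Red.bc (fKL K E) A) hss (fun ν => Red.bc (fKL K E) (P ν))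
    (fun ν => (Over.pullback (fKL K E)).map (i ν)) (fun ν => (Over.pullback (fKL K E)).map (t ν))
    (isTatePro_bc (fKL K E) hP) h G' e' he' het' hei'

end K565.TateFinal
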