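import Groth.Agent.SGA7.K564.CTUnibr

/-!
# Morphisms from smooth schemes to constant groups are determined by, and extend from, the generic fibre
-/

set_option autoImplicit false
universe u

open CategoryTheory CategoryTheory.Limits MonoidalCategory CartesianMonoidalCategory MonObj GrpObj AlgebraicGeometry

namespace K565.GenConst

open K564.ConstTors

variable {S : Scheme.{u}} {Z : Type u} [Group Z] {G : Over S} [GrpObj G] (eG : G ≅ TwC.const S Z)

omit [Group Z] in
theorem exists_glue {X Y : Scheme.{u}} (V : Z → X.Opens) (hV : ∀ t : X, ∃! z, t ∈ V z)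
    (f : ∀ z, (V z).toScheme ⟶ Y) : ∃ g : X ⟶ Y, ∀ z, (V z).ι ≫ g = f z := by
  have hc : TopologicalSpace.IsOpenCover V := by
    rw [TopologicalSpace.IsOpenCover]
    refine TopologicalSpace.Opens.ext (Set.eq_univ_of_forall fun t => ?_)
    obtain ⟨z, hz, -⟩ := hV t
    rw [TopologicalSpace.Opens.coe_iSup]
    exact Set.mem_iUnion.2 ⟨z, hz⟩
  let 𝒰 := X.openCoverOfIsOpenCover V hc
  refine ⟨𝒰.glueMorphisms f ?_, fun z => 𝒰.ι_glueMorphisms f _ z⟩
  intro z w
  by_cases hzw : z = w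
  · subst hzw
    congr 1
    have : Mono (𝒰.f z) := inferInstance
    rw [← cancel_mono (𝒰.f z), pullback.condition]
  · have : IsEmpty ↥(pullback (𝒰.f z) (𝒰.f w)) := by
      refine ⟨fun p => hzw ?_⟩
      have h1 : (𝒰.f z) (pullback.fst (𝒰.f z) (𝒰.f w) p) = (𝒰.f w) (pullback.snd (𝒰.f z) (𝒰.f w) p) := by
        rw [← Scheme.Hom.comp_apply, pullback.condition, Scheme.Hom.comp_apply]
      obtain ⟨v, -, hv⟩ := hV ((𝒰.f z) (pullback.fst (𝒰.f z) (𝒰.f w) p))
      have h2 := hv z (pullback.fst (𝒰.f z) (𝒰.f w) p).2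
      have h3 := hv w (h1 ▸ (pullback.snd (𝒰.f z) (𝒰.f w) p).2)
      rw [h2, h3]
    exact (isInitialOfIsEmpty (X := pullback (𝒰.f z) (𝒰.f w))).hom_ext _ _

variable {ξ : S}

/-- maximal points of a flat scheme lie over the generic point. -/
theorem hom_eq_of_maximal (hξ : IsGenericPoint ξ (Set.univ : Set S)) (T : Over S) [Flat T.hom] {e : T.left}
    (he : ∀ y : T.left, y ⤳ e → y = e) : T.hom e = ξ := by
  have h1 : ξ ⤳ T.hom e := hξ.specializes trivial
  obtain ⟨w', hw', h2⟩ := Flat.generalizingMap T.hom h1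
  rw [← he w' hw', h2]

section

variable (ξ) (T : Over S)

/-- the generic fibre inside `T`. -/
noncomputable abbrev j : pullback T.hom (S.fromSpecResidueField ξ) ⟶ T.left := pullback.fst T.hom (S.fromSpecResidueField ξ)

theorem range_j : Set.range (j ξ T) = T.hom ⁻¹' {ξ} := by
  rw [Scheme.Pullback.range_fst, Scheme.range_fromSpecResidueField]

end

variable [IrreducibleSpace S] (hS : ∀ s : S, CAlg2.IsGeomUnibranch (S.presheaf.stalk s))
  (hξ : IsGenericPoint ξ (Set.univ : Set S)) (T : Over S) [Smooth T.hom]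

omit [IrreducibleSpace S] in
include hS hξ in
theorem exists_gen (w : T.left) : ∃ e' : ↥(pullback T.hom (S.fromSpecResidueField ξ)), j ξ T e' ⤳ w ∧
    (∀ y : T.left, y ⤳ w → j ξ T e' ⤳ y) ∧ (∀ y : T.left, y ⤳ j ξ T e' → y = j ξ T e') := by
  obtain ⟨z, hz⟩ := K564.SmoothUnibr.exists_generic T.hom w (hS _)
  have h1 : z ⤳ w := hz w specializes_rfl
  have h2 : ∀ y : T.left, y ⤳ z → y = z := fun y hy => (hy.antisymm (hz y (hy.trans h1))).eq
  have h3 : z ∈ Set.range (j ξ T) := by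
    rw [range_j]
    exact hom_eq_of_maximal hξ T h2
  obtain ⟨e', rfl⟩ := h3
  exact ⟨e', h1, hz, h2⟩

include eG hS hξ in
theorem ext {x y : T ⟶ G} (h : j ξ T ≫ x.left = j ξ T ≫ y.left) : x = y := by
  obtain ⟨V, hV, hV'⟩ := const_dec (eG := eG) x
  obtain ⟨W, hW, hW'⟩ := const_dec (eG := eG) y
  have key : ∀ t z w, t ∈ V z → t ∈ W w → z = w := by
    intro t z w hz hw
    obtain ⟨e', he1, -, -⟩ := exists_gen hS hξ T t
    have h1 := he1.mem_open (V z).2 hz
    have h2 := he1.mem_open (W w).2 hw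
    let O : (pullback T.hom (S.fromSpecResidueField ξ)).Opens := j ξ T ⁻¹ᵁ (V z ⊓ W w)
    have hO : e' ∈ O := ⟨h1, h2⟩
    let a : O.toScheme ⟶ (V z).toScheme := IsOpenImmersion.lift (V z).ι (O.ι ≫ j ξ T) (by
      rintro _ ⟨p, rfl⟩
      rw [Scheme.Opens.range_ι]
      exact p.2.1)
    let b : O.toScheme ⟶ (W w).toScheme := IsOpenImmersion.lift (W w).ι (O.ι ≫ j ξ T) (by
      rintro _ ⟨p, rfl⟩
      rw [Scheme.Opens.range_ι]
      exact p.2.2)
    have ha : a ≫ (V z).ι = O.ι ≫ j ξ T := IsOpenImmersion.lift_fac _ _ _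
    have hb : b ≫ (W w).ι = O.ι ≫ j ξ T := IsOpenImmersion.lift_fac _ _ _
    let U : Over S := Over.mk (O.ι ≫ j ξ T ≫ T.hom)
    have hU : Nonempty U.left := ⟨⟨e', hO⟩⟩
    let f : U ⟶ T := Over.homMk (O.ι ≫ j ξ T) (by simp [U])
    apply cpt_injective (eG := eG) (T := U)
    have h3 : f ≫ toUnit T ≫ cpt eG z = f ≫ x := by
      apply Over.OverMorphism.ext
      change (O.ι ≫ j ξ T) ≫ _ = (O.ι ≫ j ξ T) ≫ _
      rw [← ha, Category.assoc, Category.assoc, hV' z]
    have h4 : f ≫ toUnit T ≫ cpt eG w = f ≫ y := by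
      apply Over.OverMorphism.ext
      change (O.ι ≫ j ξ T) ≫ _ = (O.ι ≫ j ξ T) ≫ _
      rw [← hb, Category.assoc, Category.assoc, hW' w]
    have h5 : f ≫ x = f ≫ y := by
      apply Over.OverMorphism.ext
      change (O.ι ≫ j ξ T) ≫ _ = (O.ι ≫ j ξ T) ≫ _
      rw [Category.assoc, Category.assoc, h]
    have h6 : toUnit U = f ≫ toUnit T := toUnit_unique _ _
    rw [h6, Category.assoc, Category.assoc, h3, h4, h5]
  apply Over.OverMorphism.ext
  apply Scheme.hom_ext_of_forall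
  intro t
  obtain ⟨z, hz, -⟩ := hV t
  obtain ⟨w, hw, -⟩ := hW t
  obtain rfl := key t z w hz hw
  have hVW : V z = W z := by
    apply TopologicalSpace.Opens.ext
    ext s
    constructor
    · intro hs
      obtain ⟨w, hw, -⟩ := hW s
      obtain rfl := key s z w hs hw
      exact hw
    · intro hs
      obtain ⟨w, hw', -⟩ := hV s
      obtain rfl := key s w z hw' hs
      exact hw'
  refine ⟨V z, hz, ?_⟩
  rw [hV' z, hVW, hW' z]

include eG hS hξ in
theorem exists_ext (g : Over.mk (j ξ T ≫ T.hom) ⟶ G) : ∃ y : T ⟶ G, j ξ T ≫ y.left = g.left := by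
  obtain ⟨V', hV1, hV2⟩ := const_dec (eG := eG) g
  choose e' he1 he2 he3 using exists_gen hS hξ T
  have hemb : Topology.IsEmbedding (j ξ T) := (j ξ T).isEmbedding
  let V : Z → T.left.Opens := fun z => ⟨{w | e' w ∈ V' z}, by
    rw [isOpen_iff_forall_mem_open]
    intro w hw
    refine ⟨{y | j ξ T (e' w) ⤳ y}, fun y hy => ?_,
      K564.SmoothUnibr.isOpen_specializes T.hom (fun w => K564.SmoothUnibr.exists_generic T.hom w (hS _))
        _ (he3 w), he1 w⟩
    have h1 : j ξ T (e' y) ⤳ j ξ T (e' w) := he2 y _ hy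
    have h2 : e' y = e' w := hemb.injective (he3 w _ h1)
    change e' y ∈ V' z
    rw [h2]
    exact hw⟩
  have hV : ∀ t, ∃! z, t ∈ V z := fun t => hV1 (e' t)
  obtain ⟨f, hf⟩ := exists_glue V hV (fun z => (V z).ι ≫ (toUnit T ≫ cpt eG z).left)
  let y : T ⟶ G := Over.homMk f (by
    apply Scheme.hom_ext_of_forall
    intro t
    obtain ⟨z, hz, -⟩ := hV t
    refine ⟨V z, hz, ?_⟩
    rw [← Category.assoc, hf, Category.assoc, Over.w])
  refine ⟨y, ?_⟩
  apply Scheme.hom_ext_of_forall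
  intro t
  obtain ⟨z, hz, -⟩ := hV1 t
  refine ⟨V' z, hz, ?_⟩
  rw [hV2 z]
  have hr : Set.range ((V' z).ι ≫ j ξ T) ⊆ Set.range (V z).ι := by
    rw [Scheme.Opens.range_ι]
    rintro _ ⟨p, rfl⟩
    have h1 : e' (j ξ T p.1) ⤳ p.1 := hemb.isInducing.specializes_iff.1 (he1 (j ξ T p.1))
    exact h1.mem_open (V' z).2 p.2
  let a : (V' z).toScheme ⟶ (V z).toScheme := IsOpenImmersion.lift (V z).ι ((V' z).ι ≫ j ξ T) hr
  have ha : a ≫ (V z).ι = (V' z).ι ≫ j ξ T := IsOpenImmersion.lift_fac _ _ _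
  have h1 : (V' z).ι ≫ j ξ T ≫ y.left = a ≫ (V z).ι ≫ (toUnit T ≫ cpt eG z).left := by
    rw [← hf, ← Category.assoc, ← ha, Category.assoc]
    rfl
  rw [h1, ← Category.assoc, ha, Category.assoc]
  have h2 : j ξ T ≫ (toUnit T ≫ cpt eG z).left =
      (toUnit (Over.mk (j ξ T ≫ T.hom)) ≫ cpt eG z).left := by
    rw [Over.comp_left, Over.comp_left, Over.toUnit_left, Over.toUnit_left, ← Category.assoc]
    rfl
  rw [h2]

end K565.GenConst
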