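import Groth.Agent.SGA7.K565.TwistExt
import Groth.Agent.SGA7.K565.ExtTools

/-!
# Exact sequences of group schemes with a scheme-theoretic section
-/

set_option autoImplicit false
universe u

open CategoryTheory CategoryTheory.Limits MonoidalCategory CartesianMonoidalCategory MonObj GrpObj AlgebraicGeometry

namespace K565.SplitExact

open TwistExt

variable {S : Scheme.{u}} {G E P : Over S} [GrpObj G] [GrpObj E] [GrpObj P] {u : G ⟶ E} {v : E ⟶ P}

theorem isPullback_of_split [IsMonHom u] [IsMonHom v] {σ : P ⟶ E} (h : Split u v σ) :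
    IsPullback (fst E G) ((E ◁ u) ≫ μ[E]) v v := by
  have key : ∀ {T : Over S} (c : T ⟶ E ⊗ G), c ≫ (E ◁ u) ≫ μ[E] = (c ≫ fst E G) * (c ≫ snd E G ≫ u) :=
    fun c => ExtTools.mul_u_eq _ c
  have hk : ∀ s : PullbackCone v v, (s.fst⁻¹ * s.snd) ≫ v = 1 := fun s => by
    rw [MonObj.mul_comp, GrpObj.inv_comp, s.condition, inv_mul_cancel]
  refine ⟨⟨?_⟩, ⟨PullbackCone.IsLimit.mk _ (fun s => lift s.fst
    (h.ker (s.fst⁻¹ * s.snd) (hk s)).choose) ?_ ?_ ?_⟩⟩
  · have h1 := key (𝟙 (E ⊗ G))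
    rw [Category.id_comp, Category.id_comp, Category.id_comp] at h1
    rw [h1, MonObj.mul_comp, Category.assoc, h.uv, MonObj.comp_one, _root_.mul_one]
  · intro s
    rw [lift_fst]
  · intro s
    rw [key, lift_fst, lift_snd_assoc, (h.ker (s.fst⁻¹ * s.snd) (hk s)).choose_spec, mul_inv_cancel_left]
  · intro s m hm1 hm2
    apply CartesianMonoidalCategory.hom_ext
    · rw [lift_fst]; exact hm1
    · rw [lift_snd]
      apply h.inj
      rw [(h.ker (s.fst⁻¹ * s.snd) (hk s)).choose_spec, ← hm1, ← hm2, key, inv_mul_cancel_left, Category.assoc]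

theorem isLocallyTrivialFor_of_section (X : Over S) (s : S ⟶ X.left) (hs : s ≫ X.hom = 𝟙 S) :
    NonAbH1.IsLocallyTrivialFor Scheme.fppfPrecoverage X := by
  refine ⟨Presieve.singleton (𝟙 S), Precoverage.HasIsos.mem_coverings_of_isIso (𝟙 S), ?_⟩
  rintro _ _ ⟨⟩
  exact ⟨s, hs⟩

theorem isExactSeq_of_split [hu : IsMonHom u] [hv : IsMonHom v] {σ : P ⟶ E} (h : Split u v σ) :
    NonAbH1.IsExactSeq Scheme.fppfPrecoverage u v := by
  refine ⟨hu, hv, h.uv, isPullback_of_split h, isLocallyTrivialFor_of_section _ σ.left ?_⟩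
  exact congrArg (fun f => f.left) h.sv

/-- A scheme-theoretic section gives a pointed one. -/
theorem exists_split (hex : NonAbH1.IsExactSeq Scheme.fppfPrecoverage u v) (s' : P ⟶ E) (hs' : s' ≫ v = 𝟙 P) :
    ∃ s : P ⟶ E, Split u v s := by
  have hu := hex.1
  have hv := hex.2.1
  refine ⟨s' * ((1 : P ⟶ P) ≫ s')⁻¹, hex.2.2.1, ?_, ?_, fun y hy => ExtTools.exists_ker hex y hy,
    fun g g' h => ExtTools.u_inj hex h⟩
  · rw [MonObj.mul_comp, GrpObj.inv_comp, Category.assoc, hs', Category.comp_id, inv_one, _root_.mul_one]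
  · rw [MonObj.comp_mul, GrpObj.comp_inv, ← Category.assoc, MonObj.comp_one, _root_.mul_inv_cancel]

end K565.SplitExact
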