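import Groth.Agent.SGA7.K565.NDimCore
import Groth.Agent.SGA7.K564.Tate.Dual

/-!
# The dimension of a Barsotti-Tate system depends only on its generic fibre
-/

set_option autoImplicit false
universe u

open TensorProduct CartDual K564.Tate IsLocalRing

namespace K565.NDimM

section Points

variable {R : Type u} [CommRing R] {S : Type u} [CommRing S] [Algebra R S]

theorem pc_qc {B B' : Type u} [CommRing B] [HopfAlgebra R B] [CommRing B'] [HopfAlgebra R B']
    [Coalgebra.IsCocomm R B] [Coalgebra.IsCocomm R B'] (f : B' →ₐc[R] B) (σ : S →ₐ[R] S)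
    (x : WithConv (B →ₐ[R] S)) : pc f S (qc B σ x) = qc B' σ (pc f S x) := rfl

theorem pr_qc {B : Type u} [CommRing B] [HopfAlgebra R B] [Coalgebra.IsCocomm R B] [Module.Finite R B]
    [Module.Free R B] (σ : S →ₐ[R] S) (x : WithConv (B →ₐ[R] S)) (y : WithConv (D R B →ₐ[R] S)) :
    pr B (qc B σ x).ofConv.toLinearMap (qc (D R B) σ y).ofConv.toLinearMap =
      σ (pr B x.ofConv.toLinearMap y.ofConv.toLinearMap) := by
  have h1 : (qc B σ x).ofConv.toLinearMap = σ.toLinearMap ∘ₗ x.ofConv.toLinearMap := rfl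
  have h2 : (qc (D R B) σ y).ofConv.toLinearMap = σ.toLinearMap ∘ₗ y.ofConv.toLinearMap := rfl
  rw [h1, h2, pr_map]

/-- precomposition with a generically surjective map is injective on points. -/
theorem pc_injective {B B' : Type u} [CommRing B] [HopfAlgebra R B] [CommRing B'] [HopfAlgebra R B']
    [Coalgebra.IsCocomm R B] [Coalgebra.IsCocomm R B'] [IsDomain S] (hinj : Function.Injective (algebraMap R S))
    (f : B' →ₐc[R] B) (hs : ∀ b : B, ∃ r : R, r ≠ 0 ∧ ∃ a, f a = r • b) : Function.Injective (pc f S) := by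
  intro x y hxy
  apply WithConv.ofConv_injective
  apply PtLift.lift_unique hinj (f : B' →ₐ[R] B) hs
  exact congrArg WithConv.ofConv hxy

end Points

section Transport

variable {R Kb : Type u} [CommRing R] [IsDomain R] [Field Kb] [Algebra R Kb] {p h : ℕ}

omit [IsDomain R] in
theorem injR (hKb : Function.Injective (algebraMap R Kb)) :
    Function.Injective (algebraMap R (integralClosure R Kb)) := by
  intro a b hab
  exact hKb (congrArg (fun v : integralClosure R Kb => (v : Kb)) hab)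

/-- characters of a generically equal system. -/
theorem exists_char (hKb : Function.Injective (algebraMap R Kb)) (Φ Φ' : Sys R p h) (u : ∀ n, Φ'.B n →ₐc[R] Φ.B n)
    (hu : ∀ n, Function.Injective (u n)) (hs : ∀ n (b : Φ.B n), ∃ r : R, r ≠ 0 ∧ ∃ a, u n a = r • b)
    (hres : ∀ n (a : Φ'.B (n + 1)), u n (Φ'.res n a) = Φ.res n (u (n + 1) a))
    (e : Φ.Y (integralClosure R Kb)) :
    ∃ f : Φ'.Y (integralClosure R Kb), ∀ n, pc (transpose R (u n)) _ (f.1 n) = e.1 n := by
  have hfs : FaithfulSMul R Kb := (faithfulSMul_iff_algebraMap_injective R Kb).2 hKb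
  have h1 : ∀ n, ∃ x : D R (Φ'.B n) →ₐ[R] integralClosure R Kb,
      x.comp (transpose R (u n) : D R (Φ.B n) →ₐ[R] D R (Φ'.B n)) = (e.1 n).ofConv := fun n =>
    PtLift.exists_lift (transpose R (u n) : D R (Φ.B n) →ₐ[R] D R (Φ'.B n))
      (PtLift.transpose_injective (u n) (hs n)) (PtLift.transpose_gen (u n) (hu n) (hs n)) _
  choose x hx using h1
  have hx' : ∀ n, pc (transpose R (u n)) (integralClosure R Kb) (WithConv.toConv (x n)) = e.1 n := fun n =>
    WithConv.ofConv_injective (hx n)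
  refine ⟨⟨fun n => WithConv.toConv (x n), fun n => ?_⟩, hx'⟩
  apply pc_injective (injR hKb) (transpose R (u n)) (PtLift.transpose_gen (u n) (hu n) (hs n))
  rw [hx']
  have h2 := e.2 n
  rw [← h2, ← hx' (n + 1)]
  apply WithConv.ofConv_injective
  apply AlgHom.ext
  intro y
  change x (n + 1) (transpose R (Φ'.res n) (transpose R (u n) y)) =
    x (n + 1) (transpose R (u (n + 1)) (transpose R (Φ.res n) y))
  congr 1
  apply WithConv.ofConv_injective
  apply LinearMap.ext
  intro a
  change y.ofConv (u n (Φ'.res n a)) = y.ofConv (Φ.res n (u (n + 1) a))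
  rw [hres]

end Transport

section Main

variable {R : Type u} [CommRing R] [IsDomain R] [IsDiscreteValuationRing R] [CharZero R]
  [IsAdicComplete (maximalIdeal R) R] [Infinite (ResidueField R)] {p h : ℕ} [Fact p.Prime]

/-- **Orthogonality** of the Lie algebras of a system `Φ'` and of the dual of a generically equal
system `Φ`. -/
theorem lie_add_le (hInj : NInj.{u}) (hBas : NBas.{u}) (hpm : (p : R) ∈ maximalIdeal R) (Φ Φ' : Sys R p h)
    (u : ∀ n, Φ'.B n →ₐc[R] Φ.B n)
    (hu : ∀ n, Function.Injective (u n)) (hs : ∀ n (b : Φ.B n), ∃ r : R, r ≠ 0 ∧ ∃ a, u n a = r • b)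
    (hres : ∀ n (a : Φ'.B (n + 1)), u n (Φ'.res n a) = Φ.res n (u (n + 1) a))
    (r r' : ℕ) (t : Fin r → ∀ n, Φ'.B n →ₗ[R] R) (ht : ∀ l, Φ'.IsLie (t l))
    (hti : ∀ c : Fin r → R, (∀ x : Φ'.B 1, ∑ l, c l * t l 1 x ∈ maximalIdeal R) → ∀ l, c l ∈ maximalIdeal R)
    (t' : Fin r' → ∀ n, Φ.dual.B n →ₗ[R] R) (ht' : ∀ l, Φ.dual.IsLie (t' l))
    (hti' : ∀ c : Fin r' → R, (∀ x : Φ.dual.B 1, ∑ l, c l * t' l 1 x ∈ maximalIdeal R) →
      ∀ l, c l ∈ maximalIdeal R) : r + r' ≤ h := by
  classical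
  let K := FractionRing R
  let Kb := AlgebraicClosure K
  have hpp : p.Prime := Fact.out
  obtain ⟨z, e, e', hz, hz', hpair, hT, hY⟩ := hBas R K Kb p h Φ
  -- Galois matrices
  have hA : ∀ (s : Kb ≃ₐ[K] Kb) n i, ∃ a : Fin h → ℕ,
      qc (Φ.B n) (NDimCore.sV (R := R) s) ((e i).1 n) = ∏ k, (e k).1 n ^ a k := fun s n i =>
    (hT n _).2
  have hB : ∀ (s : Kb ≃ₐ[K] Kb) n i, ∃ a : Fin h → ℕ,
      qc (D R (Φ.B n)) (NDimCore.sV (R := R) s) ((e' i).1 n) = ∏ k, (e' k).1 n ^ a k := fun s n i =>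
    (hY n _).2
  choose a ha using hA
  choose b hb using hB
  -- the pairing of products
  have hpa : ∀ n (m : Fin h → ℕ) k, prHom' ((e' k).1 n) (∏ l, (e l).1 n ^ m l) = z n ^ m k := by
    intro n m k
    rw [map_prod]
    rw [Finset.prod_eq_single k]
    · rw [map_pow]
      change (pr _ _ _) ^ _ = _
      rw [hpair, if_pos rfl]
    · intro l _ hl
      rw [map_pow]
      change (pr _ _ _) ^ _ = _
      rw [hpair, if_neg hl, one_pow]
    · intro h0; exact absurd (Finset.mem_univ k) h0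
  have hpb : ∀ n (m : Fin h → ℕ) k, prHom ((e k).1 n) (∏ l, (e' l).1 n ^ m l) = z n ^ m k := by
    intro n m k
    rw [map_prod]
    rw [Finset.prod_eq_single k]
    · rw [map_pow]
      change (pr _ _ _) ^ _ = _
      rw [hpair, if_pos rfl]
    · intro l _ hl
      rw [map_pow]
      change (pr _ _ _) ^ _ = _
      rw [hpair, if_neg (Ne.symm hl), one_pow]
    · intro h0; exact absurd (Finset.mem_univ k) h0
  -- roots of unity in `Kb`
  have hzK : ∀ n, IsPrimitiveRoot ((z n : integralClosure R Kb) : Kb) (p ^ n) := fun n =>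
    (hz n).map_of_injective (f := (integralClosure R Kb).val) Subtype.val_injective
  have hmod : ∀ n (c d : ℕ), z n ^ c = z n ^ d → c ≡ d [MOD p ^ n] := by
    intro n c d hcd
    apply CycK.modEq_of_pow_eq hpp.ne_zero _ _ (hzK n)
    have := congrArg (fun v : integralClosure R Kb => (v : Kb)) hcd
    simpa using this
  have hχ : ∀ (s : Kb ≃ₐ[K] Kb) n, ∃ c : ℕ, s ((z n : integralClosure R Kb) : Kb) =
      ((z n : integralClosure R Kb) : Kb) ^ c := by
    intro s n
    have h2 : s ((z n : integralClosure R Kb) : Kb) ^ p ^ n = 1 := by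
      rw [← map_pow, (hzK n).pow_eq_one, map_one]
    have : NeZero (p ^ n) := ⟨(pow_pos hpp.pos n).ne'⟩
    obtain ⟨i, -, hi⟩ := (hzK n).eq_pow_of_pow_eq_one h2
    exact ⟨i, hi.symm⟩
  choose χ hχ using hχ
  -- transport
  have hKb : Function.Injective (algebraMap R Kb) := by
    rw [IsScalarTower.algebraMap_eq R K Kb]
    exact (algebraMap K Kb).injective.comp (IsFractionRing.injective R K)
  have hf := fun i => exists_char hKb Φ Φ' u hu hs hres (e' i)
  choose f hf using hf
  have hg := fun i => (Φ.dualT_bijective (S := integralClosure R Kb)).2 (e i)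
  choose g hg using hg
  have hg' : ∀ i n, pc (Φ.evalH n) (integralClosure R Kb) ((g i).1 n) = (e i).1 n := by
    intro i n
    rw [← hg i]; rfl
  have hpcu : ∀ n, Function.Injective (pc (transpose R (u n)) (integralClosure R Kb)) := fun n =>
    pc_injective (injR hKb) _ (PtLift.transpose_gen (u n) (hu n) (hs n))
  have hpce : ∀ n, Function.Injective (pc (Φ.evalH n) (integralClosure R Kb)) := fun n =>
    pc_injective (injR hKb) _ (fun y => by
      obtain ⟨x, hx⟩ := (Φ.evalH_bijective n).2 y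
      exact ⟨1, one_ne_zero, x, by rw [hx, one_smul]⟩)
  refine NDimCore.core (K := K) (Kb := Kb) hInj hpm Φ' Φ.dual f g ?_ ?_ (fun n => ((z n : integralClosure R Kb) : Kb))
    hzK ?_ χ hχ a b ?_ ?_ ?_ ?_ ?_ r r' t ht hti t' ht' hti'
  · -- generation, first family
    intro n y
    obtain ⟨c, hc⟩ := (hY n (pc (transpose R (u n)) _ y)).2
    refine ⟨c, hpcu n ?_⟩
    rw [hc, map_prod]
    exact Finset.prod_congr rfl fun i _ => by rw [map_pow, hf]
  · -- generation, second family
    intro n y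
    obtain ⟨c, hc⟩ := (hT n (pc (Φ.evalH n) _ y)).2
    refine ⟨c, hpce n ?_⟩
    rw [hc, map_prod]
    exact Finset.prod_congr rfl fun i _ => by rw [map_pow, hg']
  · intro n
    rw [← hz' n]; push_cast; rfl
  · -- Galois matrix, first family
    intro s n i
    apply hpcu n
    rw [pc_qc, hf, hb, map_prod]
    exact Finset.prod_congr rfl fun k _ => by rw [map_pow, hf]
  · intro s n i
    apply hpce n
    rw [pc_qc, hg', ha, map_prod]
    exact Finset.prod_congr rfl fun k _ => by rw [map_pow, hg']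
  · -- compatibility of `a`
    intro s n i k
    apply hmod
    rw [← hpa, ← hpa, ← ha s n i]
    congr 1
    have h1 := congrArg (pc (Φ.inf n) (integralClosure R Kb)) (ha s (n + 1) i)
    rw [pc_qc, map_prod] at h1
    have h2 : ∀ l, pc (Φ.inf n) (integralClosure R Kb) ((e l).1 (n + 1)) = (e l).1 n := fun l => (e l).2 n
    rw [h2] at h1
    rw [h1]
    exact Finset.prod_congr rfl fun l _ => by rw [map_pow, h2]
  · -- compatibility of `b`
    intro s n i k
    apply hmod
    rw [← hpb, ← hpb, ← hb s n i]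
    congr 1
    have h1 := congrArg (pc (transpose R (Φ.res n)) (integralClosure R Kb)) (hb s (n + 1) i)
    rw [pc_qc, map_prod] at h1
    have h2 : ∀ l, pc (transpose R (Φ.res n)) (integralClosure R Kb) ((e' l).1 (n + 1)) = (e' l).1 n :=
      fun l => (e' l).2 n
    rw [h2] at h1
    rw [h1]
    exact Finset.prod_congr rfl fun l _ => by rw [map_pow, h2]
  · -- duality of the matrices
    intro s n i k
    apply hmod
    have h1 : pr (Φ.B n) (qc (Φ.B n) (NDimCore.sV (R := R) s) ((e i).1 n)).ofConv.toLinearMap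
        (qc (D R (Φ.B n)) (NDimCore.sV (R := R) s) ((e' k).1 n)).ofConv.toLinearMap =
        NDimCore.sV (R := R) s (pr (Φ.B n) ((e i).1 n).ofConv.toLinearMap ((e' k).1 n).ofConv.toLinearMap) :=
      pr_qc (NDimCore.sV (R := R) s) ((e i).1 n) ((e' k).1 n)
    rw [ha, hb, hpair] at h1
    have h2 : pr (Φ.B n) (∏ l, (e l).1 n ^ a s n i l).ofConv.toLinearMap
        (∏ l, (e' l).1 n ^ b s n k l).ofConv.toLinearMap = z n ^ ∑ l, a s n i l * b s n k l := by
      change prHom (∏ l, (e l).1 n ^ a s n i l) (∏ l, (e' l).1 n ^ b s n k l) = _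
      rw [map_prod, ← Finset.prod_pow_eq_pow_sum]
      refine Finset.prod_congr rfl fun m _ => ?_
      rw [map_pow, pow_mul]
      congr 1
      exact hpa n (a s n i) m
    rw [← h2, h1]
    apply Subtype.ext
    rw [NDimCore.sV_coe]
    split_ifs with hik
    · rw [hχ]; push_cast; rfl
    · rw [pow_zero]
      exact map_one s

/-- the trace ideal of a system is small if there are many Lie elements. -/
theorem trI_le_of_lie (hDual : NDual.{u}) (hLie : NLie.{u}) (hInj : NInj.{u}) (hBas : NBas.{u})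
    (hpm : (p : R) ∈ maximalIdeal R) (Φ Φ' : Sys R p h)
    (u : ∀ n, Φ'.B n →ₐc[R] Φ.B n)
    (hu : ∀ n, Function.Injective (u n)) (hs : ∀ n (b : Φ.B n), ∃ r : R, r ≠ 0 ∧ ∃ a, u n a = r • b)
    (hres : ∀ n (a : Φ'.B (n + 1)), u n (Φ'.res n a) = Φ.res n (u (n + 1) a))
    (r : ℕ) (t : Fin r → ∀ n, Φ'.B n →ₗ[R] R) (ht : ∀ l, Φ'.IsLie (t l))
    (hti : ∀ c : Fin r → R, (∀ x : Φ'.B 1, ∑ l, c l * t l 1 x ∈ maximalIdeal R) → ∀ l, c l ∈ maximalIdeal R) :
    trI R (Φ.B 1) ≤ Ideal.span {(p : R) ^ r} := by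
  obtain ⟨r', t', ht', hr', hti'⟩ := hLie R p h hpm Φ.dual
  have hle := lie_add_le hInj hBas hpm Φ Φ' u hu hs hres r r' t ht hti t' ht' hti'
  have hd := hDual R (Φ.B 1)
  rw [Φ.rank 1, one_mul] at hd
  intro x hx
  have h1 : x * (p : R) ^ r' ∈ trI R (Φ.B 1) * trI R (D R (Φ.B 1)) := Ideal.mul_mem_mul hx hr'
  rw [hd, Ideal.mem_span_singleton] at h1
  rw [Ideal.mem_span_singleton]
  obtain ⟨c, hc⟩ := h1
  obtain ⟨m, rfl⟩ := Nat.exists_eq_add_of_le hle
  have hp0 : (p : R) ≠ 0 := by exact_mod_cast (Nat.Prime.ne_zero (Fact.out : p.Prime))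
  refine ⟨(p : R) ^ m * c, ?_⟩
  apply mul_right_cancel₀ (pow_ne_zero r' hp0)
  rw [hc]
  push_cast
  ring

end Main

/-- **The dimension depends only on the generic fibre.** -/
theorem main (hDual : NDual.{u}) (hLie : NLie.{u}) (hInj : NInj.{u}) (hBas : NBas.{u}) : NDim.{u} := by
  intro R _ _ _ _ _ _ p h _ hpm Φ Φ' u hu hs hres hinf
  have hinf : Infinite (ResidueField R) := IsAlgClosed.instInfinite
  obtain ⟨r, t, ht, hr, hti⟩ := hLie R p h hpm Φ'
  have h1 := trI_le_of_lie hDual hLie hInj hBas hpm Φ Φ' u hu hs hres r t ht hti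
  exact h1.trans ((Ideal.span_singleton_le_iff_mem _).2 hr)

end K565.NDimM
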