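import Groth.Agent.Dual.H366.ExtQCoh
import Groth.Agent.CohqA.FinSec

/-!
# Quasi-coherent modules from modules on the affine opens, with restriction relations

`AffRel X`: a module `M V` over `Γ(X, V)` for every affine open `V`, and for `W ≤ V` a relation `R` between `M V` and
`M W` (the graph of a semilinear restriction map), localizing on basic opens.
* `AffRel.sh`: the associated sheaf of modules; `AffRel.sec U : M U ≃ₗ Γ(sh, U)` for `U` affine;
* `AffRel.isQCoh`, `AffRel.isCoh`.
-/

set_option autoImplicit false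
universe u

open CategoryTheory CategoryTheory.Limits AlgebraicGeometry Opposite TopologicalSpace
open Groth.Agent.Sga67.Sec Groth.Agent.Dual.H366.ExtQCoh

namespace K565

/-- Basic opens as affine opens. -/
def dop {X : Scheme.{u}} (V : X.affineOpens) (g : Γ(X, V.1)) : X.affineOpens := ⟨X.basicOpen g, V.2.basicOpen g⟩

theorem dop_le {X : Scheme.{u}} (V : X.affineOpens) (g : Γ(X, V.1)) : (dop V g).1 ≤ V.1 := X.basicOpen_le g

/-- Modules on the affine opens of a scheme with restriction relations. -/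
structure AffRel (X : Scheme.{u}) where
  /-- the module on an affine open -/
  M : X.affineOpens → Type u
  [acg : ∀ V, AddCommGroup (M V)]
  [mod : ∀ V : X.affineOpens, Module Γ(X, V.1) (M V)]
  /-- the graph of the restriction -/
  R : ∀ {V W : X.affineOpens}, W.1 ≤ V.1 → M V → M W → Prop
  R_add : ∀ {V W : X.affineOpens} (h : W.1 ≤ V.1) {t t' : M V} {s s' : M W}, R h t s → R h t' s' →
    R h (t + t') (s + s')
  R_smul : ∀ {V W : X.affineOpens} (h : W.1 ≤ V.1) (b : Γ(X, V.1)) {t : M V} {s : M W}, R h t s →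
    R h (b • t) (resO X h b • s)
  R_self : ∀ {V : X.affineOpens} {t s : M V}, R (le_refl V.1) t s ↔ t = s
  R_trans : ∀ {V W Z : X.affineOpens} (h : W.1 ≤ V.1) (h' : Z.1 ≤ W.1) {t : M V} {s : M W} {r : M Z},
    R h t s → R h' s r → R (h'.trans h) t r
  exu : ∀ {V W : X.affineOpens} (h : W.1 ≤ V.1) (t : M V), ∃! s, R h t s
  loc_inj : ∀ (V : X.affineOpens) (g : Γ(X, V.1)) (t : M V), R (dop_le V g) t 0 → ∃ n : ℕ, g ^ n • t = 0
  loc_surj : ∀ (V : X.affineOpens) (g : Γ(X, V.1)) (s : M (dop V g)),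
    ∃ (n : ℕ) (t : M V), R (dop_le V g) t (resO X (dop_le V g) (g ^ n) • s)

namespace AffRel

attribute [instance] acg mod

variable {X : Scheme.{u}} (A : AffRel X)

theorem R_zero {V W : X.affineOpens} (h : W.1 ≤ V.1) : A.R h 0 0 := by
  obtain ⟨s, hs, -⟩ := A.exu h (0 : A.M V)
  have := A.R_smul h 0 hs
  rwa [zero_smul, map_zero, zero_smul] at this

theorem R_neg {V W : X.affineOpens} (h : W.1 ≤ V.1) {t : A.M V} {s : A.M W} (hs : A.R h t s) :
    A.R h (-t) (-s) := by
  have := A.R_smul h (-1) hs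
  rwa [neg_one_smul, map_neg, map_one, neg_one_smul] at this

theorem R_unique {V W : X.affineOpens} (h : W.1 ≤ V.1) {t : A.M V} {s s' : A.M W} (hs : A.R h t s)
    (hs' : A.R h t s') : s = s' := (A.exu h t).unique hs hs'

/-- The affine opens contained in `U`. -/
abbrev Below (U : X.Opens) : Type u := {V : X.affineOpens // V.1 ≤ U}

/-- Compatible families on the affine opens contained in `U`. -/
def fam (U : X.Opens) : AddSubgroup (∀ V : Below U, A.M V.1) where
  carrier := {t | ∀ (V W : Below U) (h : W.1.1 ≤ V.1.1), A.R h (t V) (t W)}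
  add_mem' := fun ha hb V W h => A.R_add h (ha V W h) (hb V W h)
  zero_mem' := fun _ _ h => A.R_zero h
  neg_mem' := fun ha V W h => A.R_neg h (ha V W h)

/-- The action of functions on families. -/
noncomputable instance (U : X.Opens) : SMul Γ(X, U) (A.fam U) where
  smul r t := ⟨fun V => resO X V.2 r • t.1 V, fun V W h => by
    have h1 := A.R_smul h (resO X V.2 r) (t.2 V W h)
    rwa [resO_resO] at h1⟩

theorem smul_apply {U : X.Opens} (r : Γ(X, U)) (t : A.fam U) (V : Below U) :
    (r • t).1 V = resO X V.2 r • t.1 V := rfl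

noncomputable instance (U : X.Opens) : Module Γ(X, U) (A.fam U) where
  one_smul t := Subtype.ext (funext fun V => by rw [smul_apply, map_one, one_smul])
  mul_smul r s t := Subtype.ext (funext fun V => by
    rw [smul_apply, smul_apply, smul_apply, map_mul, mul_smul])
  smul_zero r := Subtype.ext (funext fun V => by
    rw [smul_apply]
    exact smul_zero _)
  smul_add r t t' := Subtype.ext (funext fun V => by
    rw [smul_apply]
    exact smul_add _ _ _)
  add_smul r s t := Subtype.ext (funext fun V => by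
    rw [smul_apply, map_add, add_smul]
    rfl)
  zero_smul t := Subtype.ext (funext fun V => by
    rw [smul_apply, map_zero, zero_smul]
    rfl)

/-- Restriction of families. -/
def fres {U U' : X.Opens} (h : U' ≤ U) : A.fam U →+ A.fam U' where
  toFun t := ⟨fun V => t.1 ⟨V.1, V.2.trans h⟩, fun _ _ h' => t.2 _ _ h'⟩
  map_zero' := rfl
  map_add' _ _ := rfl

theorem fres_smul {U U' : X.Opens} (h : U' ≤ U) (r : Γ(X, U)) (t : A.fam U) :
    A.fres h (r • t) = resO X h r • A.fres h t := by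
  refine Subtype.ext (funext fun V => ?_)
  rw [smul_apply, resO_resO]
  rfl

/-- The presheaf of abelian groups of families. -/
def preAb : TopCat.Presheaf AddCommGrpCat.{u} X where
  obj U := AddCommGrpCat.of (A.fam U.unop)
  map f := AddCommGrpCat.ofHom (A.fres f.unop.le)
  map_id _ := rfl
  map_comp _ _ := rfl

set_option backward.isDefEq.respectTransparency false in
noncomputable instance (U : (Opens X)ᵒᵖ) :
    Module ((X.sheaf.obj ⋙ forget₂ CommRingCat RingCat.{u}).obj U) (A.preAb.obj U) :=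
  inferInstanceAs (Module Γ(X, U.unop) (A.fam U.unop))

/-- The presheaf of modules of families. -/
noncomputable def pre : CohB1.PMod X :=
  PresheafOfModules.ofPresheaf (R := X.sheaf.obj ⋙ forget₂ CommRingCat RingCat.{u}) A.preAb (by
    intro U V f r x
    exact A.fres_smul f.unop.le r x)

/-- Sections of `pre`. -/
noncomputable def toPre (U : X.Opens) : A.fam U ≃ₗ[Γ(X, U)] PSec A.pre U where
  toFun x := x
  invFun x := x
  left_inv _ := rfl
  right_inv _ := rfl
  map_add' _ _ := rfl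
  map_smul' _ _ := rfl

theorem pres_toPre {U V : X.Opens} (h : V ≤ U) (x : A.fam U) :
    pres A.pre h (A.toPre U x) = A.toPre V (A.fres h x) := rfl

/-- On an affine open a family is determined by its value there. -/
theorem exists_fam (U : X.affineOpens) (t : A.M U) : ∃ f : A.fam U.1, f.1 ⟨U, le_rfl⟩ = t := by
  choose s hs hs' using fun V : Below U.1 => A.exu V.2 t
  refine ⟨⟨s, fun V W h => ?_⟩, ?_⟩
  · obtain ⟨r, hr, -⟩ := A.exu h (s V)
    have h1 := A.R_trans V.2 h (hs V) hr
    rwa [hs' W r h1] at hr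
  · have := hs ⟨U, le_rfl⟩
    exact (A.R_self.1 this).symm

theorem fam_ext {U : X.affineOpens} {f g : A.fam U.1} (h : f.1 ⟨U, le_rfl⟩ = g.1 ⟨U, le_rfl⟩) : f = g := by
  refine Subtype.ext (funext fun V => ?_)
  have h1 := f.2 ⟨U, le_rfl⟩ V V.2
  have h2 := g.2 ⟨U, le_rfl⟩ V V.2
  rw [← h] at h2
  exact A.R_unique _ h1 h2

/-- Evaluation at an affine open. -/
noncomputable def ev (U : X.affineOpens) : A.fam U.1 ≃ₗ[Γ(X, U.1)] A.M U :=
  LinearEquiv.ofBijective
    { toFun := fun f => f.1 ⟨U, le_rfl⟩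
      map_add' := fun _ _ => rfl
      map_smul' := fun r f => by
        change resO X _ r • _ = _
        rw [resO_self]
        rfl }
    ⟨fun _ _ h => A.fam_ext h, fun t => A.exists_fam U t⟩

theorem ev_apply (U : X.affineOpens) (f : A.fam U.1) : A.ev U f = f.1 ⟨U, le_rfl⟩ := rfl

theorem fam_loc_inj (V : X.affineOpens) (g : Γ(X, V.1)) (f : A.fam V.1) (h : A.fres (dop_le V g) f = 0) :
    ∃ n : ℕ, g ^ n • f = 0 := by
  have h2 : f.1 ⟨dop V g, dop_le V g⟩ = 0 := congrArg (fun t => t.1 ⟨dop V g, le_rfl⟩) h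
  have h3 := f.2 ⟨V, le_rfl⟩ ⟨dop V g, dop_le V g⟩ (dop_le V g)
  rw [h2] at h3
  obtain ⟨n, hn⟩ := A.loc_inj V g _ h3
  refine ⟨n, ?_⟩
  apply (A.ev V).injective
  rw [map_smul, map_zero, ev_apply, hn]

theorem fam_loc_surj (V : X.affineOpens) (g : Γ(X, V.1)) (f : A.fam (dop V g).1) :
    ∃ (n : ℕ) (s : A.fam V.1), A.fres (dop_le V g) s = resO X (dop_le V g) (g ^ n) • f := by
  obtain ⟨n, s, hs⟩ := A.loc_surj V g (A.ev (dop V g) f)
  refine ⟨n, (A.ev V).symm s, ?_⟩
  apply (A.ev (dop V g)).injective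
  rw [map_smul]
  have h1 := ((A.ev V).symm s).2 ⟨V, le_rfl⟩ ⟨dop V g, dop_le V g⟩ (dop_le V g)
  have h2 : ((A.ev V).symm s).1 ⟨V, le_rfl⟩ = s := (A.ev V).apply_symm_apply s
  rw [h2] at h1
  exact A.R_unique _ h1 hs

theorem locP : LocP A.pre where
  inj U hU g s hs := A.fam_loc_inj ⟨U, hU⟩ g s hs
  surj U hU g t := A.fam_loc_surj ⟨U, hU⟩ g t

/-- The associated sheaf of modules. -/
noncomputable def sh : X.Modules := (CohB1.sheafifyMod X).obj A.pre

/-- The map from families to sections of the sheaf. -/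
noncomputable def toSh (U : X.Opens) : A.fam U →ₗ[Γ(X, U)] Sec A.sh U :=
  (papp (eta A.pre) U).comp (A.toPre U).toLinearMap

theorem toSh_res {U V : X.Opens} (h : V ≤ U) (f : A.fam U) :
    A.toSh V (A.fres h f) = res A.sh h (A.toSh U f) := papp_pres (eta A.pre) h (A.toPre U f)

theorem toSh_bijective (U : X.affineOpens) : Function.Bijective (A.toSh U.1) :=
  (A.locP.bijective U.2).comp (A.toPre U.1).bijective

theorem toSh_injective (U : X.Opens) : Function.Injective (A.toSh U) := by
  rw [injective_iff_map_eq_zero]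
  intro f hf
  refine Subtype.ext (funext fun V => ?_)
  have h1 := A.toSh_res V.2 f
  rw [hf, map_zero] at h1
  have h2 := (injective_iff_map_eq_zero _).1 (A.toSh_bijective V.1).1 _ h1
  exact congrArg (fun t => t.1 ⟨V.1, le_rfl⟩) h2

/-- Sections over an affine open. -/
noncomputable def sec (U : X.affineOpens) : A.M U ≃ₗ[Γ(X, U.1)] Sec A.sh U.1 :=
  (A.ev U).symm.trans (LinearEquiv.ofBijective _ (A.toSh_bijective U))

theorem sec_eval (U : X.affineOpens) (f : A.fam U.1) : A.sec U (f.1 ⟨U, le_rfl⟩) = A.toSh U.1 f := by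
  change A.toSh U.1 ((A.ev U).symm (A.ev U f)) = _
  rw [LinearEquiv.symm_apply_apply]

/-- The relation is the graph of the restriction. -/
theorem R_iff {V W : X.affineOpens} (h : W.1 ≤ V.1) (t : A.M V) (s : A.M W) :
    A.R h t s ↔ res A.sh h (A.sec V t) = A.sec W s := by
  obtain ⟨f, rfl⟩ := A.exists_fam V t
  obtain ⟨g, rfl⟩ := A.exists_fam W s
  rw [sec_eval, sec_eval, ← toSh_res, (A.toSh_bijective W).1.eq_iff]
  have h1 := f.2 ⟨V, le_rfl⟩ ⟨W, h⟩ h
  constructor
  · intro h2
    exact A.fam_ext (A.R_unique h h1 h2)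
  · intro h2
    have h3 : (A.fres h f).1 ⟨W, le_rfl⟩ = g.1 ⟨W, le_rfl⟩ := congrArg (fun t => t.1 ⟨W, le_rfl⟩) h2
    rw [← h3]
    exact h1

theorem isQCoh : Coh.IsQCoh A.sh := by
  refine Groth.Agent.CohqA.AffSec.isQCoh_of_loc A.sh fun x => ?_
  obtain ⟨U, hU, hx, -⟩ := Opens.isBasis_iff_nbhd.mp X.isBasis_affineOpens
    (show x ∈ (⊤ : X.Opens) from trivial)
  refine ⟨U, hU, hx, fun g s hs => ?_, fun g t => ?_⟩
  · exact A.locP.exists_pow_smul hU g s hs
  · obtain ⟨p, rfl⟩ := (A.locP.bijective (hU.basicOpen g)).2 t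
    obtain ⟨n, s, hs⟩ := A.locP.surj U hU g p
    refine ⟨n, papp (eta A.pre) U s, ?_⟩
    have h1 := papp_pres (eta A.pre) (X.basicOpen_le g) s
    rw [hs, map_smul] at h1
    exact h1.symm.trans (by rw [map_pow]; rfl)

theorem finite_sec (V : X.affineOpens) (h : Module.Finite Γ(X, V.1) (A.M V)) :
    Module.Finite Γ(X, V.1) Γ(A.sh, V.1) := Module.Finite.equiv (A.sec V)

theorem isCoh (hfin : ∀ V : X.affineOpens, Module.Finite Γ(X, V.1) (A.M V)) : Coh.IsCoh A.sh := by
  refine ⟨A.isQCoh, Groth.Agent.CohqA.FinSec.isFT_of_finite A.isQCoh fun x => ?_⟩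
  obtain ⟨U, hU, hx, -⟩ := Opens.isBasis_iff_nbhd.mp X.isBasis_affineOpens
    (show x ∈ (⊤ : X.Opens) from trivial)
  exact ⟨U, hU, hx, A.finite_sec ⟨U, hU⟩ (hfin _)⟩

end AffRel

end K565
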