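import Groth.Prelude.Def_CotT2
import Groth.Prelude.Def_Coh

/-!
# Compatible families of classes in `T¹` over the affine opens of a scheme over a field

* `Compat φ t s`: compatibility of `t ∈ T¹(B/k, B)` and `s ∈ T¹(C/k, C)` along `φ : B → C`;
* `Sec x V`: `Γ(X, V)` as a `k`-algebra, `res`: restriction;
* `G x`: the `k`-module of compatible families of classes in `T¹(Γ(V)/k, Γ(V))`, `V` affine open.
-/

set_option autoImplicit false
universe u

open CategoryTheory AlgebraicGeometry CotT

namespace K565.TOneDef

section Alg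

variable (k : Type u) [CommRing k]

/-- `T¹(B/k, B)`, from the choice-free presentation. -/
abbrev T (B : Type u) [CommRing B] [Algebra k B] : Type u := T1 (canon k B) B

variable {B C : Type u} [CommRing B] [CommRing C] [Algebra k B] [Algebra k C]

section Inst

variable (B C) [Algebra B C] [IsScalarTower k B C]

/-- `T¹(B/k, B) → T¹(B/k, C)`. -/
noncomputable def push : T k B →ₗ[B] T1 (canon k B) C := T1map (canon k B) (Algebra.linearMap B C)

/-- `T¹(C/k, C) → T¹(B/k, C)`. -/
noncomputable def pull : T k C →ₗ[B] T1 (canon k B) C := (canonHom k B k C).T1pull C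

end Inst

variable {k}

/-- Compatibility of classes along `φ : B → C`: the images in `T¹(B/k, C)` agree. -/
def Compat (φ : B →ₐ[k] C) (t : T k B) (s : T k C) : Prop :=
  letI : Algebra B C := φ.toRingHom.toAlgebra
  haveI : IsScalarTower k B C := IsScalarTower.of_algebraMap_eq fun c => (φ.commutes c).symm
  pull k B C s = push k B C t

theorem compat_iff [i : Algebra B C] [IsScalarTower k B C] (φ : B →ₐ[k] C) (hφ : ∀ b, φ b = algebraMap B C b)
    (t : T k B) (s : T k C) : Compat φ t s ↔ pull k B C s = push k B C t := by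
  have h : i = φ.toRingHom.toAlgebra := Algebra.algebra_ext _ _ fun b => (hφ b).symm
  subst h
  exact Iff.rfl

theorem Compat.add {φ : B →ₐ[k] C} {t t' : T k B} {s s' : T k C} (h : Compat φ t s) (h' : Compat φ t' s') :
    Compat φ (t + t') (s + s') := by
  unfold Compat at *
  rw [map_add, map_add, h, h']

theorem Compat.zero (φ : B →ₐ[k] C) : Compat φ 0 0 := by
  unfold Compat
  rw [map_zero, map_zero]

/-- Compatibility and scalars of `B`. -/
theorem Compat.smul' {φ : B →ₐ[k] C} {t : T k B} {s : T k C} (b : B) (h : Compat φ t s) :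
    Compat φ (b • t) (φ b • s) := by
  let i1 : Algebra B C := φ.toRingHom.toAlgebra
  have i2 : IsScalarTower k B C := IsScalarTower.of_algebraMap_eq fun c => (φ.commutes c).symm
  change pull k B C (φ b • s) = push k B C (b • t)
  have h' : pull k B C s = push k B C t := h
  rw [map_smul (push k B C), ← h', ← map_smul (pull k B C)]
  congr 1

theorem Compat.smul {φ : B →ₐ[k] C} {t : T k B} {s : T k C} (c : k) (h : Compat φ t s) :
    Compat φ (c • t) (c • s) := by
  have := h.smul' (algebraMap k B c)
  rwa [φ.commutes, algebraMap_smul, algebraMap_smul] at this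

end Alg

section Geo

variable {k : Type u} [CommRing k] {X : Scheme.{u}} (x : X ⟶ Spec (CommRingCat.of k))

/-- The structure map `k → Γ(X, V)`. -/
noncomputable def strHom (V : X.Opens) : k →+* Γ(X, V) :=
  (X.presheaf.map (homOfLE (le_top : V ≤ ⊤)).op).hom.comp
    (x.appTop.hom.comp (Scheme.ΓSpecIso (CommRingCat.of k)).inv.hom)

theorem strHom_res {V W : X.Opens} (h : W ≤ V) :
    (X.presheaf.map (homOfLE h).op).hom.comp (strHom x V) = strHom x W := by
  unfold strHom
  rw [← RingHom.comp_assoc, ← CommRingCat.hom_comp, ← Functor.map_comp]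
  rfl

/-- `Γ(X, V)` as a `k`-algebra. -/
def Sec (_ : X ⟶ Spec (CommRingCat.of k)) (V : X.Opens) : Type u := Γ(X, V)

instance (V : X.Opens) : CommRing (Sec x V) := inferInstanceAs (CommRing Γ(X, V))

noncomputable instance (V : X.Opens) : Algebra k (Sec x V) := (strHom x V).toAlgebra

/-- Restriction. -/
noncomputable def res {V W : X.Opens} (h : W ≤ V) : Sec x V →ₐ[k] Sec x W :=
  { (X.presheaf.map (homOfLE h).op).hom with
    commutes' := fun c => DFunLike.congr_fun (strHom_res x h) c }

theorem res_apply {V W : X.Opens} (h : W ≤ V) (s : Sec x V) :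
    res x h s = (X.presheaf.map (homOfLE h).op).hom s := rfl

theorem res_res {V W W' : X.Opens} (h : W ≤ V) (h' : W' ≤ W) (s : Sec x V) :
    res x h' (res x h s) = res x (h'.trans h) s := by
  rw [res_apply, res_apply, res_apply, ← CommRingCat.comp_apply, ← Functor.map_comp]
  rfl

/-- Compatible families of classes in `T¹(Γ(V)/k, Γ(V))`, `V` affine open. -/
noncomputable def G : Submodule k (∀ V : X.affineOpens, T k (Sec x V)) where
  carrier := {t | ∀ (V W : X.affineOpens) (h : W.1 ≤ V.1), Compat (res x h) (t V) (t W)}
  add_mem' := fun ha hb V W h => (ha V W h).add (hb V W h)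
  zero_mem' := fun _ _ _ => Compat.zero _
  smul_mem' := fun c _ ha V W h => (ha V W h).smul c

end Geo

end K565.TOneDef
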