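import Groth.Agent.SGA7.K565.AffRel
import Groth.Agent.SGA7.K565.TOneDef
import Groth.Agent.VarietyA.H0Equiv
import Groth.Agent.S0002

/-!
# Finiteness of compatible families on a proper scheme
-/

set_option autoImplicit false
universe u w

open CategoryTheory CategoryTheory.Limits AlgebraicGeometry Opposite TopologicalSpace
open Groth.Agent.Sga67.Sec K565.TOneDef

namespace K565.AffRel

variable {k : Type u} [Field k] {X : Scheme.{u}} (A : AffRel X) (x : X ⟶ Spec (CommRingCat.of k))

/-- A family on all affine opens as a family on the affine opens contained in `⊤`. -/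
def famTop (t : ∀ V, A.M V) (ht : ∀ (V W : X.affineOpens) (h : W.1 ≤ V.1), A.R h (t V) (t W)) : A.fam ⊤ :=
  ⟨fun V => t V.1, fun V W h => ht V.1 W.1 h⟩

theorem strHom_top (c : k) : strHom x ⊤ c = Coh.toGlobal x c := by
  change (X.presheaf.map (𝟙 _)).hom _ = _
  rw [X.presheaf.map_id]
  rfl

theorem resO_strHom {V : X.Opens} (c : k) : resO X (le_top : V ≤ ⊤) (strHom x ⊤ c) = strHom x V c :=
  DFunLike.congr_fun (strHom_res x le_top) c

/-- A space of compatible families on a proper scheme is finite-dimensional. -/
theorem finite_of_injective [IsProper x] (hfin : ∀ V : X.affineOpens, Module.Finite Γ(X, V.1) (A.M V))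
    {N : Type w} [AddCommGroup N] [Module k N] (f : N →+ ∀ V, A.M V) (hf : Function.Injective f)
    (hc : ∀ (n : N) (V W : X.affineOpens) (h : W.1 ≤ V.1), A.R h (f n V) (f n W))
    (hk : ∀ (c : k) (n : N) (V : X.affineOpens), f (c • n) V = (show Γ(X, V.1) from strHom x V.1 c) • f n V) :
    Module.Finite k N := by
  let _ : X.Over (Spec (CommRingCat.of k)) := ⟨x⟩
  have : IsProper (X ↘ Spec (CommRingCat.of k)) := inferInstanceAs (IsProper x)
  have h0 := Groth.Agent.S0002.result k X A.sh (A.isCoh hfin) 0
  let e := Groth.Agent.VarietyA.H0Equiv.hZeroEquiv A.sh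
  let g : N →ₗ[k] Coh.HH X A.sh 0 :=
    { toFun := fun n => e.symm (A.toSh ⊤ (A.famTop (f n) (hc n)))
      map_add' := fun a b => by
        rw [← map_add, ← map_add]
        congr 2
        refine Subtype.ext (funext fun V => ?_)
        change f (a + b) V.1 = f a V.1 + f b V.1
        rw [map_add]
        rfl
      map_smul' := fun c a => by
        rw [RingHom.id_apply, AddEquiv.symm_apply_eq]
        have h1 := Groth.Agent.VarietyA.H0Equiv.hZeroEquiv_smul A.sh (Coh.toGlobal x c)
          (e.symm (A.toSh ⊤ (A.famTop (f a) (hc a))))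
        refine Eq.trans ?_ h1.symm
        rw [AddEquiv.apply_symm_apply]
        refine Eq.trans ?_ ((A.toSh ⊤).map_smul (strHom x ⊤ c) (A.famTop (f a) (hc a)) |>.trans ?_)
        · congr 1
          refine Subtype.ext (funext fun V => ?_)
          refine (hk c a V.1).trans ?_
          rw [smul_apply, resO_strHom]
          rfl
        · rw [strHom_top]
          rfl }
  refine Module.Finite.of_injective g fun a b hab => hf ?_
  have h1 : A.toSh ⊤ (A.famTop (f a) (hc a)) = A.toSh ⊤ (A.famTop (f b) (hc b)) := e.symm.injective hab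
  have h2 := A.toSh_injective ⊤ h1
  funext V
  exact congrFun (congrArg Subtype.val h2) ⟨V, le_top⟩

end K565.AffRel
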