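import Groth.Agent.SGA7.K565.AxThm
import Mathlib.Analysis.Normed.Module.Completion
import Mathlib.Topology.Algebra.UniformRing

/-!
# Galois invariants of the completion of an algebraic closure (Ax-Sen-Tate)
-/

set_option autoImplicit false

open Polynomial

namespace K565.AxComp

section Closure

variable {L Ω C : Type*} [Field L] [NormedField Ω] [IsUltrametricDist Ω] [Algebra L Ω]
  [NormedField C] [IsUltrametricDist C]

/-- An element of the completion which is fixed by the Galois group of `Ω/L` is in the closure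
of `L`. -/
theorem mem_closure [CharZero L] [IsAlgClosed Ω] [Algebra.IsAlgebraic L Ω] (p : ℕ) [Fact p.Prime]
    (hp : ‖(p : Ω)‖ < 1) (hinv : ∀ (σ : Ω ≃ₐ[L] Ω) (x : Ω), ‖σ x‖ = ‖x‖)
    (j : Ω →+* C) (hj : ∀ x, ‖j x‖ = ‖x‖) (hd : DenseRange j) (x : C)
    (hx : ∀ σ : Ω ≃ₐ[L] Ω, ∃ s : C →+ C, (∀ y, ‖s y‖ ≤ ‖y‖) ∧ (∀ y, s (j y) = j (σ y)) ∧ s x = x) :
    x ∈ closure (Set.range fun b : L => j (algebraMap L Ω b)) := by
  have hpp : p.Prime := Fact.out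
  have : CharZero Ω := charZero_of_injective_algebraMap (algebraMap L Ω).injective
  have hppos : 0 < ‖(p : Ω)‖ := norm_pos_iff.2 (by exact_mod_cast hpp.ne_zero)
  have hB : 1 ≤ (‖(p : Ω)‖⁻¹) ^ 2 := one_le_pow₀ ((one_le_inv₀ hppos).2 hp.le)
  rw [Metric.mem_closure_iff]
  intro ε hε
  have hε' : 0 < ε / (2 * (‖(p : Ω)‖⁻¹) ^ 2) := by positivity
  obtain ⟨y, ⟨a, rfl⟩, ha⟩ := Metric.mem_closure_iff.1 (hd x) _ hε'
  set δ := ε / (2 * (‖(p : Ω)‖⁻¹) ^ 2) with hδ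
  rw [dist_eq_norm] at ha
  have hmove : ∀ σ : Ω ≃ₐ[L] Ω, ‖σ a - a‖ ≤ δ := by
    intro σ
    obtain ⟨s, hs1, hs2, hs3⟩ := hx σ
    rw [← hj, map_sub, ← hs2]
    have h1 : s (j a) - j a = s (j a - x) + (x - j a) := by rw [map_sub, hs3]; ring
    rw [h1]
    refine (IsUltrametricDist.norm_add_le_max _ _).trans (max_le ?_ ha.le)
    refine (hs1 _).trans ?_
    rw [← norm_neg, neg_sub]; exact ha.le
  obtain ⟨b, hb⟩ := AxThm.ax p hp hinv a δ hmove
  refine ⟨_, ⟨b, rfl⟩, ?_⟩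
  rw [dist_eq_norm]
  have h1 : x - j (algebraMap L Ω b) = (x - j a) + j (a - algebraMap L Ω b) := by
    rw [map_sub]; ring
  have hBδ : (‖(p : Ω)‖⁻¹) ^ 2 * δ = ε / 2 := by
    rw [hδ]; field_simp
  have hδε : δ ≤ ε / 2 := by
    rw [← hBδ]; exact le_mul_of_one_le_left hε'.le hB
  change ‖x - j (algebraMap L Ω b)‖ < ε
  rw [h1]
  refine (IsUltrametricDist.norm_add_le_max _ _).trans_lt (max_lt ?_ ?_)
  · linarith
  · rw [hj]; rw [hBδ] at hb; linarith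

/-- **Ax-Sen-Tate** for a complete base field. -/
theorem mem_range {K : Type*} [NormedField K] [CompleteSpace K] [CharZero K] [IsAlgClosed Ω]
    [Algebra K Ω] [Algebra.IsAlgebraic K Ω] (p : ℕ) [Fact p.Prime]
    (hK : ∀ x : K, ‖algebraMap K Ω x‖ = ‖x‖)
    (hp : ‖(p : Ω)‖ < 1) (hinv : ∀ (σ : Ω ≃ₐ[K] Ω) (x : Ω), ‖σ x‖ = ‖x‖)
    (j : Ω →+* C) (hj : ∀ x, ‖j x‖ = ‖x‖) (hd : DenseRange j) (x : C)
    (hx : ∀ σ : Ω ≃ₐ[K] Ω, ∃ s : C →+ C, (∀ y, ‖s y‖ ≤ ‖y‖) ∧ (∀ y, s (j y) = j (σ y)) ∧ s x = x) :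
    ∃ b : K, j (algebraMap K Ω b) = x := by
  have h := mem_closure p hp hinv j hj hd x hx
  have hiso : Isometry fun b : K => j (algebraMap K Ω b) := by
    apply AddMonoidHomClass.isometry_of_norm (f := (j.comp (algebraMap K Ω)))
    intro b
    rw [RingHom.comp_apply, hj, hK]
  rw [hiso.isClosedEmbedding.isClosed_range.closure_eq] at h
  exact h

end Closure

end K565.AxComp
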