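import Mathlib.Analysis.Normed.Field.Ultra
import Mathlib.Analysis.Normed.Group.Ultra
import Mathlib.Algebra.Polynomial.Taylor
import Mathlib.Algebra.Polynomial.Splits
import Mathlib.FieldTheory.IsAlgClosed.Basic
import Mathlib.FieldTheory.Minpoly.IsConjRoot
import Mathlib.Data.Nat.Choose.Factorization
import Mathlib.Data.Nat.Choose.Lucas
import Mathlib.Analysis.SpecialFunctions.Pow.Real
import Mathlib.Analysis.SpecificLimits.Basic
import Mathlib.Algebra.CharP.Algebra

/-!
# Ax's theorem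

Let `L` be a field of characteristic zero, `Ω` an algebraic closure of `L` with a nonarchimedean
norm which is invariant under `Gal(Ω/L)`, and `p` a prime number with `‖p‖ < 1`. If `a ∈ Ω` is
moved by at most `δ` by every element of `Gal(Ω/L)`, then there is an element `b` of `L` with
`‖a - b‖ ≤ ‖p‖⁻² δ`. In particular every element of the completion of `Ω` which is fixed by
`Gal(Ω/L)` lies in the closure of `L`.
-/

set_option autoImplicit false

open Polynomial

namespace K565.AxThm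

section Coeff

variable {Ω : Type*} [NormedField Ω] [IsUltrametricDist Ω]

theorem norm_sub_le_max' (x y : Ω) : ‖x - y‖ ≤ max ‖x‖ ‖y‖ := by
  have := IsUltrametricDist.norm_add_le_max x (-y)
  rwa [norm_neg, ← sub_eq_add_neg] at this

/-- Ultrametric bound for the coefficients of a product of linear polynomials. -/
theorem norm_coeff_prod_le (δ : ℝ) (hδ : 0 ≤ δ) (s : Multiset Ω) (hs : ∀ x ∈ s, ‖x‖ ≤ δ)
    (j : ℕ) (hj : j ≤ Multiset.card s) :
    ‖((s.map fun x => (X - C x)).prod).coeff j‖ ≤ δ ^ (Multiset.card s - j) := by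
  induction s using Multiset.induction_on generalizing j with
  | empty => 
    have : j = 0 := by simpa using hj
    subst this; simp
  | cons x s ih =>
    have hs' : ∀ y ∈ s, ‖y‖ ≤ δ := fun y hy => hs y (Multiset.mem_cons_of_mem hy)
    have hx : ‖x‖ ≤ δ := hs x (Multiset.mem_cons_self x s)
    rw [Multiset.map_cons, Multiset.prod_cons, sub_mul, coeff_sub, coeff_C_mul]
    have h2 : j ≤ Multiset.card s → ‖x * ((s.map fun x => (X - C x)).prod).coeff j‖ ≤
        δ ^ (Multiset.card (x ::ₘ s) - j) := by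
      intro hj'
      rw [norm_mul, Multiset.card_cons, Nat.succ_sub hj', pow_succ, mul_comm (δ ^ _) δ]
      exact mul_le_mul hx (ih hs' j hj') (norm_nonneg _) hδ
    have h3 : Multiset.card s < j → ((s.map fun x => (X - C x)).prod).coeff j = 0 := by
      intro hj'
      apply coeff_eq_zero_of_natDegree_lt
      rwa [natDegree_multiset_prod_X_sub_C_eq_card]
    have h1 : ‖(X * ((s.map fun x => (X - C x)).prod)).coeff j‖ ≤
        δ ^ (Multiset.card (x ::ₘ s) - j) := by
      rcases j with _ | j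
      · rw [mul_coeff_zero, coeff_X_zero, zero_mul, norm_zero]; positivity
      · rw [coeff_X_mul, Multiset.card_cons, Nat.succ_sub_succ]
        exact ih hs' j (by simpa using hj)
    refine (norm_sub_le_max' _ _).trans (max_le h1 ?_)
    rcases le_or_gt j (Multiset.card s) with hj' | hj'
    · exact h2 hj'
    · rw [h3 hj', mul_zero, norm_zero]; positivity

/-- If a product of `r ≥ 1` nonnegative real numbers is at most `t ^ r` then one is at most `t`. -/
theorem exists_le_of_prod_le (s : Multiset ℝ) (t : ℝ) (ht : 0 ≤ t) (hs : s ≠ 0)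
    (h : s.prod ≤ t ^ Multiset.card s) : ∃ x ∈ s, x ≤ t := by
  by_contra hcon
  push Not at hcon
  have key : ∀ u : Multiset ℝ, (∀ x ∈ u, t < x) → t ^ Multiset.card u ≤ u.prod := by
    intro u
    induction u using Multiset.induction_on with
    | empty => intro _; simp
    | cons x u ih =>
      intro hu
      rw [Multiset.prod_cons, Multiset.card_cons, pow_succ, mul_comm]
      exact mul_le_mul (hu x (Multiset.mem_cons_self x u)).le
        (ih fun y hy => hu y (Multiset.mem_cons_of_mem hy)) (by positivity)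
        (ht.trans (hu x (Multiset.mem_cons_self x u)).le)
  obtain ⟨x, hx⟩ := Multiset.exists_mem_of_ne_zero hs
  obtain ⟨u, rfl⟩ := Multiset.exists_cons_of_mem hx
  have hpos : 0 < u.prod := by
    apply Multiset.prod_pos
    intro y hy
    exact ht.trans_lt (hcon y (Multiset.mem_cons_of_mem hy))
  have h1 := key u fun y hy => hcon y (Multiset.mem_cons_of_mem hy)
  rw [Multiset.prod_cons, Multiset.card_cons, pow_succ, mul_comm] at h
  have h2 : t ^ Multiset.card u * t ≤ u.prod * t := mul_le_mul_of_nonneg_right h1 ht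
  have h3 : u.prod * t < u.prod * x := mul_lt_mul_of_pos_left (hcon x (Multiset.mem_cons_self x u)) hpos
  linarith

/-- Step: a root of the `q`-th Hasse derivative is close to `a`. -/
theorem exists_root_hasseDeriv [IsAlgClosed Ω] [CharZero Ω] (f : Ω[X]) (hf : f.Monic) (a : Ω)
    (δ : ℝ) (hδ : 0 ≤ δ) (hroots : ∀ α ∈ f.roots, ‖α - a‖ ≤ δ) (q : ℕ) (hq : q < f.natDegree)
    (c : ℝ) (hc : 0 < c) (hcn : c ≤ ‖(Nat.choose f.natDegree q : Ω)‖) :
    ∃ β, (hasseDeriv q f).IsRoot β ∧
      ‖a - β‖ ≤ δ * (c⁻¹) ^ ((1 : ℝ) / ((f.natDegree - q : ℕ) : ℝ)) := by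
  set n := f.natDegree with hn
  set g := hasseDeriv q f with hg
  have hgdeg : g.natDegree = n - q := natDegree_hasseDeriv f q
  have hr : 0 < n - q := Nat.sub_pos_of_lt hq
  have hchoose : ((Nat.choose n q : ℕ) : Ω) ≠ 0 := by
    exact_mod_cast (Nat.choose_pos hq.le).ne'
  have hglead : g.leadingCoeff = (Nat.choose n q : Ω) := by
    rw [leadingCoeff, hgdeg, hg, hasseDeriv_coeff, Nat.sub_add_cancel hq.le]
    have : f.coeff n = 1 := hf
    rw [this, mul_one]
  have hgsplit : g.Splits := IsAlgClosed.splits g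
  have hcard : Multiset.card g.roots = n - q := by
    rw [← hgdeg]; exact hgsplit.natDegree_eq_card_roots.symm
  have hgeval : ‖g.eval a‖ = ‖(Nat.choose n q : Ω)‖ * (g.roots.map fun β => ‖a - β‖).prod := by
    conv_lhs => rw [hgsplit.eq_prod_roots]
    rw [eval_mul, eval_C, hglead, norm_mul, eval_multiset_prod, Multiset.map_map]
    congr 1
    have := map_multiset_prod (normHom : Ω →*₀ ℝ) (g.roots.map fun β => a - β)
    simp only [Multiset.map_map] at this
    simpa using this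
  have hcoe : g.eval a = (taylor a f).coeff q := (taylor_coeff ..).symm
  have htay : taylor a f = (((f.roots.map fun α => α - a)).map fun x => X - C x).prod := by
    conv_lhs => rw [(IsAlgClosed.splits f).eq_prod_roots, hf.leadingCoeff, C_1, one_mul]
    rw [taylor_apply, multiset_prod_comp, Multiset.map_map, Multiset.map_map]
    congr 1
    apply Multiset.map_congr rfl
    intro α _
    simp [Function.comp]
    ring
  have hcardf : Multiset.card (f.roots.map fun α => α - a) = n := by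
    rw [Multiset.card_map, hn]; exact (IsAlgClosed.splits f).natDegree_eq_card_roots.symm
  have hbound : ‖g.eval a‖ ≤ δ ^ (n - q) := by
    rw [hcoe, htay]
    have := norm_coeff_prod_le δ hδ (f.roots.map fun α => α - a) (by
      intro x hx
      obtain ⟨α, hα, rfl⟩ := Multiset.mem_map.1 hx
      exact hroots α hα) q (by rw [hcardf]; exact hq.le)
    rwa [hcardf] at this
  set t : ℝ := δ * (c⁻¹) ^ ((1 : ℝ) / ((n - q : ℕ) : ℝ)) with ht
  have ht0 : 0 ≤ t := by positivity
  have htpow : t ^ (n - q) = δ ^ (n - q) * c⁻¹ := by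
    rw [ht, mul_pow, ← Real.rpow_natCast ((c⁻¹) ^ _), ← Real.rpow_mul (by positivity),
      one_div, inv_mul_cancel₀ (by positivity), Real.rpow_one]
  have hprod : (g.roots.map fun β => ‖a - β‖).prod ≤ t ^ Multiset.card (g.roots.map fun β => ‖a - β‖) := by
    rw [Multiset.card_map, hcard, htpow]
    rw [← div_eq_mul_inv, le_div_iff₀ hc]
    rw [hgeval] at hbound
    refine le_trans ?_ hbound
    rw [mul_comm]
    apply mul_le_mul_of_nonneg_right hcn
    apply Multiset.prod_nonneg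
    intro x hx
    obtain ⟨β, _, rfl⟩ := Multiset.mem_map.1 hx
    exact norm_nonneg _
  obtain ⟨x, hx, hxt⟩ := exists_le_of_prod_le _ t ht0 (by
    intro h0
    have := congrArg Multiset.card h0
    rw [Multiset.card_map, hcard, Multiset.card_zero] at this
    omega) hprod
  obtain ⟨β, hβ, rfl⟩ := Multiset.mem_map.1 hx
  exact ⟨β, isRoot_of_mem_roots hβ, hxt⟩

end Coeff

section Choose

variable {Ω : Type*} [NormedField Ω] [IsUltrametricDist Ω]

/-- An integer prime to `p` is a unit when `‖p‖ < 1`. -/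
theorem norm_natCast_eq_one (p : ℕ) [Fact p.Prime] (hp : ‖(p : Ω)‖ < 1) (m : ℕ) (hm : ¬ p ∣ m) :
    ‖(m : Ω)‖ = 1 := by
  apply le_antisymm (IsUltrametricDist.norm_natCast_le_one Ω m)
  by_contra hlt
  push Not at hlt
  have hcop : Nat.Coprime p m := (Nat.Prime.coprime_iff_not_dvd Fact.out).2 hm
  have h1 : (p : ℤ) * Nat.gcdA p m + (m : ℤ) * Nat.gcdB p m = 1 := by
    have := Nat.gcd_eq_gcd_ab p m
    rw [hcop] at this
    exact_mod_cast this.symm
  have h2 : (p : Ω) * (Nat.gcdA p m : Ω) + (m : Ω) * (Nat.gcdB p m : Ω) = 1 := by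
    exact_mod_cast congrArg (Int.cast : ℤ → Ω) h1
  have h3 : ‖(1 : Ω)‖ < 1 := by
    rw [← h2]
    refine (IsUltrametricDist.norm_add_le_max _ _).trans_lt (max_lt ?_ ?_)
    · rw [norm_mul]
      exact mul_lt_one_of_nonneg_of_lt_one_left (norm_nonneg _) hp (IsUltrametricDist.norm_intCast_le_one Ω _)
    · rw [norm_mul]
      exact mul_lt_one_of_nonneg_of_lt_one_left (norm_nonneg _) hlt (IsUltrametricDist.norm_intCast_le_one Ω _)
  simp at h3

theorem norm_choose_mul (p : ℕ) [Fact p.Prime] (hp : ‖(p : Ω)‖ < 1) (k m : ℕ) (hm : ¬ p ∣ m) :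
    ‖(Nat.choose (p ^ k * m) (p ^ k) : Ω)‖ = 1 := by
  apply norm_natCast_eq_one p hp
  have h := Choose.choose_modEq_choose_mul_prod_range_choose (p := p) (n := p ^ k * m) (k := p ^ k) k
  have hpos : 0 < p ^ k := Nat.pow_pos (Nat.Prime.pos Fact.out)
  have h1 : p ^ k * m / p ^ k = m := Nat.mul_div_cancel_left _ hpos
  have h2 : p ^ k / p ^ k = 1 := Nat.div_self hpos
  rw [h1, h2, Nat.choose_one_right, Finset.prod_eq_one, Nat.cast_one, mul_one] at h
  · intro hd
    apply hm
    have h3 : (m : ℤ) ≡ 0 [ZMOD p] := h.symm.trans ((Int.modEq_zero_iff_dvd).2 (by exact_mod_cast hd))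
    exact_mod_cast (Int.modEq_zero_iff_dvd).1 h3
  · intro i hi
    have hi' : i < k := Finset.mem_range.1 hi
    have h4 : p ^ k / p ^ i % p = 0 := by
      rw [Nat.pow_div hi'.le (Nat.Prime.pos Fact.out)]
      apply Nat.mod_eq_zero_of_dvd
      exact dvd_pow_self p (by omega)
    rw [h4, Nat.choose_zero_right]

theorem norm_choose_pow (p : ℕ) [Fact p.Prime] (hp : ‖(p : Ω)‖ < 1) (k : ℕ) :
    ‖(Nat.choose (p ^ (k + 1)) (p ^ k) : Ω)‖ = ‖(p : Ω)‖ := by
  have hpp : p.Prime := Fact.out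
  have hle : p ^ k ≤ p ^ (k + 1) := Nat.pow_le_pow_right hpp.pos (Nat.le_succ k)
  have hv := Nat.factorization_choose_prime_pow_add_factorization hpp hle
    (Nat.pow_pos hpp.pos).ne'
  rw [Nat.Prime.factorization_pow hpp, Finsupp.single_eq_same] at hv
  have hv1 : (Nat.choose (p ^ (k + 1)) (p ^ k)).factorization p = 1 := by omega
  have hne : Nat.choose (p ^ (k + 1)) (p ^ k) ≠ 0 := (Nat.choose_pos hle).ne'
  obtain ⟨m, hm⟩ := (hpp.dvd_iff_one_le_factorization hne).2 hv1.ge
  rw [hm, Nat.cast_mul, norm_mul, norm_natCast_eq_one p hp m, mul_one]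
  rintro ⟨m', rfl⟩
  have h2 : p ^ 2 ∣ Nat.choose (p ^ (k + 1)) (p ^ k) := ⟨m', by rw [hm]; ring⟩
  have := (hpp.pow_dvd_iff_le_factorization hne).1 h2
  omega

end Choose

section Main

variable {L Ω : Type*} [Field L] [NormedField Ω] [IsUltrametricDist Ω] [Algebra L Ω]

theorem exists_eq_pow_mul (p n : ℕ) [Fact p.Prime] (hn : n ≠ 0) : ∃ k m, n = p ^ k * m ∧ ¬ p ∣ m :=
  let h := Nat.exists_eq_pow_mul_and_not_dvd hn p (Nat.Prime.ne_one Fact.out)
  ⟨h.choose, h.choose_spec.choose, h.choose_spec.choose_spec.2, h.choose_spec.choose_spec.1⟩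

/-- The exponent in Ax's estimate. -/
noncomputable def ex (N : ℕ) : ℝ := ∑ i ∈ Finset.range N, (1 / 2 : ℝ) ^ i

theorem ex_mono : Monotone ex := by
  apply monotone_nat_of_le_succ
  intro n
  rw [ex, ex, Finset.sum_range_succ]
  have : (0 : ℝ) ≤ (1 / 2) ^ n := by positivity
  linarith

theorem ex_nonneg (N : ℕ) : 0 ≤ ex N := Finset.sum_nonneg fun _ _ => by positivity

theorem ex_le (N : ℕ) : ex N ≤ 2 := sum_geometric_two_le N

/-- **Ax's theorem**, with the constant depending on the degree. -/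
theorem ax_aux [CharZero L] [IsAlgClosed Ω] [Algebra.IsAlgebraic L Ω] (p : ℕ) [Fact p.Prime]
    (hp : ‖(p : Ω)‖ < 1) (hinv : ∀ (σ : Ω ≃ₐ[L] Ω) (x : Ω), ‖σ x‖ = ‖x‖) (n : ℕ) :
    ∀ (a : Ω), (minpoly L a).natDegree = n → ∀ (δ : ℝ), 0 ≤ δ → (∀ σ : Ω ≃ₐ[L] Ω, ‖σ a - a‖ ≤ δ) →
      ∃ b : L, ‖a - algebraMap L Ω b‖ ≤ (‖(p : Ω)‖⁻¹) ^ ex (Nat.log p n) * δ := by
  have hpp : p.Prime := Fact.out
  have hB : 1 ≤ ‖(p : Ω)‖⁻¹ := by
    have : CharZero Ω := charZero_of_injective_algebraMap (algebraMap L Ω).injective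
    have : 0 < ‖(p : Ω)‖ := norm_pos_iff.2 (by exact_mod_cast hpp.ne_zero)
    exact (one_le_inv₀ this).2 hp.le
  have : CharZero Ω := charZero_of_injective_algebraMap (algebraMap L Ω).injective
  have hppos : 0 < ‖(p : Ω)‖ := norm_pos_iff.2 (by exact_mod_cast hpp.ne_zero)
  have : Normal L Ω := normal_iff.2 fun x => ⟨Algebra.IsIntegral.isIntegral x, IsAlgClosed.splits _⟩
  induction n using Nat.strong_induction_on with
  | _ n ih =>
  intro a han δ hδ ha
  have haint : IsIntegral L a := Algebra.IsIntegral.isIntegral a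
  have hn0 : n ≠ 0 := by rw [← han]; exact (minpoly.natDegree_pos haint).ne'
  have hA1 : ∀ N, 1 ≤ (‖(p : Ω)‖⁻¹) ^ ex N := fun N => Real.one_le_rpow hB (ex_nonneg N)
  by_cases hn1 : n = 1
  · obtain ⟨b, hb⟩ := (minpoly.natDegree_eq_one_iff (A := L) (x := a)).1 (han.trans hn1)
    refine ⟨b, ?_⟩
    rw [hb, sub_self, norm_zero]
    exact mul_nonneg (zero_le_one.trans (hA1 _)) hδ
  -- the general step
  have step : ∀ (q : ℕ) (c : ℝ), 1 ≤ q → q < n → 0 < c → c ≤ ‖(Nat.choose n q : Ω)‖ → ∀ (N : ℕ),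
      Nat.log p (n - q) ≤ N →
      ∃ b : L, ‖a - algebraMap L Ω b‖ ≤
        (‖(p : Ω)‖⁻¹) ^ ex N * (δ * max 1 ((c⁻¹) ^ ((1 : ℝ) / ((n - q : ℕ) : ℝ)))) := by
    intro q c hq1 hq hc hcn N hN
    set f := (minpoly L a).map (algebraMap L Ω) with hf
    have hfm : f.Monic := (minpoly.monic haint).map _
    have hfn : f.natDegree = n := by rw [hf, natDegree_map, han]
    have hroots : ∀ α ∈ f.roots, ‖α - a‖ ≤ δ := by
      intro α hα
      have h1 : IsConjRoot L a α := by
        rw [isConjRoot_iff_mem_minpoly_aroots haint]; exact hα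
      obtain ⟨σ, hσ⟩ := isConjRoot_iff_exists_algEquiv.1 h1
      have h2 : α = σ.symm a := by rw [← hσ]; simp
      rw [h2]; exact ha σ.symm
    obtain ⟨β, hβ, hβa⟩ := exists_root_hasseDeriv f hfm a δ hδ hroots q (by rwa [hfn]) c hc
      (by rwa [hfn])
    rw [hfn] at hβa
    set δ' := δ * max 1 ((c⁻¹) ^ ((1 : ℝ) / ((n - q : ℕ) : ℝ))) with hδ'
    have hβa' : ‖a - β‖ ≤ δ' := hβa.trans (mul_le_mul_of_nonneg_left (le_max_right _ _) hδ)
    have hδδ' : δ ≤ δ' := le_mul_of_one_le_right hδ (le_max_left _ _)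
    have hδ'0 : 0 ≤ δ' := hδ.trans hδδ'
    -- degree of β
    have hg : f.hasseDeriv q = ((minpoly L a).hasseDeriv q).map (algebraMap L Ω) := by
      ext i; simp [hf, hasseDeriv_coeff]
    have hne : (minpoly L a).hasseDeriv q ≠ 0 := by
      intro h0
      have h1 : ((minpoly L a).hasseDeriv q).coeff (n - q) = 0 := by rw [h0, coeff_zero]
      rw [hasseDeriv_coeff, Nat.sub_add_cancel hq.le] at h1
      have h2 : (minpoly L a).coeff n = 1 := by rw [← han]; exact minpoly.monic haint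
      rw [h2, mul_one] at h1
      have h3 : Nat.choose n q = 0 := by exact_mod_cast h1
      exact (Nat.choose_pos hq.le).ne' h3
    have hβ0 : aeval β ((minpoly L a).hasseDeriv q) = 0 := by
      rw [← eval_map_algebraMap, ← hg]; exact hβ
    have hdeg : (minpoly L β).natDegree ≤ n - q := by
      have := natDegree_le_of_dvd (minpoly.dvd L β hβ0) hne
      refine this.trans ?_
      rw [← han]; exact natDegree_hasseDeriv_le _ _
    have hβσ : ∀ σ : Ω ≃ₐ[L] Ω, ‖σ β - β‖ ≤ δ' := by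
      intro σ
      have h1 : σ β - β = σ (β - a) + (σ a - a) + (a - β) := by rw [map_sub]; ring
      rw [h1]
      refine (IsUltrametricDist.norm_add_le_max _ _).trans (max_le ?_ hβa')
      refine (IsUltrametricDist.norm_add_le_max _ _).trans (max_le ?_ ((ha σ).trans hδδ'))
      rw [hinv, ← norm_neg, neg_sub]; exact hβa'
    obtain ⟨b, hb⟩ := ih (minpoly L β).natDegree (by omega) β rfl δ' hδ'0 hβσ
    refine ⟨b, ?_⟩
    have hlog : Nat.log p (minpoly L β).natDegree ≤ N := (Nat.log_mono_right hdeg).trans hN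
    have hb' : ‖β - algebraMap L Ω b‖ ≤ (‖(p : Ω)‖⁻¹) ^ ex N * δ' :=
      hb.trans (mul_le_mul_of_nonneg_right (Real.rpow_le_rpow_of_exponent_le hB (ex_mono hlog)) hδ'0)
    have h1 : a - algebraMap L Ω b = (a - β) + (β - algebraMap L Ω b) := by ring
    rw [h1]
    refine (IsUltrametricDist.norm_add_le_max _ _).trans (max_le ?_ hb')
    exact hβa'.trans (le_mul_of_one_le_left hδ'0 (hA1 N))
  obtain ⟨k, m, hkm, hm⟩ := exists_eq_pow_mul p n hn0
  have hm0 : m ≠ 0 := by rintro rfl; exact hm (dvd_zero p)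
  by_cases hm1 : m = 1
  · -- `n = p ^ k`
    subst hm1
    rw [mul_one] at hkm
    have hk0 : k ≠ 0 := by rintro rfl; exact hn1 (by simpa using hkm)
    obtain ⟨k, rfl⟩ := Nat.exists_eq_succ_of_ne_zero hk0
    have hlt : p ^ k < n := by rw [hkm]; exact Nat.pow_lt_pow_right hpp.one_lt (Nat.lt_succ_self k)
    have hle : 2 ^ k ≤ n - p ^ k := by
      rw [hkm, pow_succ]
      have h1 : p ^ k * p - p ^ k = p ^ k * (p - 1) := by rw [Nat.mul_sub, mul_one]
      rw [h1]
      calc 2 ^ k ≤ p ^ k := Nat.pow_le_pow_left hpp.two_le k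
        _ ≤ p ^ k * (p - 1) := Nat.le_mul_of_pos_right _ (by have := hpp.two_le; omega)
    have hlogk : Nat.log p (n - p ^ k) ≤ k := by
      have : n - p ^ k < p ^ (k + 1) := by
        have := Nat.pow_pos (n := k) hpp.pos
        have h2 : n = p ^ (k + 1) := hkm
        omega
      exact Nat.lt_succ_iff.1 (Nat.log_lt_of_lt_pow (by have := Nat.pow_pos (n := k) (a := 2) two_pos; omega) this)
    obtain ⟨b, hb⟩ := step (p ^ k) ‖(p : Ω)‖ (Nat.pow_pos hpp.pos) hlt hppos
      (by rw [hkm]; exact (norm_choose_pow p hp k).ge) k hlogk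
    refine ⟨b, hb.trans ?_⟩
    have hlogn : Nat.log p n = k + 1 := by rw [hkm]; exact Nat.log_pow hpp.one_lt _
    have hex : ex (k + 1) = ex k + (1 / 2 : ℝ) ^ k := by rw [ex, ex, Finset.sum_range_succ]
    rw [hlogn, hex, Real.rpow_add (by positivity), mul_assoc, mul_comm δ]
    apply mul_le_mul_of_nonneg_left _ (by positivity)
    apply mul_le_mul_of_nonneg_right _ hδ
    apply max_le
    · exact Real.one_le_rpow hB (by positivity)
    · apply Real.rpow_le_rpow_of_exponent_le hB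
      rw [one_div_pow]
      apply one_div_le_one_div_of_le (by positivity)
      exact_mod_cast hle
  · -- `n = p ^ k * m` with `m ≥ 2`
    have hpos : 0 < p ^ k := Nat.pow_pos hpp.pos
    have hlt : p ^ k < n := by
      rw [hkm]
      exact (Nat.lt_mul_iff_one_lt_right hpos).2 (by omega)
    obtain ⟨b, hb⟩ := step (p ^ k) 1 hpos hlt one_pos
      (by rw [hkm]; exact (norm_choose_mul p hp k m hm).ge) (Nat.log p n)
      (Nat.log_mono_right (Nat.sub_le _ _))
    refine ⟨b, hb.trans ?_⟩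
    rw [inv_one, Real.one_rpow, max_self, mul_one]

/-- **Ax's theorem**. -/
theorem ax [CharZero L] [IsAlgClosed Ω] [Algebra.IsAlgebraic L Ω] (p : ℕ) [Fact p.Prime]
    (hp : ‖(p : Ω)‖ < 1) (hinv : ∀ (σ : Ω ≃ₐ[L] Ω) (x : Ω), ‖σ x‖ = ‖x‖)
    (a : Ω) (δ : ℝ) (ha : ∀ σ : Ω ≃ₐ[L] Ω, ‖σ a - a‖ ≤ δ) :
    ∃ b : L, ‖a - algebraMap L Ω b‖ ≤ (‖(p : Ω)‖⁻¹) ^ 2 * δ := by
  have hpp : p.Prime := Fact.out
  have : CharZero Ω := charZero_of_injective_algebraMap (algebraMap L Ω).injective
  have hppos : 0 < ‖(p : Ω)‖ := norm_pos_iff.2 (by exact_mod_cast hpp.ne_zero)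
  have hB : 1 ≤ ‖(p : Ω)‖⁻¹ := (one_le_inv₀ hppos).2 hp.le
  have hδ : 0 ≤ δ := (norm_nonneg _).trans (ha AlgEquiv.refl)
  obtain ⟨b, hb⟩ := ax_aux p hp hinv _ a rfl δ hδ ha
  refine ⟨b, hb.trans (mul_le_mul_of_nonneg_right ?_ hδ)⟩
  rw [← Real.rpow_natCast]
  exact Real.rpow_le_rpow_of_exponent_le hB (by exact_mod_cast ex_le _)

end Main

end K565.AxThm
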