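import Groth.Agent.SGA7.K565.CpField
import Mathlib.Analysis.AbsoluteValue.Equivalence

/-!
# Automorphisms of a dense subfield act on the completion
-/

set_option autoImplicit false
universe u

open IsLocalRing

namespace K565.CpAct

section Ext

variable {Ω C : Type*} [Field Ω] [NormedField C] [CompleteSpace C] (j : Ω →+* C)

/-- isometric endomorphisms extend. -/
theorem exists_ext (hd : DenseRange j) (f : Ω →+* Ω) (hf : ∀ x, ‖j (f x)‖ = ‖j x‖) :
    ∃ F : C →+* C, (∀ x, F (j x) = j (f x)) ∧ (∀ y, ‖F y‖ = ‖y‖) := by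
  let : NormedField Ω := NormedField.induced Ω C j j.injective
  have hj : ∀ x : Ω, ‖j x‖ = ‖x‖ := fun _ => rfl
  have hji : Isometry j := AddMonoidHomClass.isometry_of_norm j hj
  have hfi : Isometry (j.comp f) := AddMonoidHomClass.isometry_of_norm (j.comp f) fun x => by
    rw [RingHom.comp_apply, hf, hj]
  let F := IsDenseInducing.extendRingHom hji.isUniformInducing hd hfi.uniformContinuous
  have hFj : ∀ x, F (j x) = j (f x) := fun x =>
    IsDenseInducing.extend_eq (hji.isUniformInducing.isDenseInducing hd) hfi.continuous x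
  have hFc : Continuous F :=
    (uniformContinuous_uniformly_extend hji.isUniformInducing hd hfi.uniformContinuous).continuous
  refine ⟨F, hFj, fun y => ?_⟩
  induction y using DenseRange.induction_on hd with
  | hp => exact isClosed_eq (by fun_prop) (by fun_prop)
  | ih a => rw [hFj, hf]

omit [CompleteSpace C] in
theorem ext_unique (hd : DenseRange j) (F F' : C →+* C) (hF : ∀ y, ‖F y‖ = ‖y‖) (hF' : ∀ y, ‖F' y‖ = ‖y‖)
    (h : ∀ x, F (j x) = F' (j x)) : F = F' := by
  have h1 : Continuous F := (AddMonoidHomClass.isometry_of_norm F hF).continuous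
  have h2 : Continuous F' := (AddMonoidHomClass.isometry_of_norm F' hF').continuous
  have h3 := hd.equalizer h1 h2 (funext h)
  exact RingHom.ext fun y => congrFun h3 y

variable (G : Type*) [Group G] [MulSemiringAction G Ω]

/-- the extension of one element of the group. -/
noncomputable def ext (hd : DenseRange j) (hG : ∀ (g : G) (x : Ω), ‖j (g • x)‖ = ‖j x‖) (g : G) : C →+* C :=
  (exists_ext j hd (MulSemiringAction.toRingHom G Ω g) (hG g)).choose

theorem ext_j (hd : DenseRange j) (hG : ∀ (g : G) (x : Ω), ‖j (g • x)‖ = ‖j x‖) (g : G) (x : Ω) :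
    ext j G hd hG g (j x) = j (g • x) :=
  (exists_ext j hd (MulSemiringAction.toRingHom G Ω g) (hG g)).choose_spec.1 x

theorem norm_ext (hd : DenseRange j) (hG : ∀ (g : G) (x : Ω), ‖j (g • x)‖ = ‖j x‖) (g : G) (y : C) :
    ‖ext j G hd hG g y‖ = ‖y‖ :=
  (exists_ext j hd (MulSemiringAction.toRingHom G Ω g) (hG g)).choose_spec.2 y

/-- The action of the group on the completion. -/
@[reducible] noncomputable def act (hd : DenseRange j) (hG : ∀ (g : G) (x : Ω), ‖j (g • x)‖ = ‖j x‖) :
    MulSemiringAction G C where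
  smul g y := ext j G hd hG g y
  one_smul y := by
    change ext j G hd hG 1 y = y
    have : ext j G hd hG 1 = RingHom.id C := by
      apply ext_unique j hd _ _ (norm_ext j G hd hG 1) (fun _ => rfl)
      intro x; rw [ext_j, one_smul]; rfl
    rw [this]; rfl
  mul_smul g h y := by
    change ext j G hd hG (g * h) y = ext j G hd hG g (ext j G hd hG h y)
    have : ext j G hd hG (g * h) = (ext j G hd hG g).comp (ext j G hd hG h) := by
      apply ext_unique j hd _ _ (norm_ext j G hd hG _)
      · intro y; rw [RingHom.comp_apply, norm_ext, norm_ext]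
      · intro x; rw [RingHom.comp_apply, ext_j, ext_j, ext_j, mul_smul]
    rw [this]; rfl
  smul_zero g := map_zero (ext j G hd hG g)
  smul_add g x y := map_add (ext j G hd hG g) x y
  smul_one g := map_one (ext j G hd hG g)
  smul_mul g x y := map_mul (ext j G hd hG g) x y

end Ext

section Inv

/-- An automorphism preserving the valuation ring preserves the norm. -/
theorem norm_eq {Ω C : Type*} [Field Ω] [NormedField C] (j : Ω →+* C) (s : Ω →+* Ω)
    (p : ℕ) (hp : ‖j (p : Ω)‖ < 1) (hp0 : (p : Ω) ≠ 0) (hs : ∀ x, ‖j (s x)‖ ≤ 1 ↔ ‖j x‖ ≤ 1) (x : Ω) :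
    ‖j (s x)‖ = ‖j x‖ := by
  let v : AbsoluteValue Ω ℝ :=
    { toFun := fun x => ‖j x‖
      map_mul' := fun x y => by rw [map_mul, norm_mul]
      nonneg' := fun x => norm_nonneg _
      eq_zero' := fun x => by rw [norm_eq_zero, map_eq_zero]
      add_le' := fun x y => by rw [map_add]; exact norm_add_le _ _ }
  let w : AbsoluteValue Ω ℝ :=
    { toFun := fun x => ‖j (s x)‖
      map_mul' := fun x y => by rw [map_mul, map_mul, norm_mul]
      nonneg' := fun x => norm_nonneg _
      eq_zero' := fun x => by rw [norm_eq_zero, map_eq_zero, map_eq_zero]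
      add_le' := fun x y => by rw [map_add, map_add]; exact norm_add_le _ _ }
  have hvw : v.IsEquiv w := by
    intro x y
    by_cases hy : y = 0
    · subst hy
      rw [map_zero, map_zero]
      constructor
      · intro h
        have : x = 0 := v.eq_zero.1 (le_antisymm h (v.nonneg x))
        rw [this, map_zero]
      · intro h
        have : x = 0 := w.eq_zero.1 (le_antisymm h (w.nonneg x))
        rw [this, map_zero]
    · have h1 := hs (x / y)
      have h2 : v (x / y) ≤ 1 ↔ v x ≤ v y := by
        rw [map_div₀]; exact div_le_one (v.pos hy)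
      have h3 : w (x / y) ≤ 1 ↔ w x ≤ w y := by
        rw [map_div₀]; exact div_le_one (w.pos hy)
      rw [← h2, ← h3]
      exact h1.symm
  obtain ⟨c, hc, hcv⟩ := AbsoluteValue.isEquiv_iff_exists_rpow_eq.1 hvw
  have h1 := congrFun hcv (p : Ω)
  have hvp : v (p : Ω) = ‖j (p : Ω)‖ := rfl
  have hwp : w (p : Ω) = ‖j (p : Ω)‖ := by
    change ‖j (s (p : Ω))‖ = _; rw [map_natCast]
  have hpos : 0 < ‖j (p : Ω)‖ := v.pos hp0
  change v (p : Ω) ^ c = w (p : Ω) at h1
  rw [hvp, hwp] at h1
  have hc1 : c = 1 := by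
    have h2 : ‖j (p : Ω)‖ ^ c = ‖j (p : Ω)‖ ^ (1 : ℝ) := by rw [h1, Real.rpow_one]
    apply le_antisymm
    · exact (Real.rpow_le_rpow_left_iff_of_base_lt_one hpos hp).1 h2.ge
    · exact (Real.rpow_le_rpow_left_iff_of_base_lt_one hpos hp).1 h2.le
  have h4 := congrFun hcv x
  change v x ^ c = w x at h4
  rw [hc1, Real.rpow_one] at h4
  exact h4.symm

end Inv

end K565.CpAct
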