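import Groth.Agent.SGA7.K565.AxComp
import Mathlib.RingTheory.Valuation.Discrete.IsDiscreteValuationRing
import Mathlib.RingTheory.DedekindDomain.AdicValuation
import Mathlib.RingTheory.AdicCompletion.Basic
import Mathlib.Analysis.Normed.Unbundled.SpectralNorm
import Mathlib.FieldTheory.Minpoly.IsIntegrallyClosed
import Mathlib.Analysis.Normed.Field.Basic
import Mathlib.Analysis.Normed.Algebra.Ultra
import Mathlib.Analysis.Normed.Field.Instances
import Mathlib.Analysis.Normed.Field.WithAbs
import Mathlib.Analysis.Normed.Module.Completion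

/-!
# The completed algebraic closure of the fraction field of a complete discrete valuation ring
-/

set_option autoImplicit false
universe u

open Polynomial IsLocalRing

namespace K565.CpField

section Base

variable (R K : Type u) [CommRing R] [IsDomain R] [IsDiscreteValuationRing R] [Field K] [Algebra R K]
  [IsFractionRing R K]

/-- The absolute value of a discrete valuation ring. -/
theorem exists_abv : ∃ a : AbsoluteValue K ℝ, IsNonarchimedean a ∧
    (∀ x, a x ≤ 1 ↔ x ∈ (algebraMap R K).range) ∧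
    (∀ b : R, a (algebraMap R K b) < 1 ↔ b ∈ maximalIdeal R) := by
  let v := IsDiscreteValuationRing.maximalIdeal R
  have hb : (1 : NNReal) < 2 := by norm_num
  let a : AbsoluteValue K ℝ := v.adicAbv hb
  refine ⟨a, v.isNonarchimedean_adicAbv hb, ?_, ?_⟩
  · intro x
    constructor
    · intro h
      have h1 : v.valuation K x ≤ 1 := by
        have h2 : (WithZeroMulInt.toNNReal (ne_zero_of_lt hb) (v.valuation K x) : ℝ) ≤ 1 := h
        rw [← NNReal.coe_one, NNReal.coe_le_coe] at h2
        exact (WithZeroMulInt.toNNReal_le_one_iff hb).1 h2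
      obtain ⟨b, hb⟩ := IsDiscreteValuationRing.exists_lift_of_le_one h1
      exact ⟨b, hb⟩
    · rintro ⟨b, rfl⟩
      exact v.adicAbv_coe_le_one hb b
  · intro b
    exact v.adicAbv_coe_lt_one_iff (K := K) hb b

variable {R K} in
/-- powers of the maximal ideal in terms of the absolute value. -/
theorem mem_pow_iff {a : AbsoluteValue K ℝ} (ha : ∀ x, a x ≤ 1 ↔ x ∈ (algebraMap R K).range)
    {ϖ : R} (hϖ : Irreducible ϖ) (n : ℕ) (b : R) :
    b ∈ maximalIdeal R ^ n ↔ a (algebraMap R K b) ≤ a (algebraMap R K ϖ) ^ n := by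
  have h0 : algebraMap R K ϖ ≠ 0 := by
    rw [Ne, FaithfulSMul.algebraMap_eq_zero_iff]; exact hϖ.ne_zero
  have hpos : 0 < a (algebraMap R K ϖ) := a.pos h0
  rw [hϖ.maximalIdeal_eq, Ideal.span_singleton_pow, Ideal.mem_span_singleton]
  constructor
  · rintro ⟨c, rfl⟩
    rw [map_mul, map_mul, map_pow, map_pow]
    exact mul_le_of_le_one_right (by positivity) ((ha _).2 ⟨c, rfl⟩)
  · intro h
    have h1 : a (algebraMap R K b / algebraMap R K ϖ ^ n) ≤ 1 := by
      rw [map_div₀, map_pow]
      exact (div_le_one (by positivity)).2 h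
    obtain ⟨c, hc⟩ := (ha _).1 h1
    refine ⟨c, ?_⟩
    apply IsFractionRing.injective R K
    rw [map_mul, map_pow, hc]
    field_simp

/-- Completeness. -/
theorem completeSpace [IsAdicComplete (maximalIdeal R) R] (a : AbsoluteValue K ℝ)
    (hna : IsNonarchimedean a)
    (ha : ∀ x, a x ≤ 1 ↔ x ∈ (algebraMap R K).range)
    (ha1 : ∀ b : R, a (algebraMap R K b) < 1 ↔ b ∈ maximalIdeal R) :
    @CompleteSpace K a.toNormedField.toUniformSpace := by
  let := a.toNormedField
  have hnorm : ∀ x : K, ‖x‖ = a x := fun _ => rfl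
  obtain ⟨ϖ, hϖ⟩ := IsDiscreteValuationRing.exists_irreducible R
  have h0 : algebraMap R K ϖ ≠ 0 := by
    rw [Ne, FaithfulSMul.algebraMap_eq_zero_iff]; exact hϖ.ne_zero
  have hpos : 0 < a (algebraMap R K ϖ) := a.pos h0
  have hlt : a (algebraMap R K ϖ) < 1 := (ha1 _).2 ((mem_maximalIdeal ϖ).2 hϖ.not_isUnit)
  apply Metric.complete_of_cauchySeq_tendsto
  intro u hu
  rw [Metric.cauchySeq_iff] at hu
  -- a modulus of convergence
  have hN : ∀ k : ℕ, ∃ N, ∀ m ≥ N, ∀ n ≥ N, a (u m - u n) ≤ a (algebraMap R K ϖ) ^ k := by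
    intro k
    obtain ⟨N, hN⟩ := hu (a (algebraMap R K ϖ) ^ k) (by positivity)
    refine ⟨N, fun m hm n hn => ?_⟩
    have := hN m hm n hn
    rw [dist_eq_norm] at this
    exact this.le
  choose N hN using hN
  let M : ℕ → ℕ := fun k => ∑ i ∈ Finset.range (k + 1), N i
  have hMN : ∀ k, N k ≤ M k := fun k =>
    Finset.single_le_sum (f := N) (fun _ _ => Nat.zero_le _) (Finset.self_mem_range_succ k)
  have hM : Monotone M := fun i j hij =>
    Finset.sum_le_sum_of_subset (Finset.range_subset_range.2 (by omega))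
  -- the integral parts
  have hint : ∀ k, ∃ r : R, algebraMap R K r = u (M k) - u (M 0) := by
    intro k
    have h1 := hN 0 (M k) ((hMN 0).trans (hM (Nat.zero_le k))) (M 0) (hMN 0)
    rw [pow_zero] at h1
    exact (ha _).1 h1
  choose r hr using hint
  obtain ⟨l, hl⟩ := IsPrecomplete.prec (I := maximalIdeal R) (M := R) inferInstance (f := r) (by
    intro m n hmn
    rw [SModEq.sub_mem, smul_eq_mul, Ideal.mul_top, mem_pow_iff ha hϖ, map_sub, hr, hr]
    have h1 : u (M m) - u (M 0) - (u (M n) - u (M 0)) = u (M m) - u (M n) := by ring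
    rw [h1]
    exact hN m _ (hMN m) _ ((hMN m).trans (hM hmn)))
  refine ⟨algebraMap R K l + u (M 0), ?_⟩
  rw [Metric.tendsto_atTop]
  intro ε hε
  obtain ⟨k, hk⟩ := exists_pow_lt_of_lt_one hε hlt
  refine ⟨M k, fun n hn => ?_⟩
  rw [dist_eq_norm, hnorm]
  have h2 := hl k
  rw [SModEq.sub_mem, smul_eq_mul, Ideal.mul_top, mem_pow_iff ha hϖ, map_sub, hr] at h2
  have h3 : u n - (algebraMap R K l + u (M 0)) = (u n - u (M k)) + (u (M k) - u (M 0) - algebraMap R K l) := by
    ring
  rw [h3]
  refine lt_of_le_of_lt (hna _ _) (max_lt ?_ (h2.trans_lt hk))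
  exact (hN k _ ((hMN k).trans hn) _ (hMN k)).trans_lt hk

end Base

section Alg

variable (R K Kb : Type u) [CommRing R] [IsDomain R] [IsDiscreteValuationRing R] [Field K] [Algebra R K]
  [IsFractionRing R K] [Field Kb] [Algebra K Kb] [Algebra R Kb] [IsScalarTower R K Kb]
  [Algebra.IsAlgebraic K Kb]

/-- The completed algebraic closure. -/
theorem exists_C [IsAdicComplete (maximalIdeal R) R] :
    ∃ (C : Type u) (_ : NormedField C) (_ : CompleteSpace C) (_ : IsUltrametricDist C) (j : Kb →+* C),
      DenseRange j ∧ (∀ x : Kb, ‖j x‖ ≤ 1 ↔ IsIntegral R x) ∧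
      (∀ b : R, ‖j (algebraMap R Kb b)‖ < 1 ↔ b ∈ maximalIdeal R) ∧
      (∀ x : Kb, x ≠ 0 → ∃ n : ℕ, 0 < n ∧ ∃ b : K, ‖j x‖ ^ n = ‖j (algebraMap K Kb b)‖) ∧
      IsClosed (Set.range fun x : K => j (algebraMap K Kb x)) := by
  obtain ⟨a, hna, ha, ha1⟩ := exists_abv R K
  have hcs := completeSpace R K a hna ha ha1
  obtain ⟨ϖ, hϖ⟩ := IsDiscreteValuationRing.exists_irreducible R
  have h0 : algebraMap R K ϖ ≠ 0 := by
    rw [Ne, FaithfulSMul.algebraMap_eq_zero_iff]; exact hϖ.ne_zero
  have hlt : a (algebraMap R K ϖ) < 1 := (ha1 _).2 ((mem_maximalIdeal ϖ).2 hϖ.not_isUnit)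
  let : NormedField K := a.toNormedField
  have hnorm : ∀ x : K, ‖x‖ = a x := fun _ => rfl
  let : NontriviallyNormedField K :=
    { (inferInstance : NormedField K) with
      non_trivial := ⟨(algebraMap R K ϖ)⁻¹, by
        rw [hnorm, map_inv₀]
        exact (one_lt_inv₀ (a.pos h0)).2 hlt⟩ }
  have : CompleteSpace K := hcs
  have : IsUltrametricDist K := IsUltrametricDist.isUltrametricDist_of_isNonarchimedean_norm hna
  let : NormedField Kb := spectralNorm.normedField K Kb
  let : NormedAlgebra K Kb := spectralNorm.normedAlgebra K Kb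
  have : IsUltrametricDist Kb := IsUltrametricDist.of_normedAlgebra K
  have hultC : IsUltrametricDist (UniformSpace.Completion Kb) := by
    refine ⟨fun x y z => ?_⟩
    induction x, y, z using UniformSpace.Completion.induction_on₃ with
    | hp =>
      apply isClosed_le
      · fun_prop
      · fun_prop
    | ih a b c =>
      simp only [UniformSpace.Completion.dist_eq]
      exact dist_triangle_max a b c
  have hj : ∀ x : Kb, ‖(UniformSpace.Completion.coeRingHom : Kb →+* UniformSpace.Completion Kb) x‖ = ‖x‖ :=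
    fun x => UniformSpace.Completion.norm_coe x
  refine ⟨UniformSpace.Completion Kb, inferInstance, inferInstance, hultC,
    UniformSpace.Completion.coeRingHom, UniformSpace.Completion.denseRange_coe, ?_, ?_, ?_, ?_⟩
  · intro x
    rw [hj]
    have h1 : ‖x‖ = spectralNorm K Kb x := rfl
    have hxK : IsIntegral K x := Algebra.IsIntegral.isIntegral x
    rw [h1, spectralNorm, spectralValue_le_one_iff (minpoly.monic hxK)]
    constructor
    · intro h
      have h2 : ∀ n, ∃ b : R, algebraMap R K b = (minpoly K x).coeff n := fun n => (ha _).1 (h n)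
      have h3 : minpoly K x ∈ Polynomial.lifts (algebraMap R K) := by
        rw [Polynomial.lifts_iff_coeff_lifts]
        intro n; exact h2 n
      obtain ⟨f, hf, -, hfm⟩ := Polynomial.lifts_and_natDegree_eq_and_monic h3 (minpoly.monic hxK)
      refine ⟨f, hfm, ?_⟩
      have h4 : eval₂ (algebraMap R Kb) x f = aeval x (f.map (algebraMap R K)) := by
        rw [aeval_map_algebraMap]; rfl
      rw [h4, hf, minpoly.aeval]
    · intro h n
      rw [minpoly.isIntegrallyClosed_eq_field_fractions' K h, coeff_map]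
      exact (ha _).2 ⟨_, rfl⟩
  · intro b
    rw [hj, IsScalarTower.algebraMap_apply R K Kb, norm_algebraMap', hnorm]
    exact ha1 b
  · intro x hx
    have hxK : IsIntegral K x := Algebra.IsIntegral.isIntegral x
    refine ⟨(minpoly K x).natDegree, minpoly.natDegree_pos hxK, (minpoly K x).coeff 0, ?_⟩
    rw [hj, hj, norm_algebraMap']
    have h1 : ‖x‖ = spectralNorm K Kb x := rfl
    rw [h1, spectralNorm.spectralNorm_eq_norm_coeff_zero_rpow, ← Real.rpow_natCast, ← Real.rpow_mul (norm_nonneg _)]
    rw [one_div, inv_mul_cancel₀, Real.rpow_one]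
    exact_mod_cast (minpoly.natDegree_pos hxK).ne'
  · have hiso : Isometry fun b : K => (UniformSpace.Completion.coeRingHom : Kb →+* UniformSpace.Completion Kb) (algebraMap K Kb b) := by
      apply AddMonoidHomClass.isometry_of_norm
        (f := ((UniformSpace.Completion.coeRingHom : Kb →+* UniformSpace.Completion Kb).comp (algebraMap K Kb)))
      intro b
      rw [RingHom.comp_apply, hj, norm_algebraMap']
    exact hiso.isClosedEmbedding.isClosed_range

end Alg

end K565.CpField
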