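import Mathlib.Algebra.Ring.Action.Basic
import Mathlib.GroupTheory.Index
import Mathlib.FieldTheory.IsAlgClosed.Basic
import Mathlib.LinearAlgebra.LinearIndependent.Lemmas
import Mathlib.FieldTheory.Galois.Basic

/-!
# Twisted invariants and subgroups of finite index

Let a group `G` act on a field `C`, `χ : G → Cˣ` a homomorphism with values in the invariants and
`H ⊆ G` a subgroup of finite index which is the stabilizer of the field of `H`-invariants. If no
`x ≠ 0` in `C` satisfies `g x = χ(g) x` for all `g ∈ G` then there is none for `H`.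
-/

set_option autoImplicit false

namespace K565.CycDesc

variable {C G : Type*} [Field C] [Group G] [MulSemiringAction G C]

theorem descent (H : Subgroup G) [H.FiniteIndex] (χ : G →* Cˣ) (hχ : ∀ g g' : G, g • (χ g' : C) = χ g')
    (hH : ∀ g : G, (∀ c : C, (∀ h ∈ H, h • c = c) → g • c = c) → g ∈ H)
    (h0 : ∀ x : C, (∀ g : G, g • x = χ g * x) → x = 0)
    (x : C) (hx : ∀ h ∈ H, h • x = χ h * x) : x = 0 := by
  classical
  -- fixed field of `H`
  let F : Subfield C :=
    { carrier := {c | ∀ h ∈ H, h • c = c}
      mul_mem' := fun {a b} ha hb h hh => by rw [smul_mul', ha h hh, hb h hh]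
      one_mem' := fun h _ => smul_one h
      add_mem' := fun {a b} ha hb h hh => by rw [smul_add, ha h hh, hb h hh]
      zero_mem' := fun h _ => smul_zero h
      neg_mem' := fun {a} ha h hh => by rw [smul_neg, ha h hh]
      inv_mem' := fun a ha h hh => by rw [smul_inv'', ha h hh] }
  have : Fintype (G ⧸ H) := Subgroup.fintypeQuotientOfFiniteIndex
  -- twisted value
  have htw : ∀ (y : C), (∀ h ∈ H, h • y = χ h * y) → ∀ (g h : G), h ∈ H →
      ((χ (g * h))⁻¹ : Cˣ) * ((g * h) • y) = ((χ g)⁻¹ : Cˣ) * (g • y) := by
    intro y hy g h hh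
    rw [mul_smul, hy h hh, smul_mul', hχ, map_mul, mul_inv]
    push_cast
    have : (χ h : C) ≠ 0 := (χ h).ne_zero
    field_simp
  let tw : (y : C) → (∀ h ∈ H, h • y = χ h * y) → (G ⧸ H) → C := fun y hy q =>
    Quotient.liftOn' q (fun g => ((χ g)⁻¹ : Cˣ) * (g • y)) (by
      intro a b hab
      have h1 : a⁻¹ * b ∈ H := QuotientGroup.leftRel_apply.1 hab
      have h2 := htw y hy a (a⁻¹ * b) h1
      rw [mul_inv_cancel_left] at h2
      exact h2.symm)
  have htwmk : ∀ y hy g, tw y hy (QuotientGroup.mk g) = ((χ g)⁻¹ : Cˣ) * (g • y) := fun _ _ _ => rfl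
  -- the trace
  have hsum : ∀ y hy, ∑ q, tw y hy q = 0 := by
    intro y hy
    apply h0
    intro g
    rw [Finset.smul_sum, Finset.mul_sum]
    refine Fintype.sum_equiv (MulAction.toPerm g) _ _ ?_
    intro q
    induction q using QuotientGroup.induction_on with
    | H a =>
      change g • tw y hy (QuotientGroup.mk a) = χ g * tw y hy (QuotientGroup.mk (g * a))
      rw [htwmk y hy, htwmk y hy, smul_mul', mul_smul, map_mul, mul_inv]
      have h1 : g • ((χ a)⁻¹ : Cˣ).val = ((χ a)⁻¹ : Cˣ).val := by
        rw [← map_inv]; exact hχ g a⁻¹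
      rw [h1]
      push_cast
      have : (χ g : C) ≠ 0 := (χ g).ne_zero
      field_simp
  -- the embeddings
  let emb : (G ⧸ H) → (F →* C) := fun q =>
    Quotient.liftOn' q (fun g => ((MulSemiringAction.toRingHom G C g).comp F.subtype).toMonoidHom) (by
      intro a b hab
      have h1 : a⁻¹ * b ∈ H := QuotientGroup.leftRel_apply.1 hab
      ext c
      change a • (c : C) = b • (c : C)
      have h2 := c.2 _ h1
      rw [mul_smul, inv_smul_eq_iff] at h2
      exact h2.symm)
  have hemb : Function.Injective emb := by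
    intro q q' hq
    induction q using QuotientGroup.induction_on with
    | H a =>
    induction q' using QuotientGroup.induction_on with
    | H b =>
    apply QuotientGroup.eq.2
    apply hH
    intro c hc
    have h1 : a • c = b • c := DFunLike.congr_fun hq (⟨c, hc⟩ : F)
    rw [mul_smul, ← h1, inv_smul_smul]
  have hind := (linearIndependent_monoidHom F C).comp emb hemb
  rw [Fintype.linearIndependent_iff] at hind
  have hrel : ∑ q, tw x hx q • (fun q => ((emb q : F →* C) : F → C)) q = 0 := by
    funext a
    rw [Finset.sum_apply]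
    have hax : ∀ h ∈ H, h • ((a : C) * x) = χ h * ((a : C) * x) := by
      intro h hh
      rw [smul_mul', a.2 h hh, hx h hh]; ring
    have h1 := hsum _ hax
    rw [Pi.zero_apply, ← h1]
    apply Finset.sum_congr rfl
    intro q _
    induction q using QuotientGroup.induction_on with
    | H g =>
    rw [htwmk _ hax]
    change (((χ g)⁻¹ : Cˣ) * (g • x)) * (g • (a : C)) = _
    rw [smul_mul']; ring
  have h2 := hind _ hrel (QuotientGroup.mk 1)
  rw [htwmk x hx] at h2
  simpa using h2

end K565.CycDesc
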