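import Groth.Agent.SGA7.K565.Orth
import Groth.Agent.SGA7.K565.AxThm
import Mathlib.Analysis.SpecificLimits.Normed
import Mathlib.RingTheory.LocalRing.MaximalIdeal.Basic

/-!
# Orthogonality for families given modulo `pⁿ`
-/

set_option autoImplicit false

open Module

namespace K565.OrthLim

section Lim

variable {C : Type*} [NormedField C] [IsUltrametricDist C]

theorem norm_sub_of_le {c : ℝ} (hc0 : 0 ≤ c) (hc1 : c ≤ 1) (x : ℕ → C) (hx : ∀ n, ‖x (n + 1) - x n‖ ≤ c ^ n)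
    (n k : ℕ) : ‖x (n + k) - x n‖ ≤ c ^ n := by
  induction k with
  | zero => rw [add_zero, sub_self, norm_zero]; positivity
  | succ k ih =>
    have h1 : x (n + (k + 1)) - x n = (x (n + k + 1) - x (n + k)) + (x (n + k) - x n) := by
      rw [← add_assoc]; ring
    rw [h1]
    refine (IsUltrametricDist.norm_add_le_max _ _).trans (max_le ((hx _).trans ?_) ih)
    exact pow_le_pow_of_le_one hc0 hc1 (Nat.le_add_right n k)

/-- limits of sequences with `x (n+1) ≡ x n` modulo `c ^ n`. -/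
theorem exists_lim [CompleteSpace C] {c : ℝ} (hc0 : 0 ≤ c) (hc1 : c < 1) (x : ℕ → C)
    (hx : ∀ n, ‖x (n + 1) - x n‖ ≤ c ^ n) : ∃ L : C, ∀ n, ‖x n - L‖ ≤ c ^ n := by
  have h1 : CauchySeq x := by
    rw [Metric.cauchySeq_iff']
    intro ε hε
    obtain ⟨k, hk⟩ := exists_pow_lt_of_lt_one hε hc1
    refine ⟨k, fun n hn => ?_⟩
    obtain ⟨m, rfl⟩ := Nat.exists_eq_add_of_le hn
    rw [dist_eq_norm]
    exact (norm_sub_of_le hc0 hc1.le x hx k m).trans_lt hk
  obtain ⟨L, hL⟩ := cauchySeq_tendsto_of_complete h1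
  refine ⟨L, fun n => ?_⟩
  have h2 : Filter.Tendsto (fun k => ‖x n - x k‖) Filter.atTop (nhds ‖x n - L‖) :=
    (tendsto_const_nhds.sub hL).norm
  refine le_of_tendsto h2 ?_
  filter_upwards [Filter.eventually_ge_atTop n] with k hk
  obtain ⟨m, rfl⟩ := Nat.exists_eq_add_of_le hk
  rw [← norm_neg, neg_sub]
  exact norm_sub_of_le hc0 hc1.le x hx n m

omit [IsUltrametricDist C] in
theorem eq_zero_of_le {c : ℝ} (hc0 : 0 ≤ c) (hc1 : c < 1) (B : ℝ) (y : C) (h : ∀ n : ℕ, ‖y‖ ≤ c ^ n * B) :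
    y = 0 := by
  have h1 : Filter.Tendsto (fun n : ℕ => c ^ n * B) Filter.atTop (nhds (0 * B)) :=
    (tendsto_pow_atTop_nhds_zero_of_lt_one hc0 hc1).mul_const B
  rw [zero_mul] at h1
  have h2 : ‖y‖ ≤ 0 := ge_of_tendsto' h1 h
  exact norm_eq_zero.1 (le_antisymm h2 (norm_nonneg _))

/-- congruent natural numbers are close. -/
theorem norm_sub_le_of_modEq (p n a b : ℕ) (h : a ≡ b [MOD p ^ n]) :
    ‖(a : C) - (b : C)‖ ≤ ‖(p : C)‖ ^ n := by
  obtain ⟨k, hk⟩ := (Nat.modEq_iff_dvd.1 h.symm)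
  have h1 : (a : C) - (b : C) = (p : C) ^ n * (k : C) := by
    have := congrArg (Int.cast : ℤ → C) hk
    push_cast at this
    exact this
  rw [h1, norm_mul, norm_pow]
  exact mul_le_of_le_one_right (by positivity) (IsUltrametricDist.norm_intCast_le_one C k)

theorem norm_mul_sub_mul_le {c : ℝ} {x x' y y' : C} (hx : ‖x - x'‖ ≤ c) (hy : ‖y - y'‖ ≤ c)
    (hx1 : ‖x'‖ ≤ 1) (hy1 : ‖y‖ ≤ 1) : ‖x * y - x' * y'‖ ≤ c := by
  have h1 : x * y - x' * y' = (x - x') * y + x' * (y - y') := by ring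
  rw [h1]
  refine (IsUltrametricDist.norm_add_le_max _ _).trans (max_le ?_ ?_)
  · rw [norm_mul]; exact (mul_le_of_le_one_right (norm_nonneg _) hy1).trans hx
  · rw [norm_mul]; exact (mul_le_of_le_one_left (norm_nonneg _) hx1).trans hy

theorem norm_sum_sub_sum_le {ι : Type*} (s : Finset ι) {c : ℝ} (hc : 0 ≤ c) (x y : ι → C)
    (h : ∀ i ∈ s, ‖x i - y i‖ ≤ c) : ‖∑ i ∈ s, x i - ∑ i ∈ s, y i‖ ≤ c := by
  rw [← Finset.sum_sub_distrib]
  exact IsUltrametricDist.norm_sum_le_of_forall_le_of_nonneg hc h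

end Lim

section Fam

variable {K C : Type*} [Field K] [Field C] [Algebra K C] {ι G : Type*} [Fintype ι] [DecidableEq ι]

/-- Orthogonality, for families. -/
theorem orth_fam (σ : G → C →+* C)
    (hfix : ∀ c : C, (∀ s, σ s c = c) → c ∈ Set.range (algebraMap K C))
    (χ : G → C) (hχ0 : ∀ s, χ s ≠ 0) (hχ : ∀ c : C, (∀ s, σ s c = χ s * c) → c = 0)
    (A B : G → Matrix ι ι C) (hAB : ∀ s, (A s).transpose * B s = χ s • 1) {m n : ℕ}
    (u : Fin m → ι → C) (w : Fin n → ι → C)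
    (hu : ∀ i s, (fun j => σ s (u i j)) = Matrix.mulVec (A s) (u i))
    (hw : ∀ i s, (fun j => σ s (w i j)) = Matrix.mulVec (B s) (w i))
    (hui : LinearIndependent K u) (hwi : LinearIndependent K w) : m + n ≤ Fintype.card ι := by
  have hBu : ∀ s, IsUnit (B s) := by
    intro s
    rw [Matrix.isUnit_iff_isUnit_det]
    have h := congrArg Matrix.det (hAB s)
    rw [Matrix.det_mul, Matrix.det_smul, Matrix.det_one, mul_one] at h
    have h2 : IsUnit ((A s).transpose.det * (B s).det) := by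
      rw [h]; exact (IsUnit.mk0 _ (hχ0 s)).pow _
    exact isUnit_of_mul_isUnit_right h2
  have hAu : ∀ s, IsUnit (A s) := by
    intro s
    rw [Matrix.isUnit_iff_isUnit_det]
    have h := congrArg Matrix.det (hAB s)
    rw [Matrix.det_mul, Matrix.det_smul, Matrix.det_one, mul_one, Matrix.det_transpose] at h
    have h2 : IsUnit ((A s).det * (B s).det) := by
      rw [h]; exact (IsUnit.mk0 _ (hχ0 s)).pow _
    exact isUnit_of_mul_isUnit_left h2
  have hmu := Orth.linearIndependent_of_semilinear σ hfix A hAu u hu hui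
  have hnw := Orth.linearIndependent_of_semilinear σ hfix B hBu w hw hwi
  have horth : ∀ i k, u i ⬝ᵥ w k = 0 := by
    intro i k
    apply hχ
    intro s
    have h1 : σ s (u i ⬝ᵥ w k) = (fun j => σ s (u i j)) ⬝ᵥ (fun j => σ s (w k j)) := by
      simp [dotProduct, map_sum]
    rw [h1, hu i s, hw k s, Matrix.dotProduct_mulVec, ← Matrix.vecMul_transpose,
      Matrix.vecMul_vecMul, hAB, Matrix.vecMul_smul, Matrix.vecMul_one, smul_dotProduct,
      smul_eq_mul]
  set P := Submodule.span C (Set.range u) with hP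
  set Q := Submodule.span C (Set.range w) with hQ
  have horth1 : ∀ x ∈ P, ∀ k, x ⬝ᵥ w k = 0 := by
    intro x hx k
    induction hx using Submodule.span_induction with
    | mem x hx => obtain ⟨i, rfl⟩ := hx; exact horth i k
    | zero => exact zero_dotProduct _
    | add a b _ _ ha hb => rw [add_dotProduct, ha, hb, add_zero]
    | smul c a _ ha => rw [smul_dotProduct, ha, smul_zero]
  have horth2 : ∀ x ∈ P, ∀ y ∈ Q, x ⬝ᵥ y = 0 := by
    intro x hx y hy
    induction hy using Submodule.span_induction with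
    | mem y hy => obtain ⟨i, rfl⟩ := hy; exact horth1 x hx i
    | zero => exact dotProduct_zero x
    | add a b _ _ ha hb => rw [dotProduct_add, ha, hb, add_zero]
    | smul c a _ ha => rw [dotProduct_smul, ha, smul_zero]
  have hle : Q.map (dotProductEquiv C ι).toLinearMap ≤ P.dualAnnihilator := by
    rintro _ ⟨y, hy, rfl⟩
    rw [Submodule.mem_dualAnnihilator]
    intro x hx
    change y ⬝ᵥ x = 0
    rw [dotProduct_comm]
    exact horth2 x hx y hy
  have h1 := Submodule.finrank_mono hle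
  rw [LinearEquiv.finrank_map_eq] at h1
  have h2 := Subspace.finrank_add_finrank_dualAnnihilator_eq P
  rw [Module.finrank_pi] at h2
  have h3 : finrank C P = m := by rw [hP, finrank_span_eq_card hmu, Fintype.card_fin]
  have h4 : finrank C Q = n := by rw [hQ, finrank_span_eq_card hnw, Fintype.card_fin]
  omega

end Fam

section Main

variable {R K C : Type*} [CommRing R] [IsLocalRing R] [Field K] [Algebra R K] [NormedField C]
  [IsUltrametricDist C] [Algebra K C] {G : Type*} {h : ℕ}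

/-- `K`-linear independence from independence modulo `pⁿ`. -/
theorem linearIndependent_of (hinj : Function.Injective (algebraMap R K))
    (hR : ∀ x : K, ‖algebraMap K C x‖ ≤ 1 ↔ x ∈ Set.range (algebraMap R K))
    (p r : ℕ) (U : Fin r → ℕ → Fin h → C) (Ui : Fin r → Fin h → C)
    (hU : ∀ j n i, ‖U j n i - Ui j i‖ ≤ ‖(p : C)‖ ^ n)
    (hind : ∀ c : Fin r → R, (∀ n i, ‖∑ j, algebraMap K C (algebraMap R K (c j)) * U j n i‖ ≤ ‖(p : C)‖ ^ n) →
      ∀ j, c j ∈ IsLocalRing.maximalIdeal R) : LinearIndependent K Ui := by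
  classical
  rw [Fintype.linearIndependent_iff]
  intro c hc
  by_contra hne
  push Not at hne
  obtain ⟨j1, hj1⟩ := hne
  obtain ⟨j0, -, hj0⟩ := Finset.exists_max_image Finset.univ (fun j => ‖algebraMap K C (c j)‖) ⟨j1, Finset.mem_univ _⟩
  have hpos : 0 < ‖algebraMap K C (c j0)‖ := by
    refine lt_of_lt_of_le ?_ (hj0 j1 (Finset.mem_univ _))
    rw [norm_pos_iff, Ne, map_eq_zero]; exact hj1
  have hc0 : c j0 ≠ 0 := by
    intro h0; rw [h0, map_zero, norm_zero] at hpos; exact lt_irrefl _ hpos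
  have hd : ∀ j, ∃ d : R, algebraMap R K d = c j / c j0 := by
    intro j
    have h1 : ‖algebraMap K C (c j / c j0)‖ ≤ 1 := by
      rw [map_div₀, norm_div]
      exact (div_le_one hpos).2 (hj0 j (Finset.mem_univ _))
    exact (hR _).1 h1
  choose d hd using hd
  have hrel : ∀ i, ∑ j, algebraMap K C (algebraMap R K (d j)) * Ui j i = 0 := by
    intro i
    have h1 := congrFun hc i
    rw [Finset.sum_apply] at h1
    simp only [Pi.smul_apply, Algebra.smul_def, Pi.zero_apply] at h1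
    have h2 : ∑ j, algebraMap K C (algebraMap R K (d j)) * Ui j i =
        (algebraMap K C (c j0))⁻¹ * ∑ j, algebraMap K C (c j) * Ui j i := by
      rw [Finset.mul_sum]
      apply Finset.sum_congr rfl
      intro j _
      rw [hd, map_div₀]; ring
    rw [h2, h1, mul_zero]
  have h3 := hind d (by
    intro n i
    have h4 : ∑ j, algebraMap K C (algebraMap R K (d j)) * U j n i =
        ∑ j, algebraMap K C (algebraMap R K (d j)) * (U j n i - Ui j i) := by
      simp_rw [mul_sub, Finset.sum_sub_distrib]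
      rw [hrel i, sub_zero]
    rw [h4]
    refine IsUltrametricDist.norm_sum_le_of_forall_le_of_nonneg (by positivity) fun j _ => ?_
    rw [norm_mul]
    refine (mul_le_of_le_one_left (norm_nonneg _) ?_).trans (hU j n i)
    exact (hR _).2 ⟨d j, rfl⟩) j0
  have h5 : d j0 = 1 := hinj (by rw [hd, map_one]; exact div_self hc0)
  rw [h5] at h3
  exact (IsLocalRing.mem_maximalIdeal _).1 h3 isUnit_one

/-- A limit of a relation `σ (x_n) ≡ Σ a_n y_n`. -/
theorem map_lim_eq {p : ℕ} (hp : ‖(p : C)‖ < 1) (σ : C →+* C) (hσ : ∀ y, ‖σ y‖ = ‖y‖)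
    (u : ℕ → Fin h → C) (ui : Fin h → C) (hu : ∀ n i, ‖u n i - ui i‖ ≤ ‖(p : C)‖ ^ n)
    (hu1 : ∀ n i, ‖u n i‖ ≤ 1)
    (b : ℕ → Fin h → Fin h → ℕ) (B : Matrix (Fin h) (Fin h) C)
    (hB : ∀ n i k, ‖((b n i k : ℕ) : C) - B i k‖ ≤ ‖(p : C)‖ ^ n)
    (hrel : ∀ n i, ‖σ (u n i) - ∑ k, (b n i k : C) * u n k‖ ≤ ‖(p : C)‖ ^ n) :
    (fun i => σ (ui i)) = B.mulVec ui := by
  funext i
  rw [← sub_eq_zero]
  have hp0 : 0 ≤ ‖(p : C)‖ := norm_nonneg _
  have hui1 : ∀ i, ‖ui i‖ ≤ 1 := by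
    intro i
    have h1 : ui i = u 0 i - (u 0 i - ui i) := by ring
    rw [h1]
    refine (AxThm.norm_sub_le_max' _ _).trans (max_le (hu1 0 i) ?_)
    simpa using hu 0 i
  apply eq_zero_of_le hp0 hp 1
  intro n
  rw [mul_one]
  have h1 : σ (ui i) - B.mulVec ui i = (σ (ui i - u n i)) + ((σ (u n i) - ∑ k, (b n i k : C) * u n k) +
      (∑ k, (b n i k : C) * u n k - ∑ k, B i k * ui k)) := by
    rw [map_sub]
    simp only [Matrix.mulVec, dotProduct]
    ring
  rw [h1]
  refine (IsUltrametricDist.norm_add_le_max _ _).trans (max_le ?_ ?_)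
  · rw [hσ, ← norm_neg, neg_sub]; exact hu n i
  refine (IsUltrametricDist.norm_add_le_max _ _).trans (max_le (hrel n i) ?_)
  apply norm_sum_sub_sum_le _ (by positivity)
  intro k _
  have h2 : (b n i k : C) * u n k - B i k * ui k = -(B i k * ui k - (b n i k : C) * u n k) := by ring
  rw [h2, norm_neg]
  apply norm_mul_sub_mul_le
  · rw [← norm_neg, neg_sub]; exact hB n i k
  · rw [← norm_neg, neg_sub]; exact hu n k
  · exact IsUltrametricDist.norm_natCast_le_one C _
  · exact hui1 k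

/-- **Orthogonality modulo `pⁿ`**. -/
theorem orth_levels [CompleteSpace C] (hinj : Function.Injective (algebraMap R K))
    (hR : ∀ x : K, ‖algebraMap K C x‖ ≤ 1 ↔ x ∈ Set.range (algebraMap R K))
    (p : ℕ) [Fact p.Prime] (hp : ‖(p : C)‖ < 1)
    (σ : G → C →+* C) (hσ : ∀ s y, ‖σ s y‖ = ‖y‖)
    (hfix : ∀ c : C, (∀ s, σ s c = c) → c ∈ Set.range (algebraMap K C))
    (χ : G → ℕ → ℕ) (hχ1 : ∀ s n, χ s (n + 1) ≡ χ s n [MOD p ^ n]) (hχ2 : ∀ s, ¬ p ∣ χ s 1)
    (hχ : ∀ c : C, (∀ s n, ‖σ s c - (χ s n : C) * c‖ ≤ ‖(p : C)‖ ^ n * ‖c‖) → c = 0)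
    (a b : G → ℕ → Fin h → Fin h → ℕ)
    (ha : ∀ s n i k, a s (n + 1) i k ≡ a s n i k [MOD p ^ n])
    (hb : ∀ s n i k, b s (n + 1) i k ≡ b s n i k [MOD p ^ n])
    (hab : ∀ s n i j, ∑ k, a s n i k * b s n j k ≡ (if i = j then χ s n else 0) [MOD p ^ n])
    (r r' : ℕ) (U : Fin r → ℕ → Fin h → C) (W : Fin r' → ℕ → Fin h → C)
    (hU0 : ∀ j n i, ‖U j n i‖ ≤ 1) (hW0 : ∀ j n i, ‖W j n i‖ ≤ 1)
    (hU1 : ∀ j n i, ‖U j (n + 1) i - U j n i‖ ≤ ‖(p : C)‖ ^ n)
    (hW1 : ∀ j n i, ‖W j (n + 1) i - W j n i‖ ≤ ‖(p : C)‖ ^ n)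
    (hU2 : ∀ s j n i, ‖σ s (U j n i) - ∑ k, (b s n i k : C) * U j n k‖ ≤ ‖(p : C)‖ ^ n)
    (hW2 : ∀ s j n i, ‖σ s (W j n i) - ∑ k, (a s n i k : C) * W j n k‖ ≤ ‖(p : C)‖ ^ n)
    (hU3 : ∀ c : Fin r → R, (∀ n i, ‖∑ j, algebraMap K C (algebraMap R K (c j)) * U j n i‖ ≤ ‖(p : C)‖ ^ n) →
      ∀ j, c j ∈ IsLocalRing.maximalIdeal R)
    (hW3 : ∀ c : Fin r' → R, (∀ n i, ‖∑ j, algebraMap K C (algebraMap R K (c j)) * W j n i‖ ≤ ‖(p : C)‖ ^ n) →
      ∀ j, c j ∈ IsLocalRing.maximalIdeal R) : r + r' ≤ h := by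
  have hp0 : 0 ≤ ‖(p : C)‖ := norm_nonneg _
  -- limits
  have hA : ∀ s i k, ∃ L : C, ∀ n, ‖((a s n i k : ℕ) : C) - L‖ ≤ ‖(p : C)‖ ^ n := fun s i k =>
    exists_lim hp0 hp (fun n => ((a s n i k : ℕ) : C)) fun n => norm_sub_le_of_modEq p n _ _ (ha s n i k)
  have hB : ∀ s i k, ∃ L : C, ∀ n, ‖((b s n i k : ℕ) : C) - L‖ ≤ ‖(p : C)‖ ^ n := fun s i k =>
    exists_lim hp0 hp (fun n => ((b s n i k : ℕ) : C)) fun n => norm_sub_le_of_modEq p n _ _ (hb s n i k)
  have hX : ∀ s, ∃ L : C, ∀ n, ‖((χ s n : ℕ) : C) - L‖ ≤ ‖(p : C)‖ ^ n := fun s =>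
    exists_lim hp0 hp (fun n => ((χ s n : ℕ) : C)) fun n => norm_sub_le_of_modEq p n _ _ (hχ1 s n)
  choose A hA using hA
  choose B hB using hB
  choose X hX using hX
  have hUi : ∀ j i, ∃ L : C, ∀ n, ‖U j n i - L‖ ≤ ‖(p : C)‖ ^ n := fun j i =>
    exists_lim hp0 hp (fun n => U j n i) fun n => hU1 j n i
  have hWi : ∀ j i, ∃ L : C, ∀ n, ‖W j n i - L‖ ≤ ‖(p : C)‖ ^ n := fun j i =>
    exists_lim hp0 hp (fun n => W j n i) fun n => hW1 j n i
  choose Ui hUi using hUi
  choose Wi hWi using hWi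
  have hA1 : ∀ s i k, ‖A s i k‖ ≤ 1 := by
    intro s i k
    have h1 : A s i k = ((a s 0 i k : ℕ) : C) - (((a s 0 i k : ℕ) : C) - A s i k) := by ring
    rw [h1]
    refine (AxThm.norm_sub_le_max' _ _).trans (max_le (IsUltrametricDist.norm_natCast_le_one C _) ?_)
    simpa using hA s i k 0
  have hB1 : ∀ s i k, ‖B s i k‖ ≤ 1 := by
    intro s i k
    have h1 : B s i k = ((b s 0 i k : ℕ) : C) - (((b s 0 i k : ℕ) : C) - B s i k) := by ring
    rw [h1]
    refine (AxThm.norm_sub_le_max' _ _).trans (max_le (IsUltrametricDist.norm_natCast_le_one C _) ?_)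
    simpa using hB s i k 0
  have hX0 : ∀ s, X s ≠ 0 := by
    intro s h0
    have h1 := hX s 1
    rw [h0, sub_zero, pow_one] at h1
    have h2 := AxThm.norm_natCast_eq_one p hp (χ s 1) (hχ2 s)
    rw [h2] at h1
    exact absurd h1 (not_le.2 hp)
  -- the matrix relation
  have hrel : ∀ s, (Matrix.of (A s)) * (Matrix.of (B s)).transpose = X s • (1 : Matrix (Fin h) (Fin h) C) := by
    intro s
    ext i j
    rw [← sub_eq_zero]
    apply eq_zero_of_le hp0 hp 1
    intro n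
    rw [mul_one, Matrix.mul_apply, Matrix.smul_apply, Matrix.one_apply]
    have h1 : ‖∑ k, A s i k * B s j k - ∑ k, (a s n i k : C) * (b s n j k : C)‖ ≤ ‖(p : C)‖ ^ n := by
      apply norm_sum_sub_sum_le _ (by positivity)
      intro k _
      apply norm_mul_sub_mul_le
      · rw [← norm_neg, neg_sub]; exact hA s i k n
      · rw [← norm_neg, neg_sub]; exact hB s j k n
      · exact IsUltrametricDist.norm_natCast_le_one C _
      · exact hB1 s j k
    have h2 := norm_sub_le_of_modEq (C := C) p n _ _ (hab s n i j)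
    push_cast at h2
    have h3 : ‖((if i = j then (χ s n : C) else 0)) - X s • (if i = j then (1 : C) else 0)‖ ≤ ‖(p : C)‖ ^ n := by
      split_ifs with hij
      · rw [smul_eq_mul, mul_one]; exact hX s n
      · simp only [smul_zero, sub_zero, norm_zero]; positivity
    have h4 : ∑ k, (Matrix.of (A s)) i k * (Matrix.of (B s)).transpose k j - X s • (if i = j then (1 : C) else 0) =
        (∑ k, A s i k * B s j k - ∑ k, (a s n i k : C) * (b s n j k : C)) +
        ((∑ k, (a s n i k : C) * (b s n j k : C) - (if i = j then (χ s n : C) else 0)) +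
        ((if i = j then (χ s n : C) else 0) - X s • (if i = j then (1 : C) else 0))) := by
      simp only [Matrix.of_apply, Matrix.transpose_apply]
      ring
    rw [h4]
    refine (IsUltrametricDist.norm_add_le_max _ _).trans (max_le h1 ?_)
    exact (IsUltrametricDist.norm_add_le_max _ _).trans (max_le h2 h3)
  have hrel2 : ∀ s, (Matrix.of (B s)).transpose * (Matrix.of (A s)) = X s • (1 : Matrix (Fin h) (Fin h) C) := by
    intro s
    have h1 : (Matrix.of (A s)) * ((X s)⁻¹ • (Matrix.of (B s)).transpose) = 1 := by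
      rw [Matrix.mul_smul, hrel, smul_smul, inv_mul_cancel₀ (hX0 s), one_smul]
    have h2 := mul_eq_one_comm.1 h1
    rw [Matrix.smul_mul] at h2
    rw [← h2, smul_smul, mul_inv_cancel₀ (hX0 s), one_smul]
  have hfin := orth_fam (K := K) σ hfix X hX0 (by
    intro c hc
    apply hχ
    intro s n
    rw [hc s, ← sub_mul, norm_mul]
    apply mul_le_mul_of_nonneg_right _ (norm_nonneg _)
    rw [← norm_neg, neg_sub]; exact hX s n) (fun s => Matrix.of (B s)) (fun s => Matrix.of (A s)) hrel2 Ui Wi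
    (fun j s => map_lim_eq hp (σ s) (hσ s) (U j) (Ui j) (fun n i => hUi j i n) (hU0 j) (b s) _
      (fun n i k => hB s i k n) (hU2 s j))
    (fun j s => map_lim_eq hp (σ s) (hσ s) (W j) (Wi j) (fun n i => hWi j i n) (hW0 j) (a s) _
      (fun n i k => hA s i k n) (hW2 s j))
    (linearIndependent_of hinj hR p r U Ui (fun j n i => hUi j i n) hU3)
    (linearIndependent_of hinj hR p r' W Wi (fun j n i => hWi j i n) hW3)
  rwa [Fintype.card_fin] at hfin

end Main

end K565.OrthLim
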