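import Groth.Agent.SGA7.K565.CpAct
import Groth.Agent.SGA7.K565.CycDesc
import Groth.Agent.SGA7.K565.OrthLim
import Groth.Agent.SGA7.K852.CycGal


/-!
# The cyclotomic character has no eigenvectors over a complete discretely valued field
-/

set_option autoImplicit false
universe u

open IsLocalRing

namespace K565.CycK

section Chi

variable {Ω C : Type*} [Field Ω] [NormedField C] [CompleteSpace C] [IsUltrametricDist C] (j : Ω →+* C)
  {p : ℕ} (z : ℕ → Ω) (hz : ∀ n, IsPrimitiveRoot (z n) (p ^ n)) (hz' : ∀ n, z (n + 1) ^ p = z n)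

/-- exponents are determined modulo `p ^ n`. -/
theorem modEq_of_pow_eq {Ω : Type*} [Field Ω] {p n : ℕ} (hp : p ≠ 0) {z : Ω} (a b : ℕ)
    (hzn : IsPrimitiveRoot z (p ^ n)) (h : z ^ a = z ^ b) : a ≡ b [MOD p ^ n] := by
  have hz0 : z ≠ 0 := hzn.ne_zero (pow_ne_zero _ hp)
  rcases le_total a b with hab | hab
  · obtain ⟨c, rfl⟩ := Nat.exists_eq_add_of_le hab
    have h1 : z ^ c = 1 := by
      rw [pow_add] at h
      exact (mul_eq_left₀ (pow_ne_zero _ hz0)).1 h.symm
    have h2 := hzn.dvd_of_pow_eq_one _ h1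
    exact (Nat.modEq_iff_dvd' hab).2 (by rwa [Nat.add_sub_cancel_left])
  · obtain ⟨c, rfl⟩ := Nat.exists_eq_add_of_le hab
    have h1 : z ^ c = 1 := by
      rw [pow_add] at h
      exact (mul_eq_left₀ (pow_ne_zero _ hz0)).1 h
    have h2 := hzn.dvd_of_pow_eq_one _ h1
    exact ((Nat.modEq_iff_dvd' hab).2 (by rwa [Nat.add_sub_cancel_left])).symm

omit [CompleteSpace C] [IsUltrametricDist C] in
include hz hz' in
theorem exists_exp [Fact p.Prime] (f : Ω →+* Ω) :
    ∃ χ : ℕ → ℕ, (∀ n, f (z n) = z n ^ χ n) ∧ ∀ n, χ (n + 1) ≡ χ n [MOD p ^ n] := by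
  have h1 : ∀ n, ∃ a : ℕ, f (z n) = z n ^ a := by
    intro n
    have h2 : f (z n) ^ p ^ n = 1 := by rw [← map_pow, (hz n).pow_eq_one, map_one]
    have : NeZero (p ^ n) := ⟨(pow_pos (Nat.Prime.pos Fact.out) n).ne'⟩
    obtain ⟨i, -, hi⟩ := (hz n).eq_pow_of_pow_eq_one h2
    exact ⟨i, hi.symm⟩
  choose χ hχ using h1
  refine ⟨χ, hχ, fun n => ?_⟩
  have h3 : z n ^ χ (n + 1) = z n ^ χ n := by
    rw [← hχ n, ← hz' n, map_pow, hχ (n + 1), ← pow_mul, ← pow_mul, mul_comm]
  exact modEq_of_pow_eq (Nat.Prime.ne_zero Fact.out) _ _ (hz n) h3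

include hz hz' in
/-- the value of the cyclotomic character in `C`. -/
theorem exists_chi [Fact p.Prime] (hp : ‖(p : C)‖ < 1) (f : Ω →+* Ω) :
    ∃ X : C, ∀ n a : ℕ, f (z n) = z n ^ a → ‖(a : C) - X‖ ≤ ‖(p : C)‖ ^ n := by
  obtain ⟨χ, h1, h2⟩ := exists_exp z hz hz' f
  obtain ⟨X, hX⟩ := OrthLim.exists_lim (norm_nonneg (p : C)) hp (fun n => (χ n : C))
    fun n => OrthLim.norm_sub_le_of_modEq p n _ _ (h2 n)
  refine ⟨X, fun n a ha => ?_⟩
  have h3 : a ≡ χ n [MOD p ^ n] := modEq_of_pow_eq (Nat.Prime.ne_zero Fact.out) _ _ (hz n) (by rw [← ha, h1])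
  have h4 := OrthLim.norm_sub_le_of_modEq (C := C) p n _ _ h3
  have h5 : (a : C) - X = ((a : C) - χ n) + ((χ n : C) - X) := by ring
  rw [h5]
  exact (IsUltrametricDist.norm_add_le_max _ _).trans (max_le h4 (hX n))

variable (G : Type*) [Group G] [MulSemiringAction G Ω]

/-- the cyclotomic character with values in `C`. -/
noncomputable def chi [Fact p.Prime] (hp : ‖(p : C)‖ < 1) (g : G) : C :=
  (exists_chi z hz hz' hp (MulSemiringAction.toRingHom G Ω g)).choose

theorem chi_spec [Fact p.Prime] (hp : ‖(p : C)‖ < 1) (g : G) (n a : ℕ) (h : g • z n = z n ^ a) :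
    ‖(a : C) - chi z hz hz' G hp g‖ ≤ ‖(p : C)‖ ^ n :=
  (exists_chi z hz hz' hp (MulSemiringAction.toRingHom G Ω g)).choose_spec n a h

theorem chi_unique [Fact p.Prime] (hp : ‖(p : C)‖ < 1) (g : G) (X : C)
    (hX : ∀ n : ℕ, ∃ a : ℕ, g • z n = z n ^ a ∧ ‖(a : C) - X‖ ≤ ‖(p : C)‖ ^ n) :
    chi z hz hz' G hp g = X := by
  rw [← sub_eq_zero]
  apply OrthLim.eq_zero_of_le (norm_nonneg (p : C)) hp 1
  intro n
  obtain ⟨a, ha, h1⟩ := hX n
  have h2 := chi_spec z hz hz' G hp g n a ha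
  have h3 : chi z hz hz' G hp g - X = ((a : C) - X) - ((a : C) - chi z hz hz' G hp g) := by ring
  rw [h3, mul_one]
  exact (AxThm.norm_sub_le_max' _ _).trans (max_le h1 h2)

include hz hz' in
theorem exists_pow [Fact p.Prime] (g : G) (n : ℕ) : ∃ a : ℕ, g • z n = z n ^ a := by
  obtain ⟨χ, h1, -⟩ := exists_exp z hz hz' (MulSemiringAction.toRingHom G Ω g)
  exact ⟨χ n, h1 n⟩

theorem norm_chi_le [Fact p.Prime] (hp : ‖(p : C)‖ < 1) (g : G) : ‖chi z hz hz' G hp g‖ ≤ 1 := by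
  obtain ⟨a, ha⟩ := exists_pow z hz hz' G g 0
  have h1 := chi_spec z hz hz' G hp g 0 a ha
  have h3 : chi z hz hz' G hp g = (a : C) - ((a : C) - chi z hz hz' G hp g) := by ring
  rw [h3]
  exact (AxThm.norm_sub_le_max' _ _).trans
    (max_le (IsUltrametricDist.norm_natCast_le_one C a) (by simpa using h1))

/-- the cyclotomic character as a homomorphism. -/
noncomputable def chiHom [Fact p.Prime] (hp : ‖(p : C)‖ < 1) : G →* C where
  toFun := chi z hz hz' G hp
  map_one' := chi_unique z hz hz' G hp 1 1 fun n => ⟨1, by rw [one_smul, pow_one], by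
    rw [Nat.cast_one, sub_self, norm_zero]; positivity⟩
  map_mul' g h := by
    apply chi_unique z hz hz' G hp
    intro n
    obtain ⟨a, ha⟩ := exists_pow z hz hz' G g n
    obtain ⟨b, hb⟩ := exists_pow z hz hz' G h n
    refine ⟨a * b, ?_, ?_⟩
    · rw [mul_smul, hb, smul_pow', ha, pow_mul]
    · push_cast
      exact OrthLim.norm_mul_sub_mul_le (chi_spec z hz hz' G hp g n a ha)
        (chi_spec z hz hz' G hp h n b hb) (norm_chi_le z hz hz' G hp g)
        (IsUltrametricDist.norm_natCast_le_one C b)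

end Chi

section Main

variable {K₀ K Ω C : Type*} [Field K₀] [CharZero K₀] [Field K] [Algebra K₀ K] [FiniteDimensional K₀ K]
  [Field Ω] [Algebra K Ω] [Algebra K₀ Ω] [IsScalarTower K₀ K Ω] [IsAlgClosed Ω] [Algebra.IsAlgebraic K₀ Ω]
  [NormedField C] [CompleteSpace C] [IsUltrametricDist C]

/-- the subgroup of automorphisms over `K`. -/
def fixer (K₀ K Ω : Type*) [Field K₀] [Field K] [Field Ω] [Algebra K₀ Ω] [Algebra K Ω] : Subgroup (Ω ≃ₐ[K₀] Ω) where
  carrier := {g | ∀ x : K, g (algebraMap K Ω x) = algebraMap K Ω x}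
  mul_mem' {a b} ha hb x := by
    change a (b _) = _
    rw [hb x, ha x]
  one_mem' x := rfl
  inv_mem' {a} ha x := by
    change a.symm (algebraMap K Ω x) = algebraMap K Ω x
    rw [AlgEquiv.symm_apply_eq, ha x]

omit [CharZero K₀] [IsAlgClosed Ω] [Algebra.IsAlgebraic K₀ Ω] in
theorem finiteIndex : (fixer K₀ K Ω).FiniteIndex := by
  have hfin : Finite (K →ₐ[K₀] Ω) := inferInstance
  let f : (Ω ≃ₐ[K₀] Ω) ⧸ fixer K₀ K Ω → (K →ₐ[K₀] Ω) := fun q =>
    Quotient.liftOn' q (fun g => (g : Ω →ₐ[K₀] Ω).comp (IsScalarTower.toAlgHom K₀ K Ω)) (by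
      intro a b hab
      have h1 : a⁻¹ * b ∈ fixer K₀ K Ω := QuotientGroup.leftRel_apply.1 hab
      apply AlgHom.ext
      intro x
      have h2 : a.symm (b (algebraMap K Ω x)) = algebraMap K Ω x := h1 x
      rw [AlgEquiv.symm_apply_eq] at h2
      exact h2.symm)
  have hf : Function.Injective f := by
    intro q q' hq
    induction q using QuotientGroup.induction_on with
    | H a =>
    induction q' using QuotientGroup.induction_on with
    | H b =>
    apply QuotientGroup.eq.2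
    intro x
    have h1 : a (algebraMap K Ω x) = b (algebraMap K Ω x) := AlgHom.congr_fun hq x
    change a.symm (b (algebraMap K Ω x)) = algebraMap K Ω x
    rw [AlgEquiv.symm_apply_eq, h1]
  have : Finite ((Ω ≃ₐ[K₀] Ω) ⧸ fixer K₀ K Ω) := Finite.of_injective f hf
  exact Subgroup.finiteIndex_of_finite_quotient

/-- **No eigenvectors for the cyclotomic character** over a finite extension of an unramified base. -/
theorem eq_zero_of_chi (j : Ω →+* C) (hd : DenseRange j) {p : ℕ} [Fact p.Prime] (hp : ‖(p : C)‖ < 1)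
    (hval : ∀ x : K₀, x ≠ 0 → ∃ n : ℤ, ‖j (algebraMap K₀ Ω x)‖ = ‖(p : C)‖ ^ n)
    (hinv : ∀ (s : Ω ≃ₐ[K₀] Ω) (x : Ω), ‖j (s x)‖ = ‖j x‖)
    (z : ℕ → Ω) (hz : ∀ n, IsPrimitiveRoot (z n) (p ^ n)) (hz' : ∀ n, z (n + 1) ^ p = z n)
    (x : C) (hx : ∀ s : Ω ≃ₐ[K] Ω, ∃ S : C →+* C, (∀ y, ‖S y‖ = ‖y‖) ∧ (∀ y, S (j y) = j (s y)) ∧
      ∀ n a : ℕ, s (z n) = z n ^ a → ‖S x - a * x‖ ≤ ‖(p : C)‖ ^ n * ‖x‖) : x = 0 := by
  let G := Ω ≃ₐ[K₀] Ω
  have hG : ∀ (g : G) (x : Ω), ‖j (g • x)‖ = ‖j x‖ := hinv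
  let _ : MulSemiringAction G C := CpAct.act j G hd hG
  have hsm : ∀ (g : G) (y : C), g • y = CpAct.ext j G hd hG g y := fun _ _ => rfl
  have hnorm : ∀ (g : G) (y : C), ‖g • y‖ = ‖y‖ := fun g y => CpAct.norm_ext j G hd hG g y
  have hsj : ∀ (g : G) (y : Ω), g • j y = j (g y) := fun g y => CpAct.ext_j j G hd hG g y
  have hpn : ∀ n : ℕ, ‖(n : C)‖ ≤ 1 := fun n => IsUltrametricDist.norm_natCast_le_one C n
  let χ : G →* Cˣ := (chiHom z hz hz' G hp).toHomUnits
  have hχv : ∀ g : G, ((χ g : Cˣ) : C) = chi z hz hz' G hp g := fun g => rfl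
  have hfixer := finiteIndex (K₀ := K₀) (K := K) (Ω := Ω)
  refine CycDesc.descent (fixer K₀ K Ω) χ ?_ ?_ ?_ x ?_
  · -- the values of `χ` are invariant
    intro g g'
    rw [hχv, ← sub_eq_zero]
    apply OrthLim.eq_zero_of_le (norm_nonneg (p : C)) hp 1
    intro n
    obtain ⟨a, ha⟩ := exists_pow z hz hz' G g' n
    have h1 := chi_spec z hz hz' G hp g' n a ha
    have h2 : g • chi z hz hz' G hp g' - chi z hz hz' G hp g' =
        ((a : C) - chi z hz hz' G hp g') - g • ((a : C) - chi z hz hz' G hp g') := by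
      rw [smul_sub]
      have h3 : g • (a : C) = (a : C) := map_natCast (MulSemiringAction.toRingHom G C g) a
      rw [h3]; ring
    rw [h2, mul_one]
    refine (AxThm.norm_sub_le_max' _ _).trans (max_le h1 ?_)
    rw [hnorm]; exact h1
  · -- the stabilizer of the invariants
    intro g hg y
    have h1 := hg (j (algebraMap K Ω y)) (by
      intro h hh
      rw [hsj, hh y])
    rw [hsj] at h1
    exact j.injective h1
  · -- the full Galois group of `K₀`
    intro y hy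
    let : NormedField Ω := NormedField.induced Ω C j j.injective
    let : NormedField K₀ := NormedField.induced K₀ C (j.comp (algebraMap K₀ Ω)) (j.comp (algebraMap K₀ Ω)).injective
    have hjn : ∀ x : Ω, ‖j x‖ = ‖x‖ := fun _ => rfl
    have hult : IsUltrametricDist Ω := by
      apply IsUltrametricDist.isUltrametricDist_of_isNonarchimedean_norm
      intro a b
      rw [← hjn, ← hjn, ← hjn, map_add]
      exact IsUltrametricDist.norm_add_le_max _ _
    have hpΩ : ‖(p : Ω)‖ = ‖(p : C)‖ := by rw [← hjn, map_natCast]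
    refine K852.CycGal.eq_zero_of_chi (K := K₀) (Ω := Ω) (p := p) (fun _ => rfl) (by rw [hpΩ]; exact hp) ?_
      hinv j hjn hd z hz hz' y ?_
    · intro x hx0
      obtain ⟨n, hn⟩ := hval x hx0
      exact ⟨n, by rw [hpΩ]; exact hn⟩
    · intro σ
      refine ⟨CpAct.ext j G hd hG σ, fun y => (CpAct.norm_ext j G hd hG σ y).le,
        fun y => CpAct.ext_j j G hd hG σ y, fun n a ha => ?_⟩
      have h1 := chi_spec z hz hz' G hp σ n a ha
      have h2 : CpAct.ext j G hd hG σ y = chi z hz hz' G hp σ * y := hy σ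
      rw [h2, ← sub_mul, norm_mul, hpΩ]
      apply mul_le_mul_of_nonneg_right _ (norm_nonneg _)
      rw [← norm_neg, neg_sub]; exact h1
  · -- the given vector
    intro h hh
    let s : Ω ≃ₐ[K] Ω := AlgEquiv.ofRingEquiv (f := (h : Ω ≃+* Ω)) hh
    obtain ⟨S, hS1, hS2, hS3⟩ := hx s
    have hSh : S = CpAct.ext j G hd hG h := by
      apply CpAct.ext_unique j hd _ _ hS1 (CpAct.norm_ext j G hd hG h)
      intro y
      rw [hS2, CpAct.ext_j]; rfl
    rw [hsm, ← hSh, hχv, ← sub_eq_zero]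
    apply OrthLim.eq_zero_of_le (norm_nonneg (p : C)) hp ‖x‖
    intro n
    obtain ⟨a, ha⟩ := exists_pow z hz hz' G h n
    have h1 := chi_spec z hz hz' G hp h n a ha
    have h2 := hS3 n a ha
    have h3 : S x - chi z hz hz' G hp h * x = (S x - a * x) + ((a : C) - chi z hz hz' G hp h) * x := by ring
    rw [h3]
    refine (IsUltrametricDist.norm_add_le_max _ _).trans (max_le h2 ?_)
    rw [norm_mul]
    exact mul_le_mul_of_nonneg_right h1 (norm_nonneg _)

end Main

end K565.CycK
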