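import Groth.Agent.SGA7.K565.CycK
import Groth.Agent.SGA7.K852.BaseW
import Mathlib.RingTheory.Localization.FractionRing
import Mathlib.RingTheory.IntegralClosure.IsIntegralClosure.Basic

/-!
# No eigenvectors of the cyclotomic character over the fraction field of a complete discrete valuation ring
-/

set_option autoImplicit false
universe u

open IsLocalRing

namespace K565.CycR

section Alg

variable {R₀ R K₀ K : Type*} [CommRing R₀] [IsDomain R₀] [CommRing R] [IsDomain R] [Algebra R₀ R] [Field K₀]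
  [Algebra R₀ K₀] [IsFractionRing R₀ K₀] [Field K] [Algebra R K] [IsFractionRing R K] [Algebra K₀ K]
  [Algebra R₀ K] [IsScalarTower R₀ K₀ K] [IsScalarTower R₀ R K]

omit [IsFractionRing R₀ K₀] in
/-- finiteness of the extension of fraction fields. -/
theorem finiteDimensional [Module.Finite R₀ R] (hinj : Function.Injective (algebraMap R₀ R)) :
    FiniteDimensional K₀ K := by
  obtain ⟨s, hs⟩ := (Module.finite_def (R := R₀) (M := R)).1 inferInstance
  have hmem : ∀ r : R, algebraMap R K r ∈ Submodule.span K₀ ((algebraMap R K) '' (s : Set R)) := by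
    intro r
    have h1 : r ∈ Submodule.span R₀ (s : Set R) := by rw [hs]; trivial
    have h2 : algebraMap R K r ∈ (Submodule.span R₀ (s : Set R)).map (IsScalarTower.toAlgHom R₀ R K).toLinearMap :=
      ⟨r, h1, rfl⟩
    rw [Submodule.map_span] at h2
    have h3 : Submodule.span R₀ ((algebraMap R K) '' (s : Set R)) ≤
        (Submodule.span K₀ ((algebraMap R K) '' (s : Set R))).restrictScalars R₀ :=
      Submodule.span_le_restrictScalars R₀ K₀ _
    exact h3 h2
  have htop : Submodule.span K₀ ((algebraMap R K) '' (s : Set R)) = ⊤ := by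
    rw [eq_top_iff]
    intro x _
    obtain ⟨a, b, hb, rfl⟩ := IsFractionRing.div_surjective (A := R) x
    have hb0 : b ≠ 0 := nonZeroDivisors.ne_zero hb
    -- a multiple of `b` in `R₀`
    have hbint : IsIntegral R₀ b := Algebra.IsIntegral.isIntegral b
    obtain ⟨r, hr0, hr⟩ : ∃ r : R₀, r ≠ 0 ∧ ∃ c : R, c * b = algebraMap R₀ R r := by
      have halg : IsAlgebraic R₀ b := hbint.isAlgebraic
      obtain ⟨r, hr0, c, hc⟩ := halg.exists_nonzero_dvd (mem_nonZeroDivisors_of_ne_zero hb0)
      exact ⟨r, hr0, c, by rw [mul_comm]; exact hc.symm⟩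
    obtain ⟨c, hc⟩ := hr
    have hr1 : algebraMap R K (algebraMap R₀ R r) ≠ 0 := by
      rw [Ne, FaithfulSMul.algebraMap_eq_zero_iff]
      intro h0
      exact hr0 (hinj (by rw [h0, map_zero]))
    have h1 : algebraMap R K a / algebraMap R K b = (algebraMap R₀ K₀ r)⁻¹ • algebraMap R K (a * c) := by
      have h2 : algebraMap K₀ K (algebraMap R₀ K₀ r) = algebraMap R K (algebraMap R₀ R r) := by
        rw [← IsScalarTower.algebraMap_apply, ← IsScalarTower.algebraMap_apply]
      have hb1 : algebraMap R K b ≠ 0 := by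
        rw [Ne, FaithfulSMul.algebraMap_eq_zero_iff]; exact hb0
      rw [Algebra.smul_def, map_inv₀, h2, ← hc, map_mul, map_mul]
      have hc1 : algebraMap R K c ≠ 0 := by
        intro h0
        apply hr1
        rw [← hc, map_mul, h0, zero_mul]
      field_simp
    rw [h1]
    exact Submodule.smul_mem _ _ (hmem _)
  exact Module.finite_def.2 (by rw [← htop]; exact Submodule.fg_span (s.finite_toSet.image _))

end Alg

variable (R K Kb : Type u) [CommRing R] [IsDomain R] [IsDiscreteValuationRing R] [CharZero R]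
  [IsAdicComplete (maximalIdeal R) R] [Field K] [Algebra R K] [IsFractionRing R K] [Field Kb] [Algebra K Kb]
  [Algebra R Kb] [IsScalarTower R K Kb] [IsAlgClosed Kb] [Algebra.IsAlgebraic K Kb]
  {C : Type u} [NormedField C] [CompleteSpace C] [IsUltrametricDist C]

/-- **No eigenvectors for the cyclotomic character** in the completed algebraic closure of the fraction
field of a complete discrete valuation ring of mixed characteristic. -/
theorem eq_zero_of_chi (j : Kb →+* C) (hd : DenseRange j) (hint : ∀ x : Kb, ‖j x‖ ≤ 1 ↔ IsIntegral R x)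
    {p : ℕ} [Fact p.Prime] (hpm : (p : R) ∈ maximalIdeal R) (hp : ‖(p : C)‖ < 1)
    (z : ℕ → Kb) (hz : ∀ n, IsPrimitiveRoot (z n) (p ^ n)) (hz' : ∀ n, z (n + 1) ^ p = z n)
    (x : C) (hx : ∀ s : Kb ≃ₐ[K] Kb, ∃ S : C →+* C, (∀ y, ‖S y‖ = ‖y‖) ∧ (∀ y, S (j y) = j (s y)) ∧
      ∀ n a : ℕ, s (z n) = z n ^ a → ‖S x - a * x‖ ≤ ‖(p : C)‖ ^ n * ‖x‖) : x = 0 := by
  obtain ⟨R₀, _, _, _, _, hc, hmax, hinj, hfin, -⟩ := K852.BaseW.exists_base R p hpm
  let K₀ := FractionRing R₀
  let _ : Algebra R₀ K := ((algebraMap R K).comp (algebraMap R₀ R)).toAlgebra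
  have : IsScalarTower R₀ R K := IsScalarTower.of_algebraMap_eq fun _ => rfl
  have hinjK : Function.Injective (algebraMap R₀ K) := (IsFractionRing.injective R K).comp hinj
  let _ : Algebra K₀ K := (IsFractionRing.lift (A := R₀) (K := K₀) (g := algebraMap R₀ K) hinjK).toAlgebra
  have : IsScalarTower R₀ K₀ K := IsScalarTower.of_algebraMap_eq fun r =>
    (IsFractionRing.lift_algebraMap hinjK r).symm
  have hfd : FiniteDimensional K₀ K := finiteDimensional (R₀ := R₀) (R := R) hinj
  let _ : Algebra K₀ Kb := ((algebraMap K Kb).comp (algebraMap K₀ K)).toAlgebra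
  have : IsScalarTower K₀ K Kb := IsScalarTower.of_algebraMap_eq fun _ => rfl
  have hzero : ∀ n : ℕ, (n : R₀) = 0 → n = 0 := by
    intro n hn
    have h1 : ((n : ℕ) : R) = 0 := by rw [← map_natCast (algebraMap R₀ R), hn, map_zero]
    exact_mod_cast h1
  have : CharZero R₀ := charZero_of_inj_zero hzero
  have : CharZero K₀ := charZero_of_injective_algebraMap (IsFractionRing.injective R₀ K₀)
  have halg : Algebra.IsAlgebraic K₀ Kb := Algebra.IsAlgebraic.trans K₀ K Kb
  let _ : Algebra R₀ Kb := ((algebraMap R Kb).comp (algebraMap R₀ R)).toAlgebra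
  have : IsScalarTower R₀ R Kb := IsScalarTower.of_algebraMap_eq fun _ => rfl
  have : IsScalarTower R₀ K₀ Kb := IsScalarTower.of_algebraMap_eq fun r => by
    change algebraMap R Kb (algebraMap R₀ R r) = algebraMap K Kb (algebraMap K₀ K (algebraMap R₀ K₀ r))
    rw [← IsScalarTower.algebraMap_apply R₀ K₀ K, IsScalarTower.algebraMap_apply R₀ R K,
      ← IsScalarTower.algebraMap_apply R K Kb]
  have hR₀R : Algebra.IsIntegral R₀ R := inferInstance
  have hint₀ : ∀ x : Kb, IsIntegral R x ↔ IsIntegral R₀ x := fun x =>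
    ⟨fun h => isIntegral_trans (R := R₀) (A := R) x h, fun h => h.tower_top⟩
  have hjp : ‖j (p : Kb)‖ < 1 := by rw [map_natCast]; exact hp
  have hpK : (p : Kb) ≠ 0 := by
    have : CharZero K := charZero_of_injective_algebraMap (IsFractionRing.injective R K)
    have : CharZero Kb := charZero_of_injective_algebraMap (algebraMap K Kb).injective
    exact_mod_cast (Nat.Prime.ne_zero (Fact.out : p.Prime))
  refine CycK.eq_zero_of_chi (K₀ := K₀) (K := K) j hd hp ?_ ?_ z hz hz' x hx
  · intro x hx0
    obtain ⟨n, hn⟩ := K852.BaseW.norm_eq hmax (j.comp (algebraMap K₀ Kb)) (fun r => by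
      rw [RingHom.comp_apply, hint, hint₀, ← IsScalarTower.algebraMap_apply]
      exact isIntegral_algebraMap) x hx0
    exact ⟨n, hn⟩
  · intro s x
    apply CpAct.norm_eq j (s : Kb →+* Kb) p hjp hpK
    intro y
    rw [hint, hint, hint₀, hint₀]
    constructor
    · intro h
      have h1 := h.map (s.symm.restrictScalars R₀ : Kb ≃ₐ[R₀] Kb)
      simpa using h1
    · intro h
      exact h.map (s.restrictScalars R₀ : Kb ≃ₐ[R₀] Kb)

end K565.CycR
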