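import Groth.Agent.SGA7.K565.TOneDef
import Groth.Agent.SGA7.K565.DefCat
import Groth.Agent.Deform.K680.AutGeo
import Groth.Agent.S1302

/-!
# Rings of sections of a deformation over the opens of the closed fibre

For `ξ : DefSch X x A` and `V : X.Opens`: `up ξ V`, the open of the total space over `V`; `al`, `pr`, `rs`; for a morphism
`t` of deformations over `g : A ⟶ B`, `tm`.
-/

set_option autoImplicit false
universe u

open CategoryTheory CategoryTheory.Limits AlgebraicGeometry ArtFun ArtFun.Art TopologicalSpace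
open K565.TOneDef Groth.Agent.Sga7.H331.Sec

namespace K565.DefOpens

variable {Λ k : Type u} [CommRing Λ] [Field k] [Algebra Λ k] {X : Scheme.{u}} {x : X ⟶ specPt k}

section One

variable {A : Art Λ k} (ξ : DefSch (Λ := Λ) X x A)

/-- The closed immersion is a homeomorphism. -/
noncomputable def homeo : X ≃ₜ ξ.total :=
  ξ.i.isClosedEmbedding.isEmbedding.toHomeomorphOfSurjective ξ.i.surjective

theorem homeo_apply (p : X) : homeo ξ p = ξ.i p := rfl

/-- The open of the total space over `V`. -/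
noncomputable def up (V : X.Opens) : ξ.total.Opens := ⟨ξ.i '' V, (homeo ξ).isOpenMap V V.2⟩

theorem mem_up {V : X.Opens} {p : X} : ξ.i p ∈ up ξ V ↔ p ∈ V :=
  Function.Injective.mem_set_image (homeo ξ).injective

theorem preimage_up (V : X.Opens) : ξ.i ⁻¹ᵁ up ξ V = V := by
  ext p
  exact mem_up ξ

theorem up_mono {V W : X.Opens} (h : W ≤ V) : up ξ W ≤ up ξ V := Set.image_mono h

theorem up_preimage (U : ξ.total.Opens) : up ξ (ξ.i ⁻¹ᵁ U) = U := by
  ext p
  obtain ⟨q, rfl⟩ := (homeo ξ).surjective p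
  exact mem_up ξ

theorem up_top : up ξ ⊤ = ⊤ := up_preimage ξ ⊤

theorem isAffineOpen_up {V : X.Opens} (hV : IsAffineOpen V) : IsAffineOpen (up ξ V) := by
  have hV' : IsAffineOpen (ξ.i ⁻¹ᵁ up ξ V) := by rwa [preimage_up]
  have h1 : IsAffine ↑(ξ.i ⁻¹ᵁ up ξ V) := hV'
  have hx : IsAffineHom ((ξ.i ⁻¹ᵁ up ξ V).ι ≫ x) := inferInstance
  have hc : IsClosedImmersion (ξ.i ∣_ up ξ V) := inferInstance
  have hs : Surjective (ξ.i ∣_ up ξ V) :=
    MorphismProperty.of_isPullback (P := @Surjective) (isPullback_morphismRestrict ξ.i (up ξ V)).flip inferInstance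
  have h : IsAffineHom ((up ξ V).ι ≫ ξ.f) := (Groth.Agent.S1302.result (ξ.i ∣_ up ξ V) (specRes A)
    ((ξ.i ⁻¹ᵁ up ξ V).ι ≫ x) ((up ξ V).ι ≫ ξ.f) ⟨hc, hs⟩ ⟨inferInstance, inferInstance⟩ (by
      rw [morphismRestrict_ι_assoc, DefSch.i_f, Category.assoc])).1 hx
  exact isAffine_of_isAffineHom ((up ξ V).ι ≫ ξ.f)

/-- Sections over `up V`. -/
abbrev Up (V : X.Opens) : Type u := Γ(ξ.total, up ξ V)

/-- Coefficients. -/
noncomputable def al (V : X.Opens) : A →+* Up ξ V := (co (A := CommRingCat.of A) ξ.f (up ξ V)).hom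

/-- Reduction. -/
noncomputable def pr (V : X.Opens) : Up ξ V →+* Sec x V :=
  (ξ.i.appLE (up ξ V) V (preimage_up ξ V).ge).hom

/-- Restriction. -/
noncomputable def rs {V W : X.Opens} (h : W ≤ V) : Up ξ V →+* Up ξ W :=
  (ξ.total.presheaf.map (homOfLE (up_mono ξ h)).op).hom

theorem strHom_eq (V : X.Opens) : strHom x V = (co (A := CommRingCat.of k) x V).hom := rfl

theorem pr_al (V : X.Opens) (a : A) : pr ξ V (al ξ V a) = algebraMap k (Sec x V) (A.res a) := by
  have := co_appLE (A := CommRingCat.of A) (A' := CommRingCat.of k) ξ.f x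
    (φ := CommRingCat.ofHom A.res.toRingHom) ξ.isPullback.w (V := up ξ V) (V' := V) (preimage_up ξ V).ge
  exact congrArg (fun t => t.hom a) this

theorem rs_al {V W : X.Opens} (h : W ≤ V) (a : A) : rs ξ h (al ξ V a) = al ξ W a :=
  congrArg (fun t => t.hom a) (co_map (A := CommRingCat.of A) ξ.f (up_mono ξ h))

theorem pr_rs {V W : X.Opens} (h : W ≤ V) (b : Up ξ V) : pr ξ W (rs ξ h b) = res x h (pr ξ V b) := by
  have h1 : ξ.total.presheaf.map (homOfLE (up_mono ξ h)).op ≫ ξ.i.appLE (up ξ W) W (preimage_up ξ W).ge =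
      ξ.i.appLE (up ξ V) V (preimage_up ξ V).ge ≫ X.presheaf.map (homOfLE h).op := by
    rw [Scheme.Hom.map_appLE, Scheme.Hom.appLE_map]
  exact congrArg (fun t => t.hom b) h1

theorem rs_rs {V W Z : X.Opens} (h : W ≤ V) (h' : Z ≤ W) (b : Up ξ V) :
    rs ξ h' (rs ξ h b) = rs ξ (h'.trans h) b := by
  change (ξ.total.presheaf.map _ ≫ ξ.total.presheaf.map _).hom b = _
  rw [← Functor.map_comp]
  rfl

theorem rs_self {V : X.Opens} (b : Up ξ V) : rs ξ (le_refl V) b = b := by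
  change (ξ.total.presheaf.map (𝟙 _)).hom b = b
  rw [ξ.total.presheaf.map_id]
  rfl

theorem surjective_and_ker {V : X.Opens} (hV : IsAffineOpen V) :
    Function.Surjective (pr ξ V) ∧ RingHom.ker (pr ξ V) = (IsLocalRing.maximalIdeal A).map (al ξ V) := by
  have h := isPushout_co (A := CommRingCat.of A) (A' := CommRingCat.of k) ξ.f x
    (φ := CommRingCat.ofHom A.res.toRingHom) (h := ξ.i) ξ.isPullback (isAffineOpen_up ξ hV) (V' := V)
    (preimage_up ξ V).symm
  have h2 := K681.AffDef.surjective_and_ker_of_isPushout A.res.toRingHom (al ξ V)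
    (co (A := CommRingCat.of k) x V).hom (pr ξ V) A.res_surjective h
  rwa [K680.AutGeo.ker_res] at h2

theorem flat_al {V : X.Opens} (hV : IsAffineOpen V) : (al ξ V).Flat :=
  K680.AutGeo.flat_al ξ (isAffineOpen_up ξ hV)

end One

section Mor

variable {A B C : Art Λ k}

/-- A morphism of deformations over `g : A ⟶ B`. -/
structure Mor (η : DefSch (Λ := Λ) X x A) (g : A ⟶ B) (ξ : DefSch (Λ := Λ) X x B) where
  /-- the map on total spaces -/
  t : ξ.total ⟶ η.total
  i_t : ξ.i ≫ t = η.i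
  t_f : t ≫ η.f = ξ.f ≫ specMap g

/-- A base change is a morphism. -/
def Mor.ofBC {η : DefSch (Λ := Λ) X x A} {g : A ⟶ B} {ξ : DefSch (Λ := Λ) X x B} (b : K565.DefCat.BC η g ξ) :
    Mor η g ξ := ⟨b.t, b.i_t, b.isPullback.w⟩

/-- An isomorphism is a morphism. -/
def Mor.ofIso {ξ ξ' : DefSch (Λ := Λ) X x A} (e : ξ.Iso ξ') : Mor ξ' (𝟙 A) ξ :=
  ⟨e.iso.hom, e.i_hom, by rw [e.hom_f, specMap_id, Category.comp_id]⟩

variable {η : DefSch (Λ := Λ) X x A} {g : A ⟶ B} {ξ : DefSch (Λ := Λ) X x B} (m : Mor η g ξ)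

theorem Mor.le (V : X.Opens) : up ξ V ≤ m.t ⁻¹ᵁ up η V := by
  rintro _ ⟨p, hp, rfl⟩
  change m.t (ξ.i p) ∈ up η V
  have h : (ξ.i ≫ m.t) p = η.i p := by rw [m.i_t]
  rw [Scheme.Hom.comp_apply] at h
  rw [h]
  exact (mem_up η).2 hp

/-- The map on sections. -/
noncomputable def Mor.tm (V : X.Opens) : Up η V →+* Up ξ V := (m.t.appLE (up η V) (up ξ V) (m.le V)).hom

theorem Mor.tm_al (V : X.Opens) (a : A) : m.tm V (al η V a) = al ξ V (g a) := by
  have := co_appLE (A := CommRingCat.of A) (A' := CommRingCat.of B) η.f ξ.f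
    (φ := CommRingCat.ofHom g.toAlgHom.toRingHom) m.t_f (V := up η V) (V' := up ξ V) (m.le V)
  exact congrArg (fun t => t.hom a) this

theorem Mor.pr_tm (V : X.Opens) (b : Up η V) : pr ξ V (m.tm V b) = pr η V b := by
  have h1 : m.t.appLE (up η V) (up ξ V) (m.le V) ≫ ξ.i.appLE (up ξ V) V (preimage_up ξ V).ge =
      η.i.appLE (up η V) V (preimage_up η V).ge := by
    rw [Scheme.Hom.appLE_comp_appLE]
    have : ∀ (f : X ⟶ η.total) (hf : f = η.i) (e : V ≤ f ⁻¹ᵁ up η V),
        f.appLE (up η V) V e = η.i.appLE (up η V) V (preimage_up η V).ge := by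
      rintro _ rfl _
      rfl
    exact this _ m.i_t _
  exact congrArg (fun t => t.hom b) h1

theorem Mor.tm_rs {V W : X.Opens} (h : W ≤ V) (b : Up η V) : m.tm W (rs η h b) = rs ξ h (m.tm V b) := by
  have h1 : η.total.presheaf.map (homOfLE (up_mono η h)).op ≫ m.t.appLE (up η W) (up ξ W) (m.le W) =
      m.t.appLE (up η V) (up ξ V) (m.le V) ≫ ξ.total.presheaf.map (homOfLE (up_mono ξ h)).op := by
    rw [Scheme.Hom.map_appLE, Scheme.Hom.appLE_map]
  exact congrArg (fun t => t.hom b) h1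

end Mor

end K565.DefOpens
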