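import Groth.Agent.SGA7.K565.TOneDef
import Groth.Agent.DefT.K694.ExalT1
import Groth.Agent.DefT.K694.Hom
import Groth.Prelude.Def_Exal2

/-!
# Classes of extensions in `T¹`: functoriality, additivity

* `pull_cls_eq`: for a map of extensions over `B → C` the classes are compatible;
* `cls_add`, `cls_smul`: sums and multiples of extensions;
* `exists_section`: an extension of class zero has a section.
-/

set_option autoImplicit false
universe u

open CotT K694.ExalT1 Exal K565.TOneDef TensorProduct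

namespace K565.TOneCls

variable {k B C : Type u} [CommRing k] [CommRing B] [CommRing C] [Algebra k B] [Algebra k C]

theorem T1map_homToT1 {M N : Type u} [AddCommGroup M] [Module B M] [AddCommGroup N] [Module B N]
    (g : M →ₗ[B] N) (φ : (canon k B).toExtension.Cotangent →ₗ[B] M) :
    T1map (canon k B) g (homToT1 (canon k B) M φ) = homToT1 (canon k B) N (g ∘ₗ φ) := rfl

/-- Classes are compatible with maps of extensions. -/
theorem pull_cls_eq [Algebra B C] [IsScalarTower k B C] (X : Ext k B B) (Y : Ext k C C) (θ : X.E →ₐ[k] Y.E)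
    (hp : ∀ e, Y.proj (θ e) = algebraMap B C (X.proj e))
    (hi : ∀ b, θ (X.incl b) = Y.incl (algebraMap B C b)) :
    pull k B C (cls (canon k C) Y) = push k B C (cls (canon k B) X) := by
  obtain ⟨φX, fX, hX⟩ := exists_real (canon k B) X
  obtain ⟨φY, fY, hY⟩ := exists_real (canon k C) Y
  rw [cls_eq hX, cls_eq hY]
  let h := canonHom k B k C
  let g : (canon k B).toExtension.Ring →ₐ[k] (canon k C).toExtension.Ring := h.hom.toExtensionHom.toAlgHom
  have hg : ∀ r, algebraMap _ C (g r) = algebraMap B C (algebraMap _ B r) := h.algebraMap_ringHom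
  let p : (canon k B).toExtension.Ring →ₐ[k] B := IsScalarTower.toAlgHom k _ B
  let f₁ : (canon k B).toExtension.Ring →ₐ[k] (Y.pullback B).E :=
    ((fY.comp g).prod p).codRestrict (Y.fiberProd B) (fun r => by
      change Y.proj (fY (g r)) = algebraMap B C (algebraMap _ B r)
      rw [hY.proj, hg])
  let f₂ : (canon k B).toExtension.Ring →ₐ[k] (Y.pullback B).E :=
    ((θ.comp fX).prod p).codRestrict (Y.fiberProd B) (fun r => by
      change Y.proj (θ (fX r)) = algebraMap B C (algebraMap _ B r)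
      rw [hp, hX.proj])
  have h₁ : Real (Y.pullback B) (PresHom.linOfSemilinear C (φY.comp h.cotMap)) f₁ := by
    refine ⟨fun r => rfl, fun x => ?_⟩
    refine Subtype.ext (Prod.ext ?_ x.2)
    exact hY.mem ⟨g x, _⟩
  have h₂ : Real (Y.pullback B) (Algebra.linearMap B C ∘ₗ φX) f₂ := by
    refine ⟨fun r => rfl, fun x => ?_⟩
    refine Subtype.ext (Prod.ext ?_ x.2)
    change θ (fX x) = Y.incl (algebraMap B C (φX _))
    rw [hX.mem, hi]
  refine Eq.trans (K694.Hom.T1pull_homToT1 h C φY) (Eq.trans ?_ (T1map_homToT1 _ _).symm)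
  exact real_T1_eq ⟨Ext.Equiv.refl _⟩ h₁ h₂

theorem compat_cls (φ : B →ₐ[k] C) (X : Ext k B B) (Y : Ext k C C) (θ : X.E →ₐ[k] Y.E)
    (hp : ∀ e, Y.proj (θ e) = φ (X.proj e)) (hi : ∀ b, θ (X.incl b) = Y.incl (φ b)) :
    Compat φ (cls (canon k B) X) (cls (canon k C) Y) := by
  let i1 : Algebra B C := φ.toRingHom.toAlgebra
  have i2 : IsScalarTower k B C := IsScalarTower.of_algebraMap_eq fun c => (φ.commutes c).symm
  exact pull_cls_eq X Y θ hp hi

/-- Lifts of the generators. -/
theorem exists_algHom {D : Type u} [CommRing D] [Algebra k D] (p : D →ₐ[k] B) (hp : Function.Surjective p) :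
    ∃ f : (canon k B).toExtension.Ring →ₐ[k] D, ∀ r, p (f r) = algebraMap _ B r := by
  choose e he using fun i : B => hp ((canon k B).val i)
  let f : MvPolynomial B k →ₐ[k] D := MvPolynomial.aeval e
  have hf : p.comp f = MvPolynomial.aeval (canon k B).val := by
    apply MvPolynomial.algHom_ext
    intro i
    simp [f, he]
  exact ⟨f, fun r => (DFunLike.congr_fun hf r).trans (algebraMap_toExtension (canon k B) r).symm⟩

/-- Additivity. -/
theorem cls_add {D : Type u} [CommRing D] [Algebra k D] (p : D →ₐ[k] B) (hp : Function.Surjective p)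
    (X₁ X₂ X₃ : Ext k B B) (θ₁ : D →ₐ[k] X₁.E) (θ₂ : D →ₐ[k] X₂.E) (θ₃ : D →ₐ[k] X₃.E)
    (h₁ : ∀ d, X₁.proj (θ₁ d) = p d) (h₂ : ∀ d, X₂.proj (θ₂ d) = p d) (h₃ : ∀ d, X₃.proj (θ₃ d) = p d)
    (h : ∀ d, p d = 0 → ∃ b₁ b₂ : B, θ₁ d = X₁.incl b₁ ∧ θ₂ d = X₂.incl b₂ ∧ θ₃ d = X₃.incl (b₁ + b₂)) :
    cls (canon k B) X₃ = cls (canon k B) X₁ + cls (canon k B) X₂ := by
  obtain ⟨f, hf⟩ := exists_algHom p hp
  obtain ⟨φ₁, r₁⟩ := exists_real_of_lift X₁ (θ₁.comp f) (fun r => (h₁ _).trans (hf r))
  obtain ⟨φ₂, r₂⟩ := exists_real_of_lift X₂ (θ₂.comp f) (fun r => (h₂ _).trans (hf r))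
  obtain ⟨φ₃, r₃⟩ := exists_real_of_lift X₃ (θ₃.comp f) (fun r => (h₃ _).trans (hf r))
  rw [cls_eq r₁, cls_eq r₂, cls_eq r₃, ← map_add]
  congr 1
  refine cot_ext fun x => ?_
  obtain ⟨b₁, b₂, e₁, e₂, e₃⟩ := h (f x) ((hf x).trans x.2)
  have e₁' := X₁.isExtension.incl_injective (((r₁.mem x).symm.trans e₁))
  have e₂' := X₂.isExtension.incl_injective (((r₂.mem x).symm.trans e₂))
  have e₃' := X₃.isExtension.incl_injective (((r₃.mem x).symm.trans e₃))
  rw [e₃', LinearMap.add_apply, e₁', e₂']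

/-- Scalars. -/
theorem cls_smul (c : B) (X X' : Ext k B B) (θ : X.E →ₐ[k] X'.E) (hp : ∀ d, X'.proj (θ d) = X.proj d)
    (hi : ∀ b, θ (X.incl b) = X'.incl (c * b)) :
    cls (canon k B) X' = c • cls (canon k B) X := by
  obtain ⟨φ, f, r⟩ := exists_real (canon k B) X
  have r' : Real X' (c • φ) (θ.comp f) := by
    refine ⟨fun r' => (hp _).trans (r.proj r'), fun x => ?_⟩
    change θ (f x) = X'.incl (c * φ _)
    rw [r.mem, hi]
  rw [cls_eq r, cls_eq r', map_smul]

/-- Equivalent extensions have the same class. -/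
theorem cls_congr (X X' : Ext k B B) (θ : X.E →ₐ[k] X'.E) (hp : ∀ d, X'.proj (θ d) = X.proj d)
    (hi : ∀ b, θ (X.incl b) = X'.incl b) : cls (canon k B) X' = cls (canon k B) X := by
  rw [cls_smul 1 X X' θ hp (fun b => by rw [one_mul, hi]), one_smul]

/-- An extension of class zero has a section. -/
theorem exists_section (X : Ext k B B) (h : cls (canon k B) X = 0) :
    ∃ s : B →ₐ[k] X.E, ∀ b, X.proj (s b) = b := by
  obtain ⟨φ, f, r⟩ := exists_real (canon k B) X
  rw [cls_eq r, ← map_zero (homToT1 (canon k B) B)] at h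
  obtain ⟨f', r'⟩ := real_of_T1_eq r h
  have hs : Function.Surjective (algebraMap (canon k B).toExtension.Ring B) :=
    (canon k B).toExtension.algebraMap_surjective
  let q : (canon k B).toExtension.Ring →ₐ[k] B := IsScalarTower.toAlgHom k _ B
  have hk : RingHom.ker q.toRingHom ≤ RingHom.ker f'.toRingHom := by
    intro x hx
    have := r'.mem ⟨x, hx⟩
    rw [LinearMap.zero_apply, map_zero] at this
    exact this
  let s : B →ₐ[k] X.E :=
    { q.toRingHom.liftOfSurjective hs ⟨f'.toRingHom, hk⟩ with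
      commutes' := fun c => by
        have h1 := q.toRingHom.liftOfRightInverse_comp_apply (Function.surjInv hs) (Function.rightInverse_surjInv hs)
          ⟨f'.toRingHom, hk⟩ (algebraMap k _ c)
        have h2 : q.toRingHom (algebraMap k _ c) = algebraMap k B c := q.commutes c
        rw [h2] at h1
        exact h1.trans (f'.commutes c) }
  refine ⟨s, fun b => ?_⟩
  obtain ⟨r₀, rfl⟩ := hs b
  have h1 := q.toRingHom.liftOfRightInverse_comp_apply (Function.surjInv hs) (Function.rightInverse_surjInv hs)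
    ⟨f'.toRingHom, hk⟩ r₀
  change X.proj (s (q.toRingHom r₀)) = _
  refine (congrArg X.proj h1).trans ?_
  exact r'.proj r₀

end K565.TOneCls
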