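import Groth.Agent.SGA7.K565.DefOpens
import Groth.Agent.SGA7.K565.TOneCls
import Mathlib.RingTheory.Flat.EquationalCriterion

/-!
# First-order deformations as extensions over the affine opens

For `ξ : DefSch X x (dual Λ k)` and `V` affine open: `ext ξ V : Exal.Ext k Γ(V) Γ(V)`.
-/

set_option autoImplicit false
universe u

open CategoryTheory CategoryTheory.Limits AlgebraicGeometry ArtFun ArtFun.Art TopologicalSpace
open K565.TOneDef K565.DefOpens K565.TOneCls CotT

namespace K565.DefTan

section Alg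

variable {R E B : Type u} [CommRing R] [CommRing E] [CommRing B] (al : R →+* E) (pr : E →+* B)

theorem mul_eq_zero_of_flat (hf : al.Flat) {r s : R} (hrs : ∀ a, r * a = 0 → ∃ b, a = s * b) {e : E}
    (he : al r * e = 0) : ∃ e', e = al s * e' := by
  let _ : Algebra R E := al.toAlgebra
  have hf' : Module.Flat R E := hf
  obtain ⟨n, a, y, h1, h2⟩ := (Module.Flat.iff_forall_isTrivialRelation (R := R) (M := E)).1 hf' (l := 1)
    (f := fun _ => r) (x := fun _ => e) (by
      rw [Finset.univ_unique, Finset.sum_singleton, Algebra.smul_def]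
      exact he)
  choose c hc using fun j => hrs (a 0 j) (by
    have := h2 j
    rwa [Finset.univ_unique, Finset.sum_singleton, mul_comm, mul_comm] at this)
  refine ⟨∑ j, al (c j) * y j, ?_⟩
  refine (h1 0).trans ?_
  rw [Finset.mul_sum]
  refine Finset.sum_congr rfl fun j _ => ?_
  rw [hc, Algebra.smul_def, map_mul, mul_assoc]
  rfl

end Alg

variable {Λ k : Type u} [CommRing Λ] [Field k] [Algebra Λ k] {X : Scheme.{u}} {x : X ⟶ specPt k}

/-- The element `ε`. -/
def eps : dual Λ k := (TrivSqZeroExt.inr 1 : DualNumber k)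

/-- `k → k[ε]`. -/
def inl : k →+* dual Λ k := (TrivSqZeroExt.inlHom k k : k →+* DualNumber k)

theorem inr_mul_inl (c : k) : (TrivSqZeroExt.inr 1 : DualNumber k) * TrivSqZeroExt.inl c = TrivSqZeroExt.inr c := by
  rw [TrivSqZeroExt.inr_mul_inl]
  simp

theorem fst_eq_zero (a : DualNumber k) (h : (TrivSqZeroExt.inr 1 : DualNumber k) * a = 0) : a.fst = 0 := by
  have := congrArg TrivSqZeroExt.snd h
  rw [TrivSqZeroExt.snd_mul] at this
  simpa using this

theorem eps_mul_inl (c : k) : (eps : dual Λ k) * inl (Λ := Λ) c = (TrivSqZeroExt.inr c : DualNumber k) :=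
  inr_mul_inl c

theorem eps_mul_eps : (eps : dual Λ k) * eps = 0 := TrivSqZeroExt.inr_mul_inr _ _ _

theorem eps_mul_eq_zero (a : dual Λ k) (h : eps * a = 0) : ∃ b, a = eps * b := by
  have h1 : (TrivSqZeroExt.fst a : k) = 0 := fst_eq_zero a h
  refine ⟨inl (TrivSqZeroExt.snd a), ?_⟩
  rw [eps_mul_inl]
  exact TrivSqZeroExt.ext h1 rfl

theorem maximalIdeal_eq : IsLocalRing.maximalIdeal (dual Λ k) = Ideal.span {eps} := by
  ext a
  rw [Art.mem_maximalIdeal_iff, Ideal.mem_span_singleton]
  constructor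
  · intro h
    refine ⟨inl (TrivSqZeroExt.snd a), ?_⟩
    rw [eps_mul_inl]
    exact TrivSqZeroExt.ext h rfl
  · rintro ⟨b, rfl⟩
    rw [map_mul]
    change (0 : k) * _ = 0
    rw [zero_mul]

section

variable (ξ : DefSch (Λ := Λ) X x (dual Λ k))

theorem ker_pr {V : X.Opens} (hV : IsAffineOpen V) : RingHom.ker (pr ξ V) = Ideal.span {al ξ V eps} := by
  rw [(surjective_and_ker ξ hV).2, maximalIdeal_eq, Ideal.map_span, Set.image_singleton]

theorem eps_mul_iff {V : X.Opens} (hV : IsAffineOpen V) (e : Up ξ V) : al ξ V eps * e = 0 ↔ pr ξ V e = 0 := by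
  constructor
  · intro h
    obtain ⟨e', rfl⟩ := mul_eq_zero_of_flat (al ξ V) (flat_al ξ hV) eps_mul_eq_zero h
    rw [← RingHom.mem_ker, ker_pr ξ hV]
    exact Ideal.mul_mem_right _ _ (Ideal.mem_span_singleton_self _)
  · intro h
    rw [← RingHom.mem_ker, ker_pr ξ hV, Ideal.mem_span_singleton] at h
    obtain ⟨e', rfl⟩ := h
    rw [← mul_assoc, ← map_mul, eps_mul_eps, map_zero, zero_mul]

/-- The inclusion `b ↦ ε b`. -/
noncomputable def inc {V : X.Opens} (hV : IsAffineOpen V) : Sec x V →+ Up ξ V where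
  toFun b := al ξ V eps * ((surjective_and_ker ξ hV).1 b).choose
  map_zero' := by
    rw [eps_mul_iff ξ hV]
    exact ((surjective_and_ker ξ hV).1 0).choose_spec
  map_add' b b' := by
    rw [← mul_add, ← sub_eq_zero, ← mul_sub, eps_mul_iff ξ hV, map_sub, map_add,
      ((surjective_and_ker ξ hV).1 _).choose_spec, ((surjective_and_ker ξ hV).1 _).choose_spec,
      ((surjective_and_ker ξ hV).1 _).choose_spec, sub_self]

theorem inc_pr {V : X.Opens} (hV : IsAffineOpen V) (e : Up ξ V) : inc ξ hV (pr ξ V e) = al ξ V eps * e := by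
  change al ξ V eps * _ = _
  rw [← sub_eq_zero, ← mul_sub, eps_mul_iff ξ hV, map_sub, ((surjective_and_ker ξ hV).1 _).choose_spec, sub_self]

theorem mul_inc {V : X.Opens} (hV : IsAffineOpen V) (e : Up ξ V) (b : Sec x V) :
    e * inc ξ hV b = inc ξ hV (pr ξ V e * b) := by
  obtain ⟨e', rfl⟩ := (surjective_and_ker ξ hV).1 b
  rw [inc_pr, ← map_mul, inc_pr]
  ring

/-- `Γ(total, up V)` as a `k`-algebra. -/
def UpK (V : X.Opens) : Type u := Up ξ V

noncomputable instance (V : X.Opens) : CommRing (UpK ξ V) := inferInstanceAs (CommRing (Up ξ V))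

noncomputable instance (V : X.Opens) : Algebra k (UpK ξ V) := ((al ξ V).comp inl).toAlgebra

theorem algebraMap_UpK (V : X.Opens) (c : k) : algebraMap k (UpK ξ V) c = al ξ V (inl c) := rfl

/-- Reduction as an algebra map. -/
noncomputable def prK (V : X.Opens) : UpK ξ V →ₐ[k] Sec x V :=
  { pr ξ V with
    commutes' := fun c => by
      refine (pr_al ξ V (inl c)).trans ?_
      rfl }

/-- The extension over an affine open. -/
noncomputable def ext {V : X.Opens} (hV : IsAffineOpen V) : Exal.Ext k (Sec x V) (Sec x V) where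
  E := UpK ξ V
  proj := prK ξ V
  incl := inc ξ hV
  isExtension :=
    { proj_surjective := (surjective_and_ker ξ hV).1
      incl_injective := by
        rw [injective_iff_map_eq_zero]
        intro b hb
        obtain ⟨e, rfl⟩ := (surjective_and_ker ξ hV).1 b
        exact (eps_mul_iff ξ hV e).1 ((inc_pr ξ hV e).symm.trans hb)
      exact := fun e => by
        change pr ξ V e = 0 ↔ _
        rw [← RingHom.mem_ker, ker_pr ξ hV, Ideal.mem_span_singleton]
        constructor
        · rintro ⟨e', rfl⟩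
          exact ⟨pr ξ V e', inc_pr ξ hV e'⟩
        · rintro ⟨b, rfl⟩
          obtain ⟨e', rfl⟩ := (surjective_and_ker ξ hV).1 b
          exact ⟨e', inc_pr ξ hV e'⟩
      mul_incl := fun e b => mul_inc ξ hV e b }

end

end K565.DefTan
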