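import Groth.Agent.SGA7.K565.DefTan
import Groth.Agent.SGA7.K565.DefFun

/-!
# The linear map from first-order deformations to compatible families of classes in `T¹`
-/

set_option autoImplicit false
universe u

open CategoryTheory CategoryTheory.Limits AlgebraicGeometry ArtFun ArtFun.Art TopologicalSpace
open K565.TOneDef K565.DefOpens K565.TOneCls K565.DefTan CotT K694.ExalT1

namespace K565.DefTan2

variable {Λ k : Type u} [CommRing Λ] [Field k] [Algebra Λ k] {X : Scheme.{u}} {x : X ⟶ specPt k}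

section Scal

variable {η ξ : DefSch (Λ := Λ) X x (dual Λ k)} {g : dual Λ k ⟶ dual Λ k} (m : Mor η g ξ)

/-- The map on sections as a map of `k`-algebras. -/
noncomputable def tmK (hg : ∀ c : k, g (inl c) = inl c) (V : X.Opens) : UpK η V →ₐ[k] UpK ξ V :=
  { m.tm V with
    commutes' := fun c => by
      refine (m.tm_al V (inl c)).trans ?_
      rw [hg]
      rfl }

theorem tm_inc {V : X.Opens} (hV : IsAffineOpen V) (c : k) (hc : g eps = eps * inl c) (b : Sec x V) :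
    m.tm V (inc η hV b) = inc ξ hV (algebraMap k (Sec x V) c * b) := by
  obtain ⟨e, rfl⟩ := (surjective_and_ker η hV).1 b
  rw [inc_pr, map_mul, m.tm_al, hc, map_mul, mul_assoc, ← inc_pr ξ hV, map_mul, pr_al, m.pr_tm]
  rfl

include m in
theorem cls_ext (hg : ∀ c : k, g (inl c) = inl c) {V : X.Opens} (hV : IsAffineOpen V) (c : k)
    (hc : g eps = eps * inl c) :
    cls (canon k (Sec x V)) (ext ξ hV) = c • cls (canon k (Sec x V)) (ext η hV) := by
  rw [← algebraMap_smul (Sec x V) c (cls (canon k (Sec x V)) (ext η hV))]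
  exact cls_smul (algebraMap k (Sec x V) c) (ext η hV) (ext ξ hV) (tmK m hg V) (fun e => m.pr_tm V e)
    (fun b => tm_inc m hV c hc b)

end Scal

section Add

/-- `k → k[ε₁, ε₂]`. -/
def inl2 : k →+* dual2 Λ k := (TrivSqZeroExt.inlHom k (k × k) : k →+* TrivSqZeroExt k (k × k))

/-- `Γ(total, up V)` as a `k`-algebra, over `k[ε₁, ε₂]`. -/
def UpK2 (η : DefSch (Λ := Λ) X x (dual2 Λ k)) (V : X.Opens) : Type u := Up η V

variable (η : DefSch (Λ := Λ) X x (dual2 Λ k))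

noncomputable instance (V : X.Opens) : CommRing (UpK2 η V) := inferInstanceAs (CommRing (Up η V))

noncomputable instance (V : X.Opens) : Algebra k (UpK2 η V) := ((al η V).comp inl2).toAlgebra

/-- Reduction as an algebra map. -/
noncomputable def prK2 (V : X.Opens) : UpK2 η V →ₐ[k] Sec x V :=
  { pr η V with
    commutes' := fun c => (pr_al η V (inl2 c)).trans rfl }

variable {η} {ξ : DefSch (Λ := Λ) X x (dual Λ k)} {g : dual2 Λ k ⟶ dual Λ k} (m : Mor η g ξ)

/-- The map on sections as a map of `k`-algebras. -/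
noncomputable def tmK2 (hg : ∀ c : k, g (inl2 c) = inl c) (V : X.Opens) : UpK2 η V →ₐ[k] UpK ξ V :=
  { m.tm V with
    commutes' := fun c => by
      refine (m.tm_al V (inl2 c)).trans ?_
      rw [hg]
      rfl }

theorem tm_al' {V : X.Opens} (hV : IsAffineOpen V) (w : dual2 Λ k) (c : k) (hw : g w = eps * inl c) :
    m.tm V (al η V w) = inc ξ hV (algebraMap k (Sec x V) c) := by
  rw [m.tm_al, hw, map_mul, ← inc_pr ξ hV, pr_al]
  rfl

variable {ξ₁ ξ₂ ξ₃ : DefSch (Λ := Λ) X x (dual Λ k)} (m₁ : Mor η pr₁ ξ₁) (m₂ : Mor η pr₂ ξ₂) (m₃ : Mor η plus ξ₃)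

theorem exists_add {V : X.Opens} (hV : IsAffineOpen V) (d : Up η V) (hd : pr η V d = 0) :
    ∃ b₁ b₂ : Sec x V, m₁.tm V d = inc ξ₁ hV b₁ ∧ m₂.tm V d = inc ξ₂ hV b₂ ∧
      m₃.tm V d = inc ξ₃ hV (b₁ + b₂) := by
  rw [← RingHom.mem_ker, (surjective_and_ker η hV).2] at hd
  induction hd using Submodule.span_induction with
  | mem d hd =>
    obtain ⟨w, hw, rfl⟩ := hd
    have hw' : (w : TrivSqZeroExt k (k × k)).fst = 0 := (Art.mem_maximalIdeal_iff _ _).1 hw
    refine ⟨algebraMap k _ (w : TrivSqZeroExt k (k × k)).snd.1, algebraMap k _ (w : TrivSqZeroExt k (k × k)).snd.2,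
      ?_, ?_, ?_⟩
    · refine tm_al' m₁ hV w _ ?_
      rw [eps_mul_inl]
      exact TrivSqZeroExt.ext hw' rfl
    · refine tm_al' m₂ hV w _ ?_
      rw [eps_mul_inl]
      exact TrivSqZeroExt.ext hw' rfl
    · rw [← map_add]
      refine tm_al' m₃ hV w _ ?_
      rw [eps_mul_inl]
      exact TrivSqZeroExt.ext hw' rfl
  | zero => exact ⟨0, 0, by simp, by simp, by simp⟩
  | add d d' _ _ h h' =>
    obtain ⟨b₁, b₂, e₁, e₂, e₃⟩ := h
    obtain ⟨b₁', b₂', e₁', e₂', e₃'⟩ := h'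
    exact ⟨b₁ + b₁', b₂ + b₂', by rw [map_add, e₁, e₁', map_add], by rw [map_add, e₂, e₂', map_add],
      by rw [map_add, e₃, e₃', ← map_add]; congr 1; abel⟩
  | smul a d _ h =>
    obtain ⟨b₁, b₂, e₁, e₂, e₃⟩ := h
    refine ⟨pr η V a * b₁, pr η V a * b₂, ?_, ?_, ?_⟩
    · rw [smul_eq_mul, map_mul, e₁, mul_inc, m₁.pr_tm]
    · rw [smul_eq_mul, map_mul, e₂, mul_inc, m₂.pr_tm]
    · rw [smul_eq_mul, map_mul, e₃, mul_inc, m₃.pr_tm, mul_add]

include m₁ m₂ m₃ in
theorem cls_ext_add {V : X.Opens} (hV : IsAffineOpen V) :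
    cls (canon k (Sec x V)) (ext ξ₃ hV) =
      cls (canon k (Sec x V)) (ext ξ₁ hV) + cls (canon k (Sec x V)) (ext ξ₂ hV) :=
  cls_add (prK2 η V) (surjective_and_ker η hV).1 (ext ξ₁ hV) (ext ξ₂ hV) (ext ξ₃ hV)
    (tmK2 m₁ (fun _ => rfl) V) (tmK2 m₂ (fun _ => rfl) V) (tmK2 m₃ (fun _ => TrivSqZeroExt.ext rfl (by
      change (0 : k) + 0 = 0
      rw [add_zero])) V)
    (fun e => m₁.pr_tm V e) (fun e => m₂.pr_tm V e) (fun e => m₃.pr_tm V e) (fun d hd => exists_add m₁ m₂ m₃ hV d hd)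

end Add

section Map

variable (X x) in
/-- The functor of deformations. -/
noncomputable abbrev F : Art Λ k ⥤ Type (u + 1) := defFunctor (Λ := Λ) X x

/-- The family of classes of a first-order deformation. -/
noncomputable def tc (ξ : DefSch (Λ := Λ) X x (dual Λ k)) (V : X.affineOpens) : T k (Sec x V.1) :=
  cls (canon k (Sec x V.1)) (ext ξ V.2)

theorem tc_iso {ξ ξ' : DefSch (Λ := Λ) X x (dual Λ k)} (e : ξ.Iso ξ') : tc ξ = tc ξ' := by
  funext V
  have := cls_ext (Mor.ofIso e) (fun _ => rfl) V.2 1 (by rw [map_one, mul_one]; rfl)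
  rw [one_smul] at this
  exact this

theorem rs_inc (ξ : DefSch (Λ := Λ) X x (dual Λ k)) {V W : X.Opens} (hV : IsAffineOpen V) (hW : IsAffineOpen W)
    (h : W ≤ V) (b : Sec x V) : rs ξ h (inc ξ hV b) = inc ξ hW (res x h b) := by
  obtain ⟨e, rfl⟩ := (surjective_and_ker ξ hV).1 b
  rw [inc_pr, map_mul, rs_al, ← pr_rs, inc_pr]

/-- Restriction as a map of algebras. -/
noncomputable def rsK (ξ : DefSch (Λ := Λ) X x (dual Λ k)) {V W : X.Opens} (h : W ≤ V) : UpK ξ V →ₐ[k] UpK ξ W :=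
  { rs ξ h with
    commutes' := fun c => rs_al ξ h (inl c) }

theorem tc_mem (ξ : DefSch (Λ := Λ) X x (dual Λ k)) : tc ξ ∈ G x := by
  intro V W h
  exact compat_cls (res x h) (ext ξ V.2) (ext ξ W.2) (rsK ξ h) (fun e => pr_rs ξ h e)
    (fun b => rs_inc ξ V.2 W.2 h b)

/-- The family of classes, on isomorphism classes. -/
noncomputable def tcq : (F (Λ := Λ) X x).obj (dual Λ k) → G x :=
  Quotient.lift (fun ξ => ⟨tc ξ, tc_mem ξ⟩) (fun _ _ ⟨e⟩ => Subtype.ext (tc_iso e))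

theorem tcq_cl (ξ : DefSch (Λ := Λ) X x (dual Λ k)) : tcq ξ.cl = ⟨tc ξ, tc_mem ξ⟩ := rfl

theorem tc_add {η : DefSch (Λ := Λ) X x (dual2 Λ k)} {ξ₁ ξ₂ ξ₃ : DefSch (Λ := Λ) X x (dual Λ k)}
    (m₁ : Mor η pr₁ ξ₁) (m₂ : Mor η pr₂ ξ₂) (m₃ : Mor η plus ξ₃) : tc ξ₃ = tc ξ₁ + tc ξ₂ :=
  funext fun V => cls_ext_add m₁ m₂ m₃ V.2

theorem tcq_add (z : (F (Λ := Λ) X x).obj (dual2 Λ k)) :
    tcq ((F X x).map plus z) = tcq ((F X x).map pr₁ z) + tcq ((F X x).map pr₂ z) := by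
  obtain ⟨η, rfl⟩ := K565.DefCat.exists_rep z
  have h := tc_add (Mor.ofBC (K565.DefCat.BC.canonical η pr₁)) (Mor.ofBC (K565.DefCat.BC.canonical η pr₂))
    (Mor.ofBC (K565.DefCat.BC.canonical η plus))
  have e : ∀ g : dual2 Λ k ⟶ dual Λ k, tcq ((F X x).map g η.cl) = ⟨tc (η.baseChange g), tc_mem _⟩ := fun g =>
    congrArg tcq (defFunctor_map_cl g η)
  refine (e plus).trans (Eq.trans ?_ (congrArg₂ (· + ·) (e pr₁) (e pr₂)).symm)
  exact Subtype.ext h

theorem tcq_scale (c : k) (z : (F (Λ := Λ) X x).obj (dual Λ k)) :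
    tcq ((F X x).map (scale c) z) = c • tcq z := by
  obtain ⟨η, rfl⟩ := K565.DefCat.exists_rep z
  refine (congrArg tcq (defFunctor_map_cl (scale c) η)).trans ?_
  refine Subtype.ext (funext fun V => ?_)
  exact cls_ext (Mor.ofBC (K565.DefCat.BC.canonical η (scale c))) (fun a => TrivSqZeroExt.ext rfl (by
    change c * (0 : k) = 0
    rw [mul_zero])) V.2 c (by
      rw [eps_mul_inl]
      exact TrivSqZeroExt.ext rfl (by
        change c * (1 : k) = c
        rw [mul_one]))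

theorem exists_dual2 (a b : (F (Λ := Λ) X x).obj (dual Λ k)) :
    ∃ z : (F (Λ := Λ) X x).obj (dual2 Λ k), (F X x).map pr₁ z = a ∧ (F X x).map pr₂ z = b := by
  obtain ⟨z, hz⟩ := (K565.DefFun.heps (Λ := Λ) (X := X) (x := x) pr₁ pr₂ isFibreProd_dual2).2
    ⟨(a, b), (K565.DefFun.h0 (Λ := Λ) (X := X) (x := x)).2.elim _ _⟩
  exact ⟨z, congrArg (fun t => t.1.1) hz, congrArg (fun t => t.1.2) hz⟩

theorem tcq_add' [TangentStr (F (Λ := Λ) X x)] (a b : TangentSpace (F (Λ := Λ) X x)) :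
    tcq (a + b : TangentSpace (F (Λ := Λ) X x)) = tcq a + tcq b := by
  obtain ⟨z, h1, h2⟩ := exists_dual2 a b
  subst h1 h2
  exact (congrArg tcq (TangentStr.add_eq (F := F (Λ := Λ) X x) z)).trans (tcq_add z)

theorem tcq_smul' [TangentStr (F (Λ := Λ) X x)] (c : k) (a : TangentSpace (F (Λ := Λ) X x)) :
    tcq (c • a : TangentSpace (F (Λ := Λ) X x)) = c • tcq a :=
  (congrArg tcq (TangentStr.smul_eq (F := F (Λ := Λ) X x) c a)).trans (tcq_scale c a)

/-- The `k`-linear map to compatible families of classes in `T¹`. -/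
noncomputable def tcl [TangentStr (F (Λ := Λ) X x)] : TangentSpace (F (Λ := Λ) X x) →ₗ[k] G x where
  toFun z := tcq z
  map_add' := tcq_add'
  map_smul' := tcq_smul'

/-- A deformation in the kernel has sections over the affine opens. -/
theorem exists_section [TangentStr (F (Λ := Λ) X x)] (ξ : DefSch (Λ := Λ) X x (dual Λ k))
    (h : tcl (Λ := Λ) (X := X) (x := x) ξ.cl = 0) {V : X.Opens} (hV : IsAffineOpen V) :
    ∃ s : Sec x V →ₐ[k] UpK ξ V, ∀ b, pr ξ V (s b) = b :=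
  K565.TOneCls.exists_section (ext ξ hV) (congrFun (congrArg Subtype.val h) ⟨V, hV⟩)

end Map

end K565.DefTan2
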