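import Groth.Agent.SGA7.K565.TOneDef
import Mathlib.RingTheory.Etale.Kaehler
import Mathlib.AlgebraicGeometry.Morphisms.Etale
import Mathlib.RingTheory.FinitePresentation
import Mathlib.Algebra.Module.FinitePresentation

/-!
# Restriction of functions between affine opens is étale; derivations

* `etale_res`; `secAlg h` : `Γ(X, W)` as a `Γ(X, V)`-algebra, formally étale;
* `exu_der`: derivations extend uniquely along formally étale maps;
* `der_loc_inj`, `der_loc_surj`, `finite_der`: derivations of an algebra of finite type and localization.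
-/

set_option autoImplicit false
universe u

open CategoryTheory AlgebraicGeometry K565.TOneDef TensorProduct

namespace K565.SecEtale

section Alg

variable {k B C : Type u} [CommRing k] [CommRing B] [CommRing C] [Algebra k B] [Algebra k C] [Algebra B C]
  [IsScalarTower k B C]

/-- Derivations extend uniquely along formally étale maps. -/
theorem exu_der [Algebra.FormallyEtale B C] {M : Type u} [AddCommGroup M] [Module B M] [Module C M] [Module k M]
    [IsScalarTower B C M] [IsScalarTower k B M] [IsScalarTower k C M] (D : Derivation k B M) :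
    ∃! D' : Derivation k C M, ∀ b, D' (algebraMap B C b) = D b := by
  let e := KaehlerDifferential.tensorKaehlerEquivOfFormallyEtale k B C
  let l : C ⊗[B] Ω[B⁄k] →ₗ[C] M := LinearMap.liftBaseChange C D.liftKaehlerDifferential
  refine ⟨(l ∘ₗ e.symm.toLinearMap).compDer (KaehlerDifferential.D k C), fun b => ?_, fun D' hD' => ?_⟩
  · change l (e.symm (KaehlerDifferential.D k C (algebraMap B C b))) = D b
    rw [KaehlerDifferential.tensorKaehlerEquivOfFormallyEtale_symm_D_algebraMap]
    simp [l]
  · have h1 : D'.liftKaehlerDifferential ∘ₗ e.toLinearMap = l := by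
      apply TensorProduct.AlgebraTensorModule.curry_injective
      ext x
      simp [l, e]
      exact hD' x
    have h2 : D'.liftKaehlerDifferential = l ∘ₗ e.symm.toLinearMap := by
      rw [← h1, LinearMap.comp_assoc, LinearEquiv.comp_symm, LinearMap.comp_id]
    ext c
    rw [← h2]
    exact (D'.liftKaehlerDifferential_comp_D c).symm

variable (k B) in
theorem finite_omega [Algebra.FiniteType k B] : Module.Finite B Ω[B⁄k] := inferInstance

theorem der_loc_inj [Algebra.FiniteType k B] (g : B) [IsLocalization.Away g C] (D : Derivation k B B)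
    (hD : ∀ b, algebraMap B C (D b) = 0) : ∃ n : ℕ, g ^ n • D = 0 := by
  have h := Module.Finite.exists_smul_of_comp_eq_of_isLocalizedModule (Submonoid.powers g)
    (Algebra.linearMap B C) D.liftKaehlerDifferential 0 (by
      rw [LinearMap.comp_zero]
      apply Derivation.liftKaehlerDifferential_unique
      ext b
      simp [hD])
  obtain ⟨⟨_, n, rfl⟩, hn⟩ := h
  refine ⟨n, ?_⟩
  ext b
  have h1 := LinearMap.congr_fun hn (KaehlerDifferential.D k B b)
  rw [smul_zero] at h1
  have h2 : (g ^ n) • D.liftKaehlerDifferential (KaehlerDifferential.D k B b) = 0 := h1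
  rwa [Derivation.liftKaehlerDifferential_comp_D] at h2

theorem der_loc_surj [IsNoetherianRing B] [Algebra.FiniteType k B] (g : B) [IsLocalization.Away g C]
    (D' : Derivation k C C) : ∃ (n : ℕ) (D : Derivation k B B),
      ∀ b, algebraMap B C (D b) = algebraMap B C (g ^ n) * D' (algebraMap B C b) := by
  have hfp : Module.FinitePresentation B Ω[B⁄k] :=
    Module.finitePresentation_of_finite B Ω[B⁄k]
  obtain ⟨h, ⟨_, n, rfl⟩, hn⟩ := Module.FinitePresentation.exists_lift_of_isLocalizedModule (Submonoid.powers g)
    (Algebra.linearMap B C) (D'.liftKaehlerDifferential.restrictScalars B ∘ₗ KaehlerDifferential.map k k B C)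
  refine ⟨n, h.compDer (KaehlerDifferential.D k B), fun b => ?_⟩
  have h1 := LinearMap.congr_fun hn (KaehlerDifferential.D k B b)
  change algebraMap B C (h (KaehlerDifferential.D k B b)) =
    (g ^ n) • D'.liftKaehlerDifferential (KaehlerDifferential.map k k B C (KaehlerDifferential.D k B b)) at h1
  rw [KaehlerDifferential.map_D, Derivation.liftKaehlerDifferential_comp_D, Algebra.smul_def] at h1
  exact h1

theorem finite_der [IsNoetherianRing B] [Algebra.FiniteType k B] : Module.Finite B (Derivation k B B) :=
  Module.Finite.equiv (KaehlerDifferential.linearMapEquivDerivation k B)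

end Alg

section Geo

variable {X : Scheme.{u}}

theorem etale_res {V W : X.Opens} (hV : IsAffineOpen V) (hW : IsAffineOpen W) (h : W ≤ V) :
    (X.presheaf.map (homOfLE h).op).hom.Etale := by
  have h1 : ((𝟙 X : X ⟶ X).appLE V W h).hom.Etale :=
    HasRingHomProperty.appLE @Etale (𝟙 X) inferInstance ⟨V, hV⟩ ⟨W, hW⟩ h
  have h2 : (𝟙 X : X ⟶ X).appLE V W h = X.presheaf.map (homOfLE h).op := by
    simp [Scheme.Hom.appLE]
    exact Category.id_comp _
  rwa [h2] at h1

variable {k : Type u} [CommRing k] (x : X ⟶ Spec (CommRingCat.of k))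

/-- `Γ(X, W)` as an algebra over `Γ(X, V)`. -/
noncomputable abbrev secAlg {V W : X.Opens} (h : W ≤ V) : Algebra (Sec x V) (Sec x W) :=
  (res x h).toRingHom.toAlgebra

theorem secTower {V W : X.Opens} (h : W ≤ V) :
    letI := secAlg x h
    IsScalarTower k (Sec x V) (Sec x W) :=
  letI := secAlg x h
  IsScalarTower.of_algebraMap_eq fun c => ((res x h).commutes c).symm

theorem secEtale {V W : X.Opens} (hV : IsAffineOpen V) (hW : IsAffineOpen W) (h : W ≤ V) :
    letI := secAlg x h
    Algebra.FormallyEtale (Sec x V) (Sec x W) :=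
  letI := secAlg x h
  haveI : Algebra.Etale (Sec x V) (Sec x W) := etale_res hV hW h
  inferInstance

theorem secAway {V : X.Opens} (hV : IsAffineOpen V) (g : Γ(X, V)) :
    letI := secAlg x (X.basicOpen_le g)
    IsLocalization.Away (show Sec x V from g) (Sec x (X.basicOpen g)) :=
  hV.isLocalization_basicOpen g

theorem finiteType_sec [LocallyOfFiniteType x] {V : X.Opens} (hV : IsAffineOpen V) :
    Algebra.FiniteType k (Sec x V) := by
  have h1 : (x.appLE ⊤ V le_top).hom.FiniteType :=
    HasRingHomProperty.appLE @LocallyOfFiniteType x inferInstance ⟨⊤, isAffineOpen_top _⟩ ⟨V, hV⟩ le_top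
  have h2 : (strHom x V).FiniteType := by
    have h3 : strHom x V = (x.appLE ⊤ V le_top).hom.comp (Scheme.ΓSpecIso (CommRingCat.of k)).inv.hom := rfl
    rw [h3]
    exact h1.comp (RingHom.FiniteType.of_surjective _
      (ConcreteCategory.bijective_of_isIso (Scheme.ΓSpecIso (CommRingCat.of k)).inv).2)
  exact h2

end Geo

end K565.SecEtale
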