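import Groth.Agent.SGA7.K565.AffRel
import Groth.Agent.SGA7.K565.SecEtale

/-!
# The sheaf of derivations of a scheme of finite type over a field, by its values on affine opens
-/

set_option autoImplicit false
universe u

open CategoryTheory AlgebraicGeometry K565.TOneDef K565.SecEtale
open Groth.Agent.Sga67.Sec (resO)

namespace K565.DerRel

variable {k : Type u} [Field k] {X : Scheme.{u}} (x : X ⟶ Spec (CommRingCat.of k))

/-- Derivations of `Γ(X, V)`. -/
abbrev Dr (V : X.Opens) : Type u := Derivation k (Sec x V) (Sec x V)

noncomputable instance (V : X.Opens) : Module Γ(X, V) (Dr x V) := inferInstanceAs (Module (Sec x V) (Dr x V))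

theorem smul_apply {V : X.Opens} (b : Γ(X, V)) (D : Dr x V) (c : Sec x V) :
    (b • D) c = (show Sec x V from b) * D c := rfl

/-- Compatibility of derivations with restriction. -/
def R {V W : X.Opens} (h : W ≤ V) (D : Dr x V) (D' : Dr x W) : Prop := ∀ b, D' (res x h b) = res x h (D b)

variable {x} in
theorem res_self {V : X.Opens} (h : V ≤ V) (b : Sec x V) : res x h b = b := by
  rw [res_apply]
  change (X.presheaf.map (𝟙 _)).hom b = b
  rw [X.presheaf.map_id]
  rfl

theorem exu {V W : X.Opens} (hV : IsAffineOpen V) (hW : IsAffineOpen W) (h : W ≤ V) (D : Dr x V) :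
    ∃! D' : Dr x W, R x h D D' := by
  let _ := secAlg x h
  have _ := secTower x h
  have _ := secEtale x hV hW h
  obtain ⟨D', h1, h2⟩ := exu_der (k := k) (B := Sec x V) (C := Sec x W) (M := Sec x W)
    ((Algebra.linearMap (Sec x V) (Sec x W)).compDer D)
  exact ⟨D', h1, fun D'' h3 => h2 D'' h3⟩

/-- The derivations on the affine opens of a scheme of finite type over a field. -/
noncomputable def rel [LocallyOfFiniteType x] : AffRel X where
  M V := Dr x V.1
  R h D D' := R x h D D'
  R_add h _ _ _ _ e e' b := by
    rw [Derivation.add_apply, Derivation.add_apply, map_add, e b, e' b]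
  R_smul h b _ _ e c := by
    rw [smul_apply, smul_apply, map_mul, e c]
    rfl
  R_self {V t s} := by
    constructor
    · intro h
      ext b
      have := h b
      rw [res_self, res_self] at this
      exact this.symm
    · rintro rfl b
      rw [res_self, res_self]
  R_trans h h' _ _ _ e e' b := by
    rw [← res_res x h h', e', e, res_res]
  exu {V W} h D := exu x V.2 W.2 h D
  loc_inj V g D hD := by
    let _ := secAlg x (X.basicOpen_le g)
    have _ := secTower x (X.basicOpen_le g)
    have _ := secAway x V.2 g
    have _ := finiteType_sec x V.2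
    obtain ⟨n, hn⟩ := der_loc_inj (k := k) (B := Sec x V.1) (C := Sec x (X.basicOpen g)) g D
      (fun b => (hD b).symm)
    exact ⟨n, hn⟩
  loc_surj V g D' := by
    change Dr x (X.basicOpen g) at D'
    let _ := secAlg x (X.basicOpen_le g)
    have _ := secTower x (X.basicOpen_le g)
    have _ := secAway x V.2 g
    have _ := finiteType_sec x V.2
    have _ : IsNoetherianRing (Sec x V.1) := Algebra.FiniteType.isNoetherianRing k _
    obtain ⟨n, D, hD⟩ := der_loc_surj (k := k) (B := Sec x V.1) (C := Sec x (X.basicOpen g)) g D'
    exact ⟨n, D, fun b => (hD b).symm⟩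

theorem finite_M [LocallyOfFiniteType x] (V : X.affineOpens) : Module.Finite Γ(X, V.1) ((rel x).M V) := by
  have _ := finiteType_sec x V.2
  have _ : IsNoetherianRing (Sec x V.1) := Algebra.FiniteType.isNoetherianRing k _
  exact finite_der (k := k) (B := Sec x V.1)

end K565.DerRel
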