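import Groth.Prelude.Def_NonAbH2
import Mathlib.AlgebraicGeometry.Sites.Fpqc

/-!
# Descent of morphisms along fppf-locally split morphisms over `S`
-/

set_option autoImplicit false

universe u

open CategoryTheory CategoryTheory.Limits MonoidalCategory CartesianMonoidalCategory MonObj AlgebraicGeometry

namespace K565.FppfDesc

variable {S : Scheme.{u}}

/-- `w` has sections fppf-locally on the target. -/
def LocSplit {E P : Over S} (w : E ⟶ P) : Prop :=
  Sieve.generate (Presieve.singleton w.left) ∈ Scheme.fppfTopology.{u} P.left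

theorem locSplit_of_isLocallyTrivialFor {E P : Over S} (w : E ⟶ P)
    (h : NonAbH1.IsLocallyTrivialFor Scheme.fppfPrecoverage (Over.mk w.left : Over P.left)) : LocSplit w := by
  obtain ⟨R, hR, hs⟩ := h
  refine Scheme.fppfTopology.superset_covering ?_ (Precoverage.generate_mem_toGrothendieck hR)
  rw [Sieve.generate_le_iff]
  intro Y f hf
  obtain ⟨s, hs⟩ := hs f hf
  exact ⟨E.left, s, w.left, Presieve.singleton.mk, hs⟩

/-- Base change. -/
theorem LocSplit.of_lift {E P E₁ P₁ : Over S} {w : E ⟶ P} (hw : LocSplit w) (w₁ : E₁ ⟶ P₁) (g : P₁ ⟶ P)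
    (H : ∀ (T : Over S) (a : T ⟶ P₁) (b : T ⟶ E), a ≫ g = b ≫ w → ∃ c : T ⟶ E₁, c ≫ w₁ = a) : LocSplit w₁ := by
  refine Scheme.fppfTopology.superset_covering ?_ (Scheme.fppfTopology.pullback_stable g.left hw)
  rintro Z a ⟨Y, b, c, ⟨⟩, hbc⟩
  let T : Over S := Over.mk (a ≫ P₁.hom)
  let a' : T ⟶ P₁ := Over.homMk a rfl
  let b' : T ⟶ E := Over.homMk b (by
    have h1 : w.left ≫ P.hom = E.hom := Over.w w
    have h2 : g.left ≫ P.hom = P₁.hom := Over.w g
    change b ≫ E.hom = a ≫ P₁.hom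
    rw [← h1, ← h2, ← Category.assoc, hbc, Category.assoc])
  obtain ⟨c, hc⟩ := H T a' b' (by
    apply Over.OverMorphism.ext
    exact hbc.symm)
  refine ⟨E₁.left, c.left, w₁.left, Presieve.singleton.mk, ?_⟩
  exact congrArg CommaMorphism.left hc

theorem LocSplit.comp {E P Q : Over S} {w : E ⟶ P} {w' : P ⟶ Q} (hw : LocSplit w) (hw' : LocSplit w') :
    LocSplit (w ≫ w') := by
  refine Scheme.fppfTopology.transitive hw' _ ?_
  rintro Z f ⟨Y, b, c, ⟨⟩, rfl⟩
  have h1 : Sieve.generate (Presieve.singleton w.left) ≤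
      (Sieve.generate (Presieve.singleton (w ≫ w').left)).pullback w'.left := by
    rw [Sieve.generate_le_iff]
    rintro Y f ⟨⟩
    exact ⟨E.left, 𝟙 _, (w ≫ w').left, Presieve.singleton.mk, by rw [Category.id_comp]; rfl⟩
  rw [Sieve.pullback_comp]
  exact Scheme.fppfTopology.pullback_stable b (Scheme.fppfTopology.superset_covering h1 hw)

theorem sheafFor {E P : Over S} {w : E ⟶ P} (hw : LocSplit w) (Q : Scheme.{u}) :
    Presieve.IsSheafFor (yoneda.obj Q) (Presieve.singleton w.left) := by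
  rw [Presieve.isSheafFor_iff_generate]
  exact (GrothendieckTopology.Subcanonical.isSheaf_of_isRepresentable (J := Scheme.fppfTopology.{u})
    (yoneda.obj Q)) _ hw

theorem LocSplit.ext {E P Q : Over S} {w : E ⟶ P} (hw : LocSplit w) {c c' : P ⟶ Q} (h : w ≫ c = w ≫ c') :
    c = c' := by
  apply Over.OverMorphism.ext
  have h1 := Presieve.isSheafFor_singleton.1 (sheafFor hw Q.left) (w.left ≫ c.left) (by
    intro Z p₁ p₂ hp
    change p₁ ≫ w.left ≫ c.left = p₂ ≫ w.left ≫ c.left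
    rw [← Category.assoc, hp, Category.assoc])
  exact h1.unique rfl (congrArg CommaMorphism.left h).symm

theorem LocSplit.desc {E P Q : Over S} {w : E ⟶ P} (hw : LocSplit w) (h : E ⟶ Q)
    (hinv : ∀ (T : Over S) (x y : T ⟶ E), x ≫ w = y ≫ w → x ≫ h = y ≫ h) : ∃ c : P ⟶ Q, w ≫ c = h := by
  obtain ⟨y, hy, -⟩ := Presieve.isSheafFor_singleton.1 (sheafFor hw Q.left) h.left (by
    intro Z p₁ p₂ hp
    let T : Over S := Over.mk (p₁ ≫ E.hom)
    have h1 : w.left ≫ P.hom = E.hom := Over.w w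
    have h2 := hinv T (Over.homMk p₁ rfl) (Over.homMk p₂ (by
      change p₂ ≫ E.hom = p₁ ≫ E.hom
      rw [← h1, ← Category.assoc, ← hp, Category.assoc])) (Over.OverMorphism.ext hp)
    exact congrArg CommaMorphism.left h2)
  have hy' : w.left ≫ y = h.left := hy
  have h3 := Presieve.isSheafFor_singleton.1 (sheafFor hw S) (w.left ≫ P.hom) (by
    intro Z p₁ p₂ hp
    change p₁ ≫ w.left ≫ P.hom = p₂ ≫ w.left ≫ P.hom
    rw [← Category.assoc, hp, Category.assoc])
  have h4 : y ≫ Q.hom = P.hom := by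
    refine h3.unique ?_ rfl
    change w.left ≫ y ≫ Q.hom = w.left ≫ P.hom
    rw [← Category.assoc, hy', Over.w, Over.w]
  exact ⟨Over.homMk y h4, Over.OverMorphism.ext hy'⟩

theorem LocSplit.whiskerRight {E P : Over S} {w : E ⟶ P} (hw : LocSplit w) (Z : Over S) : LocSplit (w ▷ Z) := by
  refine hw.of_lift (w ▷ Z) (fst P Z) ?_
  intro T a b hab
  refine ⟨lift b (a ≫ snd P Z), ?_⟩
  apply CartesianMonoidalCategory.hom_ext
  · simp [hab]
  · simp

theorem LocSplit.whiskerLeft {E P : Over S} {w : E ⟶ P} (hw : LocSplit w) (Z : Over S) : LocSplit (Z ◁ w) := by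
  refine hw.of_lift (Z ◁ w) (snd Z P) ?_
  intro T a b hab
  refine ⟨lift (a ≫ fst Z P) b, ?_⟩
  apply CartesianMonoidalCategory.hom_ext
  · simp
  · simp [hab]

theorem LocSplit.tensor {E P E' P' : Over S} {w : E ⟶ P} (hw : LocSplit w) {w' : E' ⟶ P'} (hw' : LocSplit w') :
    LocSplit (w ⊗ₘ w') := by
  rw [MonoidalCategory.tensorHom_def]
  exact (hw.whiskerRight E').comp (hw'.whiskerLeft P)

end K565.FppfDesc
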