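import Groth.Agent.Old.H23.PushMap
import Groth.Agent.S0431
import Groth.Agent.FlatB.PushSpec
import Groth.Agent.Ega43.NilpotentFlat

/-!
# Glueing over a fibre product of rings: pushouts of thickenings
-/

set_option autoImplicit false

universe u

open CategoryTheory CategoryTheory.Limits AlgebraicGeometry TopologicalSpace
open Groth.Agent.FlatB.PushPair Groth.Agent.FlatB.PushGlue

namespace K565.Glue

/-- Adapted pairs exist for thickenings. -/
theorem exists_pair_of_thickening {X Y Z : Scheme.{u}} (i : Z ⟶ X) (j : Z ⟶ Y) [IsClosedImmersion i]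
    (hi : Function.Surjective i) [IsAffineHom j] (y : Y) : ∃ P : Pair i j, y ∈ P.V := by
  obtain ⟨V, hV, hyV, -⟩ := exists_isAffineOpen_mem_and_subset (U := ⊤) (x := y) trivial
  let e : Z ≃ₜ X := i.isClosedEmbedding.toHomeomorph.trans
    ((Homeomorph.setCongr hi.range_eq).trans (Homeomorph.Set.univ _))
  have he : ∀ x, e x = i x := fun x => rfl
  let U : X.Opens := ⟨e.symm ⁻¹' (j ⁻¹ᵁ V : Set Z), (j ⁻¹ᵁ V).isOpen.preimage e.symm.continuous⟩
  have hU : i ⁻¹ᵁ U = j ⁻¹ᵁ V := by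
    ext x
    change e.symm (i x) ∈ (j ⁻¹ᵁ V : Set Z) ↔ _
    rw [← he, e.symm_apply_apply]
  have hUaff : IsAffineOpen U := by
    have : IsAffine (i ⁻¹ᵁ U).toScheme := by rw [hU]; exact hV.preimage j
    apply Groth.Agent.S0440.result (i ∣_ U)
    have : Surjective i := ⟨hi⟩
    exact (IsZariskiLocalAtTarget.restrict (P := @Surjective) this U).surj
  exact ⟨⟨U, V, _, hUaff, hV, hU, rfl⟩, hyV⟩

/-- Functorial glueing: `i` a thickening, `j` affine, `W` the pushout; given `X'`, `Y'`, `Z'` over `X`, `Y`, `Z` with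
cartesian squares, the pushout `W'` of `X'` and `Y'` along `Z'` exists, and `X'`, `Y'` are its base changes. -/
theorem exists_glue {X Y Z X' Y' Z' W : Scheme.{u}} (i : Z ⟶ X) (j : Z ⟶ Y) [IsClosedImmersion i]
    (hi : Function.Surjective i) [IsAffineHom j] (i' : Z' ⟶ X') (j' : Z' ⟶ Y') (f : X' ⟶ X) (g : Y' ⟶ Y) (h : Z' ⟶ Z)
    (hX : IsPullback h i' i f) (hY : IsPullback h j' j g) (a : X ⟶ W) (b : Y ⟶ W) (hW : IsPushout i j a b) :
    ∃ (W' : Scheme.{u}) (a' : X' ⟶ W') (b' : Y' ⟶ W') (k : W' ⟶ W), IsPushout i' j' a' b' ∧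
      IsPullback a' f k a ∧ IsPullback b' g k b := by
  have hi' : IsClosedImmersion i' := MorphismProperty.of_isPullback hX inferInstance
  have hj' : IsAffineHom j' := MorphismProperty.of_isPullback hY inferInstance
  have hsi : Surjective i := ⟨hi⟩
  have hsi' : Surjective i' := MorphismProperty.of_isPullback hX hsi
  have H : ∀ y : Y, ∃ P : Pair i j, y ∈ P.V := exists_pair_of_thickening i j hi
  have H' : ∀ y : Y', ∃ P : Pair i' j', y ∈ P.V := exists_pair_of_thickening i' j' hsi'.surj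
  obtain ⟨a₀, ha₀⟩ := exists_a H
  obtain ⟨b₀, hb₀⟩ := exists_b H
  obtain ⟨a', ha'⟩ := exists_a H'
  obtain ⟨b', hb'⟩ := exists_b H'
  have hpo := isPushout H a₀ b₀ ha₀ hb₀
  have hpo' := isPushout H' a' b' ha' hb'
  obtain ⟨k, hk1, hk2⟩ := exists_desc H' a' b' ha' hb' (f ≫ a₀) (g ≫ b₀)
    (by rw [← Category.assoc, ← hX.w, Category.assoc, hpo.w, ← Category.assoc, hY.w,
      Category.assoc])
  have p1 := Groth.Agent.Old.H23.PushMap.isPullback_a_k hX hY H H' a₀ b₀ ha₀ hb₀ a' b' ha' hb' k hk1 hk2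
  have p2 := Groth.Agent.Old.H23.PushMap.isPullback_b_k hX hY H H' a₀ b₀ ha₀ hb₀ a' b' ha' hb' k hk1 hk2
  let e : Po i j ≅ W := hpo.isoIsPushout _ _ hW
  have he1 : a₀ ≫ e.hom = a := hpo.inl_isoIsPushout_hom _ _ hW
  have he2 : b₀ ≫ e.hom = b := hpo.inr_isoIsPushout_hom _ _ hW
  refine ⟨Po i' j', a', b', k ≫ e.hom, hpo', ?_, ?_⟩
  · refine IsPullback.of_iso p1 (Iso.refl _) (Iso.refl _) (Iso.refl _) e (by simp) (by simp) (by simp) ?_
    rw [← he1]; simp
  · refine IsPullback.of_iso p2 (Iso.refl _) (Iso.refl _) (Iso.refl _) e (by simp) (by simp) (by simp) ?_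
    rw [← he2]; simp

end K565.Glue
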