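import Mathlib.AlgebraicGeometry.Cover.Directed
import Mathlib.AlgebraicGeometry.AffineScheme

/-!
# Morphisms of schemes from compatible ring maps on affine opens

`mor c hc θ hθ : Z ⟶ Y` for ring maps `θ U : Γ(Y, c U) → Γ(Z, U)`, `U` affine open in `Z`, `c U` affine open in `Y`.
-/

set_option autoImplicit false
universe u

open CategoryTheory CategoryTheory.Limits AlgebraicGeometry TopologicalSpace Opposite

namespace K565.GlueMor

variable {Z Y : Scheme.{u}} (c : Z.affineOpens → Y.affineOpens) (hc : ∀ U V, U.1 ≤ V.1 → (c U).1 ≤ (c V).1)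
  (θ : ∀ U : Z.affineOpens, Γ(Y, (c U).1) ⟶ Γ(Z, U.1))
  (hθ : ∀ (U V : Z.affineOpens) (h : U.1 ≤ V.1),
    θ V ≫ Z.presheaf.map (homOfLE h).op = Y.presheaf.map (homOfLE (hc U V h)).op ≫ θ U)

/-- The morphism on an affine open. -/
noncomputable def loc (U : Z.affineOpens) : U.1.toScheme ⟶ Y :=
  U.1.toSpecΓ ≫ Spec.map (θ U) ≫ (c U).2.fromSpec

include hc hθ in
theorem homOfLE_loc (U V : Z.affineOpens) (h : U.1 ≤ V.1) : Z.homOfLE h ≫ loc c θ V = loc c θ U := by
  unfold loc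
  rw [← Scheme.Opens.toSpecΓ_SpecMap_presheaf_map_assoc U.1 V.1 h, ← Spec.map_comp_assoc, hθ U V h,
    Spec.map_comp_assoc, IsAffineOpen.map_fromSpec]

/-- The glued morphism. -/
noncomputable def mor : Z ⟶ Y :=
  Z.directedAffineCover.glueMorphismsOfLocallyDirected (fun U => loc c θ U)
    (fun {U V} hij => homOfLE_loc c hc θ hθ U V (leOfHom hij))

theorem ι_mor (U : Z.affineOpens) : U.1.ι ≫ mor c hc θ hθ = U.1.toSpecΓ ≫ Spec.map (θ U) ≫ (c U).2.fromSpec :=
  Z.directedAffineCover.map_glueMorphismsOfLocallyDirected (fun U => loc c θ U)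
    (fun {U V} hij => homOfLE_loc c hc θ hθ U V (leOfHom hij)) U

/-- Equality of morphisms on the affine opens. -/
theorem hom_ext {f g : Z ⟶ Y} (h : ∀ U : Z.affineOpens, U.1.ι ≫ f = U.1.ι ≫ g) : f = g :=
  Z.directedAffineCover.hom_ext _ _ h

end K565.GlueMor
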