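import Groth.Agent.SGA7.K565.LocTriv
import Groth.Agent.SGA7.K565.AffRelFin

/-!
# The class in `H¹` of a locally trivial first-order deformation
-/

set_option autoImplicit false
universe u

open CategoryTheory CategoryTheory.Limits AlgebraicGeometry ArtFun ArtFun.Art TopologicalSpace Opposite
open K565.TOneDef K565.DefOpens K565.DefTan K565.DefTan2 K565.SecEtale K565.DerRel K565.LocTriv
open Groth.Agent.CurvesA.Torsor Groth.Agent.CurvesA.TorsorCls Groth.Agent.CurvesA.TorsorOps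

namespace K565.H1Cls

variable {Λ k : Type u} [CommRing Λ] [Field k] [Algebra Λ k] {X : Scheme.{u}} {x : X ⟶ specPt k}
  [LocallyOfFiniteType x]

section Diff

variable (ξ : DefSch (Λ := Λ) X x (dual Λ k))

/-- The family of differences. -/
noncomputable def df {U : X.Opens} (s s' : P0 ξ inl U) : (rel x).fam U :=
  ⟨fun V => dd ξ V.1.2 (s.2.1 V) (s'.2.1 V), fun V W h b => by
    apply inc_injective ξ W.1.2
    rw [inc_dd, s.2.2 V W h, s'.2.2 V W h, ← map_sub, ← inc_dd ξ V.1.2 (s.2.1 V) (s'.2.1 V), rs_inc ξ V.1.2 W.1.2]⟩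

theorem inc_df {U : X.Opens} (s s' : P0 ξ inl U) (V : AffRel.Below U) (b : Sec x V.1.1) :
    inc ξ V.1.2 ((show Dr x V.1.1 from (df ξ s s').1 V) b) = s.1 V b - s'.1 V b :=
  inc_dd ξ V.1.2 (s.2.1 V) (s'.2.1 V) b

theorem df_ext {U : X.Opens} (s s' : P0 ξ inl U) {t : (rel x).fam U}
    (h : ∀ (V : AffRel.Below U) (b : Sec x V.1.1), inc ξ V.1.2 ((show Dr x V.1.1 from t.1 V) b) = s.1 V b - s'.1 V b) :
    df ξ s s' = t := by
  refine Subtype.ext (funext fun V => ?_)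
  refine Derivation.ext fun b => inc_injective ξ V.1.2 ?_
  exact (inc_df ξ s s' V b).trans (h V b).symm

/-- The difference map. -/
noncomputable def D : DiffMap (Coh.toAb (rel x).sh).obj (P ξ inl) where
  d U s s' := (rel x).toSh U.unop (df ξ s s')
  d_add U p q r := by
    change (rel x).toSh U.unop _ + (rel x).toSh U.unop _ = _
    rw [← map_add]
    congr 1
    refine (df_ext ξ _ _ fun V b => ?_).symm
    change inc ξ V.1.2 ((show Dr x V.1.1 from (df ξ p q).1 V) b + (show Dr x V.1.1 from (df ξ q r).1 V) b) = _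
    rw [map_add, inc_df, inc_df]
    ring
  d_map {U V} f p q := ((rel x).toSh_res f.unop.le (df ξ p q)).symm

theorem D_d (U : (Opens X)ᵒᵖ) (s s' : (P ξ inl).obj U) : (D ξ).d U s s' = (rel x).toSh U.unop (df ξ s s') := rfl

end Diff

/-- The terminal open. -/
noncomputable def hT (X : Scheme.{u}) : IsTerminal (⊤ : Opens X) := IsTerminal.ofUniqueHom (fun _ => homOfLE le_top) (fun _ _ => rfl)

/-- The class of a locally trivial deformation. -/
noncomputable def c1 (ξ : DefSch (Λ := Λ) X x (dual Λ k)) (h : LT ξ inl) : Coh.HH X (rel x).sh 1 :=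
  clsOf (hT X) (Coh.toAb (rel x).sh) (D ξ) (supp_mem ξ inl h ⊤)

section Mor

variable {A B : Art Λ k} {η : DefSch (Λ := Λ) X x A} {g : A ⟶ B} {ξ : DefSch (Λ := Λ) X x B} (m : Mor η g ξ)
  {σ : k →+* A} {τ : k →+* B} (hg : ∀ c, g (σ c) = τ c)

omit [LocallyOfFiniteType x] in
include hg in
theorem isSect_comp {V : X.Opens} {s : Sec x V →+* Up η V} (hs : IsSect η σ V s) :
    IsSect ξ τ V ((m.tm V).comp s) :=
  ⟨fun b => (m.pr_tm V _).trans (hs.pr b), fun c => by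
    rw [RingHom.comp_apply, hs.al, m.tm_al, hg]⟩

/-- The map on sections. -/
noncomputable def al' {U : X.Opens} (s : P0 η σ U) : P0 ξ τ U :=
  ⟨fun V => (m.tm V.1.1).comp (s.1 V), fun V => isSect_comp m hg (s.2.1 V), fun V W h b => by
    rw [RingHom.comp_apply, RingHom.comp_apply, s.2.2 V W h, m.tm_rs]⟩

end Mor

section Scal

variable {η ξ : DefSch (Λ := Λ) X x (dual Λ k)} {g : dual Λ k ⟶ dual Λ k} (m : Mor η g ξ)

omit [LocallyOfFiniteType x] in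
include m in
theorem lt_of_mor (hg : ∀ c : k, g (inl c) = inl c) (h : LT η inl) : LT ξ inl := fun V hV => by
  obtain ⟨s, hs⟩ := h V hV
  exact ⟨_, isSect_comp m hg hs⟩

theorem smul_val {U : X.Opens} (c : k) (t : (rel x).fam U) (V : AffRel.Below U) (b : Sec x V.1.1) :
    (show Dr x V.1.1 from ((show Γ(X, U) from strHom x U c) • t).1 V) b =
      algebraMap k (Sec x V.1.1) c * (show Dr x V.1.1 from t.1 V) b := by
  have h1 : Groth.Agent.Sga67.Sec.resO X V.2 (strHom x U c) = strHom x V.1.1 c :=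
    DFunLike.congr_fun (strHom_res x V.2) c
  change (show Dr x V.1.1 from Groth.Agent.Sga67.Sec.resO X V.2 (strHom x U c) • t.1 V) b = _
  rw [h1]
  rfl

theorem smul_fam {U : X.Opens} (c : k) (t : (rel x).fam U) :
    (Coh.smulAb (rel x).sh (Coh.toGlobal x c)).hom.app (op U) ((rel x).toSh U t) =
      (rel x).toSh U ((show Γ(X, U) from strHom x U c) • t) := by
  rw [map_smul, ← K565.AffRel.resO_strHom x (V := U) c, K565.AffRel.strHom_top]
  rfl

include m in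
theorem c1_smul (hg : ∀ c : k, g (inl c) = inl c) (c : k) (hc : g eps = eps * inl c) (h : LT η inl)
    (h' : LT ξ inl) :
    c1 ξ h' = Sheaf.H.map (Coh.smulAb (rel x).sh (Coh.toGlobal x c)) 1 (c1 η h) := by
  unfold c1
  rw [map_clsOf]
  refine (clsOf_congr (hT X) (D ξ) (pushD (Coh.smulAb (rel x).sh (Coh.toGlobal x c)).hom (D η))
    (fun U s => al' m hg s) (fun f p => rfl) (fun U p q => ?_) _ _).symm
  refine (smul_fam c (df η p q)).trans ?_
  refine Eq.trans ?_ (D_d ξ U (al' m hg p) (al' m hg q)).symm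
  congr 1
  refine (df_ext ξ _ _ fun V b => ?_).symm
  change inc ξ V.1.2 _ = m.tm V.1.1 (p.1 V b) - m.tm V.1.1 (q.1 V b)
  rw [← map_sub, ← inc_df η p q V b, tm_inc m V.1.2 c hc]
  congr 1
  exact smul_val c (df η p q) V b

end Scal

section Add

variable {η : DefSch (Λ := Λ) X x (dual2 Λ k)} {ξ₁ ξ₂ ξ₃ : DefSch (Λ := Λ) X x (dual Λ k)}
  (m₁ : Mor η pr₁ ξ₁) (m₂ : Mor η pr₂ ξ₂) (m₃ : Mor η plus ξ₃)

/-- The two generators of the maximal ideal. -/
def e1 : dual2 Λ k := (TrivSqZeroExt.inr (1, 0) : TrivSqZeroExt k (k × k))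

/-- The two generators of the maximal ideal. -/
def e2 : dual2 Λ k := (TrivSqZeroExt.inr (0, 1) : TrivSqZeroExt k (k × k))

theorem mem_eq (w : dual2 Λ k) (hw : w ∈ IsLocalRing.maximalIdeal (dual2 Λ k)) :
    w = e1 * inl2 (w : TrivSqZeroExt k (k × k)).snd.1 + e2 * inl2 (w : TrivSqZeroExt k (k × k)).snd.2 := by
  have hw' : (w : TrivSqZeroExt k (k × k)).fst = 0 := (Art.mem_maximalIdeal_iff _ _).1 hw
  refine TrivSqZeroExt.ext ?_ ?_
  · rw [hw']
    change (0 : k) = 0 * _ + 0 * _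
    simp
  · change _ = ((0 : k) • (0 : k × k) + MulOpposite.op (w : TrivSqZeroExt k (k × k)).snd.1 • ((1, 0) : k × k)) +
      ((0 : k) • (0 : k × k) + MulOpposite.op (w : TrivSqZeroExt k (k × k)).snd.2 • ((0, 1) : k × k))
    ext <;> simp

theorem e1_mul (w : dual2 Λ k) (hw : w ∈ IsLocalRing.maximalIdeal (dual2 Λ k)) : (e1 : dual2 Λ k) * w = 0 := by
  have hw' : (w : TrivSqZeroExt k (k × k)).fst = 0 := (Art.mem_maximalIdeal_iff _ _).1 hw
  refine TrivSqZeroExt.ext ?_ ?_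
  · change (0 : k) * _ = 0
    rw [zero_mul]
  · change (0 : k) • (w : TrivSqZeroExt k (k × k)).snd + MulOpposite.op (w : TrivSqZeroExt k (k × k)).fst • ((1, 0) : k × k) = 0
    rw [hw']
    simp

theorem e2_mul (w : dual2 Λ k) (hw : w ∈ IsLocalRing.maximalIdeal (dual2 Λ k)) : (e2 : dual2 Λ k) * w = 0 := by
  have hw' : (w : TrivSqZeroExt k (k × k)).fst = 0 := (Art.mem_maximalIdeal_iff _ _).1 hw
  refine TrivSqZeroExt.ext ?_ ?_
  · change (0 : k) * _ = 0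
    rw [zero_mul]
  · change (0 : k) • (w : TrivSqZeroExt k (k × k)).snd + MulOpposite.op (w : TrivSqZeroExt k (k × k)).fst • ((0, 1) : k × k) = 0
    rw [hw']
    simp

omit [LocallyOfFiniteType x]

theorem exists_ker (η : DefSch (Λ := Λ) X x (dual2 Λ k)) {V : X.Opens} (hV : IsAffineOpen V) (d : Up η V)
    (hd : pr η V d = 0) : ∃ c₁ c₂, d = al η V e1 * c₁ + al η V e2 * c₂ := by
  rw [← RingHom.mem_ker, (surjective_and_ker η hV).2] at hd
  induction hd using Submodule.span_induction with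
  | mem d hd =>
    obtain ⟨w, hw, rfl⟩ := hd
    refine ⟨al η V (inl2 (w : TrivSqZeroExt k (k × k)).snd.1), al η V (inl2 (w : TrivSqZeroExt k (k × k)).snd.2), ?_⟩
    conv_lhs => rw [mem_eq w hw]
    rw [map_add, map_mul, map_mul]
  | zero => exact ⟨0, 0, by simp⟩
  | add d d' _ _ h h' =>
    obtain ⟨b₁, b₂, e₁⟩ := h
    obtain ⟨b₁', b₂', e₁'⟩ := h'
    exact ⟨b₁ + b₁', b₂ + b₂', by rw [e₁, e₁']; ring⟩
  | smul a d _ h =>
    obtain ⟨b₁, b₂, e₁⟩ := h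
    exact ⟨a * b₁, a * b₂, by rw [smul_eq_mul, e₁]; ring⟩

theorem e1_mul_eq {V : X.Opens} (hV : IsAffineOpen V) (d : Up η V) (hd : pr η V d = 0) :
    al η V e1 * d = 0 ∧ al η V e2 * d = 0 := by
  rw [← RingHom.mem_ker, (surjective_and_ker η hV).2] at hd
  induction hd using Submodule.span_induction with
  | mem d hd =>
    obtain ⟨w, hw, rfl⟩ := hd
    rw [← map_mul, ← map_mul, e1_mul w hw, e2_mul w hw, map_zero]
    exact ⟨rfl, rfl⟩
  | zero => simp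
  | add d d' _ _ h h' => exact ⟨by rw [mul_add, h.1, h'.1, add_zero], by rw [mul_add, h.2, h'.2, add_zero]⟩
  | smul a d _ h => exact ⟨by rw [smul_eq_mul, mul_left_comm, h.1, mul_zero],
      by rw [smul_eq_mul, mul_left_comm, h.2, mul_zero]⟩

theorem tm_comb {V : X.Opens} (hV : IsAffineOpen V) (c₁ c₂ : Up η V) :
    m₁.tm V (al η V e1 * c₁ + al η V e2 * c₂) = inc ξ₁ hV (pr η V c₁) ∧
      m₂.tm V (al η V e1 * c₁ + al η V e2 * c₂) = inc ξ₂ hV (pr η V c₂) := by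
  have h11 : (pr₁ : dual2 Λ k ⟶ dual Λ k) e1 = eps := rfl
  have h12 : (pr₁ : dual2 Λ k ⟶ dual Λ k) e2 = 0 := TrivSqZeroExt.ext rfl rfl
  have h21 : (pr₂ : dual2 Λ k ⟶ dual Λ k) e1 = 0 := TrivSqZeroExt.ext rfl rfl
  have h22 : (pr₂ : dual2 Λ k ⟶ dual Λ k) e2 = eps := rfl
  constructor
  · rw [map_add, map_mul, map_mul, m₁.tm_al, m₁.tm_al, h11, h12, map_zero, zero_mul, add_zero, ← inc_pr ξ₁ hV,
      m₁.pr_tm]
  · rw [map_add, map_mul, map_mul, m₂.tm_al, m₂.tm_al, h21, h22, map_zero, zero_mul, zero_add, ← inc_pr ξ₂ hV,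
      m₂.pr_tm]

include m₁ m₂ in
theorem eq_zero_of {V : X.Opens} (hV : IsAffineOpen V) (d : Up η V) (h₁ : m₁.tm V d = 0) (h₂ : m₂.tm V d = 0) :
    d = 0 := by
  have hd : pr η V d = 0 := by rw [← m₁.pr_tm, h₁, map_zero]
  obtain ⟨c₁, c₂, rfl⟩ := exists_ker η hV d hd
  obtain ⟨e₁, e₂⟩ := tm_comb m₁ m₂ hV c₁ c₂
  rw [h₁, eq_comm, map_eq_zero_iff _ (inc_injective ξ₁ hV)] at e₁
  rw [h₂, eq_comm, map_eq_zero_iff _ (inc_injective ξ₂ hV)] at e₂
  rw [(e1_mul_eq hV c₁ e₁).1, (e1_mul_eq hV c₂ e₂).2, add_zero]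

include m₁ m₂ in
theorem exists_of {V : X.Opens} (hV : IsAffineOpen V) (d₁ : Up ξ₁ V) (d₂ : Up ξ₂ V) (h : pr ξ₁ V d₁ = pr ξ₂ V d₂) :
    ∃ d, m₁.tm V d = d₁ ∧ m₂.tm V d = d₂ := by
  obtain ⟨e, he⟩ := (surjective_and_ker η hV).1 (pr ξ₁ V d₁)
  obtain ⟨b₁, hb₁⟩ := exists_inc ξ₁ hV (e := d₁ - m₁.tm V e) (by rw [map_sub, m₁.pr_tm, he, sub_self])
  obtain ⟨b₂, hb₂⟩ := exists_inc ξ₂ hV (e := d₂ - m₂.tm V e) (by rw [map_sub, m₂.pr_tm, he, h, sub_self])
  obtain ⟨c₁, rfl⟩ := (surjective_and_ker η hV).1 b₁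
  obtain ⟨c₂, rfl⟩ := (surjective_and_ker η hV).1 b₂
  obtain ⟨e₁, e₂⟩ := tm_comb m₁ m₂ hV c₁ c₂
  refine ⟨(al η V e1 * c₁ + al η V e2 * c₂) + e, ?_, ?_⟩
  · rw [map_add, e₁, hb₁, sub_add_cancel]
  · rw [map_add, e₂, hb₂, sub_add_cancel]

include m₁ m₂ in
/-- Local triviality over `k[ε₁, ε₂]`. -/
theorem lt_of_lt (h₁ : LT ξ₁ inl) (h₂ : LT ξ₂ inl) : LT η inl2 := by
  intro V hV
  obtain ⟨s₁, hs₁⟩ := h₁ V hV
  obtain ⟨s₂, hs₂⟩ := h₂ V hV
  have hu : ∀ d d' : Up η V, m₁.tm V d = m₁.tm V d' → m₂.tm V d = m₂.tm V d' → d = d' := fun d d' e e' =>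
    sub_eq_zero.1 (eq_zero_of m₁ m₂ hV _ (by rw [map_sub, e, sub_self]) (by rw [map_sub, e', sub_self]))
  choose s hs hs' using fun b : Sec x V => exists_of m₁ m₂ hV (s₁ b) (s₂ b) (by rw [hs₁.pr, hs₂.pr])
  refine ⟨{ toFun := s
            map_one' := hu _ _ (by rw [hs, map_one, map_one]) (by rw [hs', map_one, map_one])
            map_zero' := hu _ _ (by rw [hs, map_zero, map_zero]) (by rw [hs', map_zero, map_zero])
            map_add' := fun a b => hu _ _ (by rw [hs, map_add, map_add, hs, hs]) (by rw [hs', map_add, map_add, hs', hs'])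
            map_mul' := fun a b => hu _ _ (by rw [hs, map_mul, map_mul, hs, hs]) (by rw [hs', map_mul, map_mul, hs', hs']) },
    ⟨fun b => ?_, fun c => ?_⟩⟩
  · change pr η V (s b) = b
    rw [← m₁.pr_tm, hs, hs₁.pr]
  · refine hu _ _ ?_ ?_
    · change m₁.tm V (s _) = _
      rw [hs, hs₁.al, m₁.tm_al]
      rfl
    · change m₂.tm V (s _) = _
      rw [hs', hs₂.al, m₂.tm_al]
      rfl

end Add

section Add'

variable {η : DefSch (Λ := Λ) X x (dual2 Λ k)} {ξ₁ ξ₂ ξ₃ : DefSch (Λ := Λ) X x (dual Λ k)}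
  (m₁ : Mor η pr₁ ξ₁) (m₂ : Mor η pr₂ ξ₂) (m₃ : Mor η plus ξ₃)

theorem plus_inl2 (c : k) : (plus : dual2 Λ k ⟶ dual Λ k) (inl2 c) = inl c := TrivSqZeroExt.ext rfl (by
  change (0 : k) + 0 = 0
  rw [add_zero])

/-- The sum of the difference maps. -/
noncomputable def D2 : DiffMap (Coh.toAb (rel x).sh).obj (P η inl2) where
  d U s s' := (D ξ₁).d U (al' m₁ (τ := inl) (fun _ => rfl) s) (al' m₁ (fun _ => rfl) s') +
    (D ξ₂).d U (al' m₂ (τ := inl) (fun _ => rfl) s) (al' m₂ (fun _ => rfl) s')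
  d_add U p q r := by
    have e₁ := (D ξ₁).d_add U (al' m₁ (fun _ => rfl) p) (al' m₁ (fun _ => rfl) q) (al' m₁ (fun _ => rfl) r)
    have e₂ := (D ξ₂).d_add U (al' m₂ (fun _ => rfl) p) (al' m₂ (fun _ => rfl) q) (al' m₂ (fun _ => rfl) r)
    rw [← e₁, ← e₂]
    abel
  d_map {U V} f p q := by
    rw [map_add, (D ξ₁).d_map, (D ξ₂).d_map]
    rfl

include m₁ m₂ m₃ in
theorem c1_add (h₁ : LT ξ₁ inl) (h₂ : LT ξ₂ inl) (h₃ : LT ξ₃ inl) : c1 ξ₃ h₃ = c1 ξ₁ h₁ + c1 ξ₂ h₂ := by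
  have hη := lt_of_lt m₁ m₂ h₁ h₂
  unfold c1
  rw [← clsOf_add (hT X) (D2 m₁ m₂) (D ξ₁) (D ξ₂) (fun U s => al' m₁ (τ := inl) (fun _ => rfl) s)
    (fun U s => al' m₂ (τ := inl) (fun _ => rfl) s) (fun f p => rfl) (fun f p => rfl) (fun U p q => rfl)
    (supp_mem η inl2 hη ⊤)]
  refine (clsOf_congr (hT X) (D ξ₃) (D2 m₁ m₂) (fun U s => al' m₃ (τ := inl) plus_inl2 s)
    (fun f p => rfl) (fun U p q => ?_) _ _).symm
  change (rel x).toSh U.unop _ + (rel x).toSh U.unop _ = (rel x).toSh U.unop _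
  rw [← map_add]
  congr 1
  refine (df_ext ξ₃ _ _ fun V b => ?_).symm
  obtain ⟨b₁, b₂, e₁, e₂, e₃⟩ := exists_add m₁ m₂ m₃ V.1.2 (p.1 V b - q.1 V b) (by
    rw [map_sub, (p.2.1 V).pr, (q.2.1 V).pr, sub_self])
  have f₁ := inc_df ξ₁ (al' m₁ (τ := inl) (fun _ => rfl) p) (al' m₁ (τ := inl) (fun _ => rfl) q) V b
  have f₂ := inc_df ξ₂ (al' m₂ (τ := inl) (fun _ => rfl) p) (al' m₂ (τ := inl) (fun _ => rfl) q) V b
  have g₁ := inc_injective ξ₁ V.1.2 (f₁.trans (((m₁.tm V.1.1).map_sub _ _).symm.trans e₁))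
  have g₂ := inc_injective ξ₂ V.1.2 (f₂.trans (((m₂.tm V.1.1).map_sub _ _).symm.trans e₂))
  refine Eq.trans ?_ (e₃.symm.trans ((m₃.tm V.1.1).map_sub _ _))
  rw [← g₁, ← g₂]
  rfl

end Add'

end K565.H1Cls
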