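import Groth.Agent.SGA7.K565.H1Zero

/-!
# Locally trivial first-order deformations form a subspace of `H¹` of the derivations

`kerMap : ker tcl →ₗ[k] H¹(X, Der)` and its injectivity; for `x` proper, `finite_tangent`.
-/

set_option autoImplicit false
universe u

open CategoryTheory CategoryTheory.Limits AlgebraicGeometry ArtFun ArtFun.Art TopologicalSpace Opposite
open K565.TOneDef K565.DefOpens K565.DefTan K565.DefTan2 K565.SecEtale K565.DerRel K565.LocTriv K565.H1Cls K565.H1Zero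

namespace K565.H1Fin

variable {Λ k : Type u} [CommRing Λ] [Field k] [Algebra Λ k] {X : Scheme.{u}} {x : X ⟶ specPt k}

theorem finite_of_ker {k M N : Type*} [Field k] [AddCommGroup M] [Module k M] [AddCommMonoid N] [Module k N]
    (f : M →ₗ[k] N) (h1 : Module.Finite k (LinearMap.ker f)) (h2 : Module.Finite k N) : Module.Finite k M := by
  let _ : AddCommGroup N := Module.addCommMonoidToAddCommGroup k
  have h3 : Module.Finite k (M ⧸ LinearMap.ker f) :=
    Module.Finite.of_injective ((LinearMap.ker f).liftQ f le_rfl)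
      (LinearMap.ker_eq_bot.1 (Submodule.ker_liftQ_eq_bot _ f le_rfl le_rfl))
  exact Module.Finite.of_submodule_quotient (LinearMap.ker f)

theorem lt_of_tcl [TangentStr (F (Λ := Λ) X x)] (ξ : DefSch (Λ := Λ) X x (dual Λ k))
    (h : tcl (Λ := Λ) (X := X) (x := x) ξ.cl = 0) : LT ξ inl := fun V hV => by
  obtain ⟨s, hs⟩ := DefTan2.exists_section ξ h hV
  exact ⟨s.toRingHom, hs, fun c => s.commutes c⟩

variable [LocallyOfFiniteType x]

theorem c1_iso {ξ ξ' : DefSch (Λ := Λ) X x (dual Λ k)} (h : LT ξ inl) (h' : LT ξ' inl) (e : ξ.cl = ξ'.cl) :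
    c1 ξ h = c1 ξ' h' := by
  obtain ⟨e⟩ := K565.DefCat.cl_eq_iff.1 e
  refine (c1_smul (Mor.ofIso e) (fun _ => rfl) 1 (by rw [map_one, mul_one]; rfl) h' h).trans ?_
  rw [map_one, Coh.smulAb_one, Sheaf.H.map_id_apply]

variable [TangentStr (F (Λ := Λ) X x)]

/-- The class on the kernel. -/
noncomputable def kc (z : TangentSpace (F (Λ := Λ) X x)) (h : tcl (Λ := Λ) (X := X) (x := x) z = 0) :
    Coh.HH X (rel x).sh 1 :=
  c1 (K565.DefCat.exists_rep z).choose (lt_of_tcl _ (by
    rw [(K565.DefCat.exists_rep z).choose_spec]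
    exact h))

theorem kc_eq (z : TangentSpace (F (Λ := Λ) X x)) (hz : tcl (Λ := Λ) (X := X) (x := x) z = 0)
    (ξ : DefSch (Λ := Λ) X x (dual Λ k)) (h : LT ξ inl) (e : ξ.cl = z) : kc z hz = c1 ξ h :=
  c1_iso _ _ ((K565.DefCat.exists_rep z).choose_spec.trans e.symm)

omit [LocallyOfFiniteType x] in
theorem lt_of_eq {z : TangentSpace (F (Λ := Λ) X x)} (hz : tcl (Λ := Λ) (X := X) (x := x) z = 0)
    {ξ : DefSch (Λ := Λ) X x (dual Λ k)} (e : ξ.cl = z) : LT ξ inl :=
  lt_of_tcl ξ (by rw [e]; exact hz)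

omit [LocallyOfFiniteType x] in
theorem cl_plus {a b : TangentSpace (F (Λ := Λ) X x)} {η : DefSch (Λ := Λ) X x (dual2 Λ k)}
    (h1 : (F (Λ := Λ) X x).map pr₁ η.cl = a) (h2 : (F (Λ := Λ) X x).map pr₂ η.cl = b) :
    (F (Λ := Λ) X x).map plus η.cl = a + b := by
  subst h1 h2
  exact (TangentStr.add_eq (F := F (Λ := Λ) X x) η.cl).symm

theorem kc_add (a b : TangentSpace (F (Λ := Λ) X x)) (ha : tcl (Λ := Λ) (X := X) (x := x) a = 0)
    (hb : tcl (Λ := Λ) (X := X) (x := x) b = 0) (hab : tcl (Λ := Λ) (X := X) (x := x) (a + b) = 0) :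
    kc (a + b) hab = kc a ha + kc b hb := by
  obtain ⟨z, h1, h2⟩ := exists_dual2 (Λ := Λ) (X := X) (x := x) a b
  obtain ⟨η, rfl⟩ := K565.DefCat.exists_rep z
  have e1 : (η.baseChange pr₁).cl = a := (defFunctor_map_cl pr₁ η).symm.trans h1
  have e2 : (η.baseChange pr₂).cl = b := (defFunctor_map_cl pr₂ η).symm.trans h2
  have e3 : (η.baseChange plus).cl = (show (F (Λ := Λ) X x).obj (dual Λ k) from a + b) :=
    (defFunctor_map_cl plus η).symm.trans (cl_plus h1 h2)
  have l1 := lt_of_eq ha e1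
  have l2 := lt_of_eq hb e2
  have l3 := lt_of_eq hab e3
  rw [kc_eq a ha _ l1 e1, kc_eq b hb _ l2 e2, kc_eq (a + b) hab _ l3 e3]
  exact c1_add (Mor.ofBC (K565.DefCat.BC.canonical η pr₁)) (Mor.ofBC (K565.DefCat.BC.canonical η pr₂))
    (Mor.ofBC (K565.DefCat.BC.canonical η plus)) l1 l2 l3

theorem kc_smul (c : k) (a : TangentSpace (F (Λ := Λ) X x)) (ha : tcl (Λ := Λ) (X := X) (x := x) a = 0)
    (hca : tcl (Λ := Λ) (X := X) (x := x) (c • a) = 0) :
    kc (c • a) hca = Sheaf.H.map (Coh.smulAb (rel x).sh (Coh.toGlobal x c)) 1 (kc a ha) := by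
  obtain ⟨η, hη⟩ := K565.DefCat.exists_rep a
  subst hη
  have e2 : (η.baseChange (scale c)).cl =
      (show (F (Λ := Λ) X x).obj (dual Λ k) from c • (show TangentSpace (F (Λ := Λ) X x) from η.cl)) :=
    (defFunctor_map_cl (scale c) η).symm.trans (TangentStr.smul_eq (F := F (Λ := Λ) X x) c η.cl).symm
  have l1 := lt_of_eq ha rfl
  have l2 := lt_of_eq hca e2
  rw [kc_eq _ ha _ l1 rfl, kc_eq _ hca _ l2 e2]
  exact c1_smul (Mor.ofBC (K565.DefCat.BC.canonical η (scale c))) (fun a => TrivSqZeroExt.ext rfl (by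
    change c * (0 : k) = 0
    rw [mul_zero])) c (by
      rw [eps_mul_inl]
      exact TrivSqZeroExt.ext rfl (by
        change c * (1 : k) = c
        rw [mul_one])) l1 l2

theorem kc_eq_zero (z : TangentSpace (F (Λ := Λ) X x)) (hz : tcl (Λ := Λ) (X := X) (x := x) z = 0)
    (h : kc z hz = 0) : z = 0 := by
  obtain ⟨ξ, hξ⟩ := K565.DefCat.exists_rep z
  have l1 := lt_of_eq hz hξ
  rw [kc_eq z hz ξ l1 hξ] at h
  obtain ⟨s⟩ := exists_global ξ l1 h
  exact hξ.symm.trans (cl_eq_zero ξ s)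

/-- The linear map to `H¹` of the derivations. -/
noncomputable def kcl :
    letI : X.Over (Spec (CommRingCat.of k)) := ⟨x⟩
    LinearMap.ker (tcl (Λ := Λ) (X := X) (x := x)) →ₗ[k] Coh.HH X (rel x).sh 1 :=
  letI : X.Over (Spec (CommRingCat.of k)) := ⟨x⟩
  { toFun := fun z => kc z.1 z.2
    map_add' := fun a b => kc_add a.1 b.1 a.2 b.2 (a + b).2
    map_smul' := fun c a => kc_smul c a.1 a.2 (c • a).2 }

omit [LocallyOfFiniteType x] in
theorem finite_ker [IsProper x] : Module.Finite k (LinearMap.ker (tcl (Λ := Λ) (X := X) (x := x))) := by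
  let _ : X.Over (Spec (CommRingCat.of k)) := ⟨x⟩
  have : IsProper (X ↘ Spec (CommRingCat.of k)) := inferInstanceAs (IsProper x)
  have h0 := Groth.Agent.S0002.result k X (rel x).sh ((rel x).isCoh (finite_M x)) 1
  refine Module.Finite.of_injective (kcl (Λ := Λ) (x := x)) ?_
  rw [← LinearMap.ker_eq_bot, LinearMap.ker_eq_bot']
  rintro ⟨z, hz⟩ h
  exact Subtype.ext (kc_eq_zero z hz h)

omit [LocallyOfFiniteType x] in
/-- The tangent space of the functor of deformations of a proper scheme is finite-dimensional as soon as the space of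
compatible families of classes in `T¹` is. -/
theorem finite_tangent [IsProper x] (hG : Module.Finite k (G x)) :
    Module.Finite k (TangentSpace (F (Λ := Λ) X x)) :=
  finite_of_ker (tcl (Λ := Λ) (X := X) (x := x)) finite_ker hG

end K565.H1Fin
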