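import Groth.Agent.SGA7.K565.H1Cls
import Groth.Agent.SGA7.K565.GlueMor

/-!
# Deformations whose class in `H¹` vanishes are trivial
-/

set_option autoImplicit false
universe u

open CategoryTheory CategoryTheory.Limits AlgebraicGeometry ArtFun ArtFun.Art TopologicalSpace Opposite
open K565.TOneDef K565.DefOpens K565.DefTan K565.DefTan2 K565.SecEtale K565.DerRel K565.LocTriv K565.H1Cls
open Groth.Agent.Sga67.Sec (resO resO_resO)
open Groth.Agent.CurvesA.Torsor Groth.Agent.CurvesA.TorsorCls Groth.Agent.CurvesA.TorsorOps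

namespace K565.H1Zero

variable {Λ k : Type u} [CommRing Λ] [Field k] [Algebra Λ k] {X : Scheme.{u}} {x : X ⟶ specPt k}

section Glob

variable [LocallyOfFiniteType x] (ξ : DefSch (Λ := Λ) X x (dual Λ k))

/-- A deformation with trivial class has compatible sections. -/
theorem exists_global (h : LT ξ inl) (h0 : c1 ξ h = 0) : Nonempty (P0 ξ inl ⊤) := by
  obtain ⟨H, hnat, hH⟩ := (clsOf_eq_zero_iff (hT X) (D ξ) (supp_mem ξ inl h ⊤)).1 h0
  have hne : ∀ V : X.affineOpens, Nonempty (P0 ξ inl V.1) := fun V => by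
    obtain ⟨s, hs⟩ := h V.1 V.2
    obtain ⟨t, -⟩ := exists_P0 ξ inl V.2 hs
    exact ⟨t⟩
  let p : ∀ V : X.affineOpens, P0 ξ inl V.1 := fun V => (hne V).some
  let δ : ∀ V : X.affineOpens, P0 ξ inl V.1 → Dr x V.1 := fun V s => ((rel x).sec V).symm (H (op V.1) s)
  have hs : ∀ (V : X.affineOpens) (s : P0 ξ inl V.1), (rel x).sec V (δ V s) = H (op V.1) s :=
    fun V s => LinearEquiv.apply_symm_apply _ _
  have hδ : ∀ (V : X.affineOpens) (s s' : P0 ξ inl V.1) (b : Sec x V.1),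
      inc ξ V.2 (δ V s b) - inc ξ V.2 (δ V s' b) = s.1 ⟨V, le_rfl⟩ b - s'.1 ⟨V, le_rfl⟩ b := by
    intro V s s' b
    have h1 : δ V s - δ V s' = (show Dr x V.1 from (df ξ s s').1 ⟨V, le_rfl⟩) := by
      apply ((rel x).sec V).injective
      refine (((rel x).sec V).map_sub _ _).trans ?_
      refine (congrArg₂ (· - ·) (hs V s) (hs V s')).trans ?_
      refine Eq.trans (hH (op V.1) s s') ?_
      exact (AffRel.sec_eval (rel x) V (df ξ s s')).symm
    rw [← inc_df ξ s s' ⟨V, le_rfl⟩ b, ← h1, ← map_sub]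
    rfl
  choose τ hτ hτ' using fun V : X.affineOpens => isSect_sub ξ V.2 ((p V).2.1 ⟨V, le_rfl⟩) (δ V (p V))
  have hcan : ∀ (V : X.affineOpens) (s : P0 ξ inl V.1) (b : Sec x V.1),
      τ V b = s.1 ⟨V, le_rfl⟩ b - inc ξ V.2 (δ V s b) := by
    intro V s b
    rw [hτ', sub_eq_sub_iff_sub_eq_sub]
    exact (hδ V (p V) s b).symm
  refine ⟨⟨fun V => τ V.1, fun V => hτ V.1, fun V W hle b => ?_⟩⟩
  have h1 : (rel x).R hle (δ V.1 (p V.1)) (δ W.1 (pm ξ inl hle (p V.1))) := by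
    rw [AffRel.R_iff, hs, hs]
    exact (hnat (homOfLE hle).op (p V.1)).symm
  rw [hcan W.1 (pm ξ inl hle (p V.1)), hcan V.1 (p V.1), map_sub, rs_inc ξ V.1.2 W.1.2, ← h1 b]
  congr 1
  exact (p V.1).2.2 ⟨V.1, le_rfl⟩ ⟨W.1, hle⟩ hle b

end Glob

section Retr

variable {A : Art Λ k} (ξ : DefSch (Λ := Λ) X x A) (σ : k →+* A)

theorem isAffineOpen_c (U : ξ.total.affineOpens) : IsAffineOpen (ξ.i ⁻¹ᵁ U.1) := U.2.preimage ξ.i

/-- The preimage of an affine open. -/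
noncomputable def c (U : ξ.total.affineOpens) : X.affineOpens := ⟨ξ.i ⁻¹ᵁ U.1, isAffineOpen_c ξ U⟩

variable {ξ σ}

theorem le_up (U : ξ.total.affineOpens) : U.1 ≤ up ξ (c ξ U).1 := (up_preimage ξ U.1).ge

/-- The ring maps. -/
noncomputable def θ (s : P0 ξ σ ⊤) (U : ξ.total.affineOpens) : Γ(X, (c ξ U).1) ⟶ Γ(ξ.total, U.1) :=
  CommRingCat.ofHom ((resO ξ.total (le_up U)).comp (s.1 ⟨c ξ U, le_top⟩))

theorem θ_apply (s : P0 ξ σ ⊤) (U : ξ.total.affineOpens) (b : Γ(X, (c ξ U).1)) :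
    (θ s U).hom b = resO ξ.total (le_up U) (s.1 ⟨c ξ U, le_top⟩ b) := rfl

theorem θ_nat (s : P0 ξ σ ⊤) (U V : ξ.total.affineOpens) (h : U.1 ≤ V.1) :
    θ s V ≫ ξ.total.presheaf.map (homOfLE h).op =
      X.presheaf.map (homOfLE (show (c ξ U).1 ≤ (c ξ V).1 from fun _ hp => h hp)).op ≫ θ s U := by
  ext b
  have h1 := s.2.2 ⟨c ξ V, le_top⟩ ⟨c ξ U, le_top⟩ (fun _ hp => h hp) b
  have h2 : (show Up ξ (c ξ U).1 from s.1 ⟨c ξ U, le_top⟩ (TOneDef.res x (fun _ hp => h hp) b)) =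
    resO ξ.total (up_mono ξ (show (c ξ U).1 ≤ (c ξ V).1 from fun _ hp => h hp)) (s.1 ⟨c ξ V, le_top⟩ b) := h1
  change resO ξ.total h (resO ξ.total (le_up V) (s.1 ⟨c ξ V, le_top⟩ b)) =
    resO ξ.total (le_up U) (s.1 ⟨c ξ U, le_top⟩ (TOneDef.res x (fun _ hp => h hp) b))
  refine Eq.trans ?_ (congrArg (resO ξ.total (le_up U)) h2).symm
  rw [resO_resO]
  exact (resO_resO _ _ _).symm

/-- The retraction. -/
noncomputable def retr (s : P0 ξ σ ⊤) : ξ.total ⟶ X :=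
  GlueMor.mor (c ξ) (fun U V h => show (c ξ U).1 ≤ (c ξ V).1 from fun _ hp => h hp) (θ s) (θ_nat s)

theorem fromSpec_retr (s : P0 ξ σ ⊤) (U : ξ.total.affineOpens) :
    U.2.fromSpec ≫ retr s = Spec.map (θ s U) ≫ (c ξ U).2.fromSpec := by
  rw [← IsAffineOpen.isoSpec_inv_ι, Category.assoc]
  unfold retr
  rw [GlueMor.ι_mor, ← IsAffineOpen.isoSpec_hom U.2, Iso.inv_hom_id_assoc]

theorem hom_ext' {Z Y : Scheme.{u}} {f g : Z ⟶ Y} (h : ∀ U : Z.affineOpens, U.2.fromSpec ≫ f = U.2.fromSpec ≫ g) :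
    f = g := by
  refine GlueMor.hom_ext fun U => ?_
  rw [← IsAffineOpen.isoSpec_hom_fromSpec U.2, Category.assoc, h, Category.assoc]

theorem i_retr (s : P0 ξ σ ⊤) : ξ.i ≫ retr s = 𝟙 X := by
  refine hom_ext' fun V => ?_
  let U : ξ.total.affineOpens := ⟨up ξ V.1, isAffineOpen_up ξ V.2⟩
  rw [← Category.assoc, ← IsAffineOpen.SpecMap_appLE_fromSpec ξ.i U.2 V.2 (preimage_up ξ V.1).ge, Category.assoc,
    fromSpec_retr, ← Spec.map_comp_assoc, Category.comp_id]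
  have h1 : θ s U ≫ ξ.i.appLE U.1 V.1 (preimage_up ξ V.1).ge =
      X.presheaf.map (homOfLE (show V.1 ≤ (c ξ U).1 from (preimage_up ξ V.1).ge)).op := by
    ext b
    have h3 := (s.2.1 ⟨c ξ U, le_top⟩).pr b
    have h4 : ξ.total.presheaf.map (homOfLE (le_up U)).op ≫ ξ.i.appLE U.1 V.1 (preimage_up ξ V.1).ge =
        ξ.i.appLE (up ξ (c ξ U).1) (c ξ U).1 (preimage_up ξ (c ξ U).1).ge ≫
          X.presheaf.map (homOfLE (show V.1 ≤ (c ξ U).1 from (preimage_up ξ V.1).ge)).op := by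
      rw [Scheme.Hom.map_appLE, Scheme.Hom.appLE_map]
    refine (congrArg (fun t => t.hom (s.1 ⟨c ξ U, le_top⟩ b)) h4).trans ?_
    exact congrArg (X.presheaf.map (homOfLE (show V.1 ≤ (c ξ U).1 from (preimage_up ξ V.1).ge)).op).hom h3
  refine (congrArg (fun t => Spec.map t ≫ (c ξ U).2.fromSpec) h1).trans ?_
  exact IsAffineOpen.map_fromSpec (c ξ U).2 V.2 _

theorem retr_x (s : P0 ξ σ ⊤) : retr s ≫ x = ξ.f ≫ Spec.map (CommRingCat.ofHom σ) := by
  refine hom_ext' fun U => ?_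
  have e1 : (c ξ U).2.fromSpec ≫ x = Spec.map (Groth.Agent.Sga7.H331.Sec.co (A := CommRingCat.of k) x (c ξ U).1) := by
    rw [← IsAffineOpen.isoSpec_inv_ι, Category.assoc, ← Groth.Agent.Sga7.H331.Sec.toSpecΓ_co (A := CommRingCat.of k) x,
      ← IsAffineOpen.isoSpec_hom (c ξ U).2, Iso.inv_hom_id_assoc]
  have e2 : U.2.fromSpec ≫ ξ.f = Spec.map (Groth.Agent.Sga7.H331.Sec.co (A := CommRingCat.of A) ξ.f U.1) := by
    rw [← IsAffineOpen.isoSpec_inv_ι, Category.assoc, ← Groth.Agent.Sga7.H331.Sec.toSpecΓ_co (A := CommRingCat.of A) ξ.f,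
      ← IsAffineOpen.isoSpec_hom U.2, Iso.inv_hom_id_assoc]
  rw [← Category.assoc, fromSpec_retr, Category.assoc, e1, ← Spec.map_comp, ← Category.assoc, e2]
  refine Eq.trans ?_ (Spec.map_comp (CommRingCat.ofHom σ) (Groth.Agent.Sga7.H331.Sec.co (A := CommRingCat.of A) ξ.f U.1))
  congr 1
  ext a
  have h1 := (s.2.1 ⟨c ξ U, le_top⟩).al a
  change (ξ.total.presheaf.map _).hom (s.1 ⟨c ξ U, le_top⟩ (algebraMap k (Sec x (c ξ U).1) a)) = _
  rw [h1]
  exact congrArg (fun t => t.hom (σ a)) (Groth.Agent.Sga7.H331.Sec.co_map (A := CommRingCat.of A) ξ.f (le_up U))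

end Retr

section Zero

/-- A morphism of deformations over `g` is a base change. -/
theorem nonempty_BC {A B : Art Λ k} {η : DefSch (Λ := Λ) X x A} {g : A ⟶ B} {ξ : DefSch (Λ := Λ) X x B}
    (m : Mor η g ξ) : Nonempty (K565.DefCat.BC η g ξ) := by
  let b := K565.DefCat.BC.canonical η g
  let φ : ξ.total ⟶ (η.baseChange g).total := b.isPullback.lift m.t ξ.f m.t_f
  have hf : φ ≫ (η.baseChange g).f = ξ.f := b.isPullback.lift_snd _ _ _
  have hi : ξ.i ≫ φ = (η.baseChange g).i := by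
    apply b.isPullback.hom_ext
    · rw [Category.assoc, b.isPullback.lift_fst, b.i_t, m.i_t]
    · rw [Category.assoc, b.isPullback.lift_snd, DefSch.i_f, DefSch.i_f]
  exact ⟨b.ofIso (K565.DefCat.isoOfMorphism φ hf hi)⟩

theorem scale_zero_apply (a : dual Λ k) : (scale 0 : dual Λ k ⟶ dual Λ k) a = inl (Art.res (dual Λ k) a) := by
  refine TrivSqZeroExt.ext rfl ?_
  change (0 : k) * _ = 0
  rw [zero_mul]

/-- The morphism of a deformation with compatible sections to itself over `ε ↦ 0`. -/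
noncomputable def morZero (ξ : DefSch (Λ := Λ) X x (dual Λ k)) (s : P0 ξ inl ⊤) : Mor ξ (scale 0) ξ where
  t := retr s ≫ ξ.i
  i_t := by rw [← Category.assoc, i_retr, Category.id_comp]
  t_f := by
    rw [Category.assoc, DefSch.i_f, ← Category.assoc, retr_x, Category.assoc]
    congr 1
    refine (Spec.map_comp _ _).symm.trans ?_
    congr 1
    ext a
    exact (scale_zero_apply (Λ := Λ) (k := k) a).symm

/-- A first-order deformation with compatible sections is trivial. -/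
theorem map_scale_zero (ξ : DefSch (Λ := Λ) X x (dual Λ k)) (s : P0 ξ inl ⊤) :
    (F (Λ := Λ) X x).map (scale 0) ξ.cl = ξ.cl :=
  K565.DefCat.map_cl_eq_iff.2 (nonempty_BC (morZero ξ s))

theorem cl_eq_zero [TangentStr (F (Λ := Λ) X x)] (ξ : DefSch (Λ := Λ) X x (dual Λ k)) (s : P0 ξ inl ⊤) :
    (show TangentSpace (F (Λ := Λ) X x) from ξ.cl) = 0 := by
  have h := TangentStr.smul_eq (F := F (Λ := Λ) X x) (0 : k) ξ.cl
  refine (map_scale_zero ξ s).symm.trans (h.symm.trans ?_)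
  exact zero_smul k (show TangentSpace (F (Λ := Λ) X x) from ξ.cl)

end Zero

end K565.H1Zero
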