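import Groth.Agent.SGA7.K565.LamRep
import Groth.Agent.SGA7.K565.ArtTools
import Groth.Prelude.Def_ArtFun3

/-!
# Lifting deformations of an algebra along small extensions (any `Λ`), when `T² = 0`

The method is that of `Deform/K681/AffLam`, `AffOb`, `AffLift` (helper681) for `Λ = k`; here functionals on the kernel
are replaced by division by a generator of the kernel.
-/

set_option autoImplicit false

universe u

open CategoryTheory MvPolynomial TensorProduct

namespace K565.LamRep

open ArtFun ArtFun.Art CotT K681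

section Small

variable {Λ k : Type u} [CommRing Λ] [Field k] [Algebra Λ k] {C' C : Art Λ k} {ι : Type u}

/-- A generator of the kernel of a small extension. -/
structure Gen (p : C' ⟶ C) where
  t : C'
  ne : t ≠ 0
  pt : p t = 0
  gen : ∀ x, p x = 0 → ∃ c, x = c * t
  ann : ∀ a, C'.res a = 0 → a * t = 0
  surj : Function.Surjective p

theorem exists_gen {p : C' ⟶ C} (hp : IsSmallExt p) : Nonempty (Gen p) := by
  obtain ⟨t, h1, h2, h3, h4⟩ := K565.ArtTools.IsSmallExt.exists_gen hp
  exact ⟨⟨t, h1, h2, h3, h4, hp.1⟩⟩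

variable {p : C' ⟶ C} (g : Gen p)

lemma t_mul_eq_zero_iff (c : C') : g.t * c = 0 ↔ C'.res c = 0 := by
  constructor
  · intro h
    by_contra hc
    have hu : IsUnit c := by
      by_contra hn
      exact hc ((mem_maximalIdeal_iff C' c).1 ((IsLocalRing.mem_maximalIdeal c).2 hn))
    exact g.ne (hu.mul_left_eq_zero.1 h)
  · intro h
    rw [mul_comm]
    exact g.ann c h

lemma t_smul_eq_zero_iff (r : MvPolynomial ι C') : g.t • r = 0 ↔ red C' r = 0 := by
  constructor
  · intro h
    ext m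
    rw [coeff_red, coeff_zero, ← t_mul_eq_zero_iff g, ← smul_eq_mul, ← coeff_smul, h, coeff_zero]
  · intro h
    ext m
    rw [coeff_smul, coeff_zero, smul_eq_mul, t_mul_eq_zero_iff, ← coeff_red, h, coeff_zero]

lemma coeff_eq_zero_of_mp {z : MvPolynomial ι C'} (hz : mp p z = 0) (m : ι →₀ ℕ) :
    p (coeff m z) = 0 := by
  rw [← coeff_mp, hz, coeff_zero]

lemma exists_t_smul (z : MvPolynomial ι C') (hz : mp p z = 0) : ∃ r, z = g.t • r := by
  classical
  choose c hc using fun m => g.gen (coeff m z) (coeff_eq_zero_of_mp hz m)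
  refine ⟨∑ m ∈ z.support, monomial m (c m), ?_⟩
  ext n
  rw [coeff_smul, coeff_sum, smul_eq_mul]
  simp only [coeff_monomial, Finset.sum_ite_eq', mem_support_iff]
  split_ifs with h
  · rw [hc n, mul_comm]
  · rw [not_ne_iff.1 h, mul_zero]

lemma mp_t_smul (r : MvPolynomial ι C') : mp p (g.t • r) = 0 := by
  rw [mp_smul, g.pt, zero_smul]

open Classical in
/-- division by `t`, modulo the maximal ideal. -/
noncomputable def dv (z : MvPolynomial ι C') : MvPolynomial ι k :=
  if h : ∃ r, z = g.t • r then red C' h.choose else 0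

lemma dv_eq {z r : MvPolynomial ι C'} (h : z = g.t • r) : dv g z = red C' r := by
  have h1 : ∃ r, z = g.t • r := ⟨r, h⟩
  rw [dv, dif_pos h1, ← sub_eq_zero, ← map_sub, ← t_smul_eq_zero_iff g, smul_sub, ← h1.choose_spec, h, sub_self]

lemma dv_add {z w : MvPolynomial ι C'} (hz : mp p z = 0) (hw : mp p w = 0) : dv g (z + w) = dv g z + dv g w := by
  obtain ⟨r, rfl⟩ := exists_t_smul g z hz
  obtain ⟨s, rfl⟩ := exists_t_smul g w hw
  rw [dv_eq g rfl, dv_eq g rfl, dv_eq g (smul_add _ _ _).symm, map_add]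

lemma dv_zero : dv g (0 : MvPolynomial ι C') = 0 := by
  rw [dv_eq g (smul_zero _).symm, map_zero]

lemma dv_mul (a : MvPolynomial ι C') {z : MvPolynomial ι C'} (hz : mp p z = 0) : dv g (a * z) = red C' a * dv g z := by
  obtain ⟨r, rfl⟩ := exists_t_smul g z hz
  rw [dv_eq g rfl, dv_eq g (mul_smul_comm _ _ _), map_mul]

lemma dv_sub {z w : MvPolynomial ι C'} (hz : mp p z = 0) (hw : mp p w = 0) : dv g (z - w) = dv g z - dv g w := by
  obtain ⟨r, rfl⟩ := exists_t_smul g z hz
  obtain ⟨s, rfl⟩ := exists_t_smul g w hw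
  rw [dv_eq g rfl, dv_eq g rfl, dv_eq g (smul_sub _ _ _).symm, map_sub]

include g in
lemma smul_eq_zero_of_mem {a : C'} (ha : a ∈ IsLocalRing.maximalIdeal C')
    {z : MvPolynomial ι C'} (hz : mp p z = 0) : a • z = 0 := by
  obtain ⟨r, rfl⟩ := exists_t_smul g z hz
  rw [smul_smul, g.ann a ((mem_maximalIdeal_iff C' a).1 ha), zero_smul]

lemma dv_sum {κ : Type*} (s : Finset κ) (z : κ → MvPolynomial ι C') (hz : ∀ i ∈ s, mp p (z i) = 0) :
    dv g (∑ i ∈ s, z i) = ∑ i ∈ s, dv g (z i) := by
  classical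
  induction s using Finset.induction_on with
  | empty => simp [dv_zero]
  | insert a s ha ih =>
    rw [Finset.sum_insert ha, Finset.sum_insert ha, dv_add g (hz a (Finset.mem_insert_self a s)), ih]
    · intro i hi; exact hz i (Finset.mem_insert_of_mem hi)
    · rw [map_sum]
      exact Finset.sum_eq_zero fun i hi => hz i (Finset.mem_insert_of_mem hi)

end Small

variable {Λ k : Type u} [CommRing Λ] [Field k] [Algebra Λ k] {B₀ : Type u} [CommRing B₀] [Algebra k B₀] {ι σ : Type u}
variable {P : Algebra.Presentation k B₀ ι σ} {C' C : Art Λ k} (ρ : Rep P C)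

/-- Lifts of the equations along `p`. -/
def IsLift (p : C' ⟶ C) (F' : σ → MvPolynomial ι C') : Prop := ∀ s, mp p (F' s) = ρ.F s

lemma exists_isLift (p : C' ⟶ C) (hp : Function.Surjective p) : ∃ F', IsLift ρ p F' := by
  choose F' hF' using fun s => mp_surjective (ι := ι) p hp (ρ.F s)
  exact ⟨F', hF'⟩

variable {ρ} {p : C' ⟶ C} {F' : σ → MvPolynomial ι C'}

/-- Evaluation at lifted equations. -/
noncomputable abbrev ev' (F' : σ → MvPolynomial ι C') : (σ →₀ MvPolynomial ι C') →ₗ[MvPolynomial ι C'] MvPolynomial ι C' :=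
  Finsupp.linearCombination _ F'

lemma mp_ev' (hF' : IsLift ρ p F') (Q : σ →₀ MvPolynomial ι C') :
    mp p (ev' F' Q) = ρ.ev (Q.mapRange (mp p) (map_zero _)) := by
  rw [Finsupp.linearCombination_apply, Finsupp.linearCombination_apply, Finsupp.sum_mapRange_index (by simp),
    Finsupp.sum, Finsupp.sum, map_sum]
  exact Finset.sum_congr rfl fun s _ => by rw [smul_eq_mul, map_mul, hF', smul_eq_mul]

/-- `Q` induces a relation among the `F`. -/
def IsRel (ρ : Rep P C) (p : C' ⟶ C) (Q : σ →₀ MvPolynomial ι C') : Prop :=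
  ρ.ev (Q.mapRange (mp p) (map_zero _)) = 0

lemma mapRange_red_mp (Q : σ →₀ MvPolynomial ι C') :
    (Q.mapRange (mp p) (map_zero _)).mapRange (red C) (map_zero _) = Q.mapRange (red C') (map_zero _) := by
  ext1 s
  simp only [Finsupp.mapRange_apply, red_mp]

lemma exists_isRel (hp : Function.Surjective p) (q : σ →₀ MvPolynomial ι k)
    (hq : Finsupp.linearCombination _ P.relation q = 0) :
    ∃ Q : σ →₀ MvPolynomial ι C', IsRel ρ p Q ∧ Q.mapRange (red C') (map_zero _) = q := by
  obtain ⟨Q₁, h1, h2⟩ := ρ.exists_lift_relation q hq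
  obtain ⟨Q, rfl⟩ := Finsupp.mapRange_surjective _ (map_zero _) (mp_surjective (ι := ι) p hp) Q₁
  exact ⟨Q, h2, by rw [← h1, mapRange_red_mp]⟩

lemma isRel_add {Q Q' : σ →₀ MvPolynomial ι C'} (h : IsRel ρ p Q) (h' : IsRel ρ p Q') : IsRel ρ p (Q + Q') := by
  unfold IsRel at *
  rw [Finsupp.mapRange_add (map_add _), map_add, h, h', add_zero]

lemma isRel_sub {Q Q' : σ →₀ MvPolynomial ι C'} (h : IsRel ρ p Q) (h' : IsRel ρ p Q') : IsRel ρ p (Q - Q') := by
  unfold IsRel at *
  rw [Finsupp.mapRange_sub (map_sub _), map_sub, h, h', sub_zero]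

lemma isRel_smul {Q : σ →₀ MvPolynomial ι C'} (a : MvPolynomial ι C') (h : IsRel ρ p Q) : IsRel ρ p (a • Q) := by
  unfold IsRel at *
  have : (a • Q).mapRange (mp p) (map_zero _) = mp p a • Q.mapRange (mp p) (map_zero _) := by
    ext1 s
    simp
  rw [this, map_smul, h, smul_zero]

lemma mp_ev'_eq_zero (hF' : IsLift ρ p F') {Q : σ →₀ MvPolynomial ι C'} (h : IsRel ρ p Q) : mp p (ev' F' Q) = 0 := by
  rw [mp_ev' hF', h]

lemma red_F' (hF' : IsLift ρ p F') (s : σ) : red C' (F' s) = P.relation s := by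
  rw [← red_mp p, hF', ρ.hred]

variable (g : Gen p)

/-- The value of the obstruction cocycle on a lifted relation. -/
noncomputable def val (P : Algebra.Presentation k B₀ ι σ) (F' : σ → MvPolynomial ι C')
    (Q : σ →₀ MvPolynomial ι C') : B₀ := evB P (dv g (ev' F' Q))

lemma val_add (hF' : IsLift ρ p F') {Q Q' : σ →₀ MvPolynomial ι C'} (h : IsRel ρ p Q) (h' : IsRel ρ p Q') :
    val g P F' (Q + Q') = val g P F' Q + val g P F' Q' := by
  rw [val, map_add, dv_add g (mp_ev'_eq_zero hF' h) (mp_ev'_eq_zero hF' h'), map_add, val, val]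

lemma val_sub (hF' : IsLift ρ p F') {Q Q' : σ →₀ MvPolynomial ι C'} (h : IsRel ρ p Q) (h' : IsRel ρ p Q') :
    val g P F' (Q - Q') = val g P F' Q - val g P F' Q' := by
  rw [val, map_sub, dv_sub g (mp_ev'_eq_zero hF' h) (mp_ev'_eq_zero hF' h'), map_sub, val, val]

lemma val_smul (hF' : IsLift ρ p F') (a : MvPolynomial ι C')
    {Q : σ →₀ MvPolynomial ι C'} (h : IsRel ρ p Q) : val g P F' (a • Q) = evB P (red C' a) * val g P F' Q := by
  rw [val, map_smul, smul_eq_mul, dv_mul g _ (mp_ev'_eq_zero hF' h), map_mul, val]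

/-- `val` vanishes on tuples with coefficients in the kernel. -/
lemma val_of_mp_eq_zero (hF' : IsLift ρ p F')
    {Y : σ →₀ MvPolynomial ι C'} (hY : Y.mapRange (mp p) (map_zero _) = 0) : val g P F' Y = 0 := by
  have h1 : ∀ s, mp p (Y s) = 0 := fun s => by
    have := DFunLike.congr_fun hY s
    rwa [Finsupp.mapRange_apply] at this
  rw [val, Finsupp.linearCombination_apply, Finsupp.sum, dv_sum g, map_sum]
  · refine Finset.sum_eq_zero fun s _ => ?_
    rw [smul_eq_mul, mul_comm, dv_mul g _ (h1 s), red_F' hF', map_mul, evB_relation, zero_mul]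
  · intro s _
    rw [smul_eq_mul, map_mul, h1, zero_mul]

lemma isRel_of_mp_eq_zero {Y : σ →₀ MvPolynomial ι C'} (hY : Y.mapRange (mp p) (map_zero _) = 0) : IsRel ρ p Y := by
  unfold IsRel
  rw [hY, map_zero]

/-- `val` only depends on the reduction of the lifted relation. -/
theorem val_eq_zero (hF' : IsLift ρ p F')
    {Q : σ →₀ MvPolynomial ι C'} (hQ : IsRel ρ p Q) (hred : Q.mapRange (red C') (map_zero _) = 0) :
    val g P F' Q = 0 := by
  have h1 : Q.mapRange (mp p) (map_zero _) ∈ IsLocalRing.maximalIdeal C • LinearMap.ker (ρ.ev.restrictScalars C) := by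
    refine ρ.exists_sum_relation _ ?_ hQ
    rw [mapRange_red_mp, hred]
  suffices h : ∀ x ∈ IsLocalRing.maximalIdeal C • LinearMap.ker (ρ.ev.restrictScalars C),
      ∀ Q : σ →₀ MvPolynomial ι C', Q.mapRange (mp p) (map_zero _) = x → IsRel ρ p Q ∧ val g P F' Q = 0 from
    (h _ h1 Q rfl).2
  intro x hx
  induction hx using Submodule.smul_induction_on' with
  | smul a ha y hy =>
    intro Q hQ
    have hQr : IsRel ρ p Q := by
      unfold IsRel
      rw [hQ]
      have h6 : (ρ.ev.restrictScalars C) (a • y) = a • (ρ.ev.restrictScalars C) y := map_smul _ _ _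
      have h7 : (ρ.ev.restrictScalars C) y = 0 := hy
      rw [h7, smul_zero] at h6
      exact h6
    refine ⟨hQr, ?_⟩
    obtain ⟨a', rfl⟩ := g.surj a
    obtain ⟨R, rfl⟩ := Finsupp.mapRange_surjective _ (map_zero _) (mp_surjective (ι := ι) p g.surj) y
    have hR : IsRel ρ p R := hy
    have ha' : a' ∈ IsLocalRing.maximalIdeal C' := by
      rw [mem_maximalIdeal_iff] at ha ⊢
      rw [← ha, res_app]
    have h4 : ev' F' (a' • R) = a' • ev' F' R := by
      rw [← algebraMap_smul (MvPolynomial ι C') a' R, map_smul, algebraMap_smul]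
    have hR' : IsRel ρ p (a' • R) := by
      rw [← algebraMap_smul (MvPolynomial ι C') a' R]
      exact isRel_smul _ hR
    have h2 : (Q - a' • R).mapRange (mp p) (map_zero _) = 0 := by
      rw [Finsupp.mapRange_sub (map_sub _), hQ, sub_eq_zero]
      ext1 s
      simp only [Finsupp.mapRange_apply, Finsupp.smul_apply, mp_smul]
    have h3 : val g P F' (a' • R) = 0 := by
      rw [val, h4, smul_eq_zero_of_mem g ha' (mp_ev'_eq_zero hF' hR), dv_zero, map_zero]
    have h5 := val_of_mp_eq_zero g hF' h2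
    rw [val_sub g hF' hQr hR', h3, sub_zero] at h5
    exact h5
  | add x _ y _ hx hy =>
    intro Q hQ
    obtain ⟨Q₁, hQ₁⟩ := Finsupp.mapRange_surjective _ (map_zero _) (mp_surjective (ι := ι) p g.surj) x
    have h2 : (Q - Q₁).mapRange (mp p) (map_zero _) = y := by
      rw [Finsupp.mapRange_sub (map_sub _), hQ, hQ₁, add_sub_cancel_left]
    have h3 := hy (Q - Q₁) h2
    have h4 := hx Q₁ hQ₁
    have h5 := isRel_add h3.1 h4.1
    rw [sub_add_cancel] at h5
    refine ⟨h5, ?_⟩
    have h6 := h3.2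
    rw [val_sub g hF' h5 h4.1, h4.2, sub_zero] at h6
    exact h6

lemma val_congr (hF' : IsLift ρ p F')
    {Q Q' : σ →₀ MvPolynomial ι C'} (hQ : IsRel ρ p Q) (hQ' : IsRel ρ p Q')
    (h : Q.mapRange (red C') (map_zero _) = Q'.mapRange (red C') (map_zero _)) : val g P F' Q = val g P F' Q' := by
  rw [← sub_eq_zero, ← val_sub g hF' hQ hQ']
  refine val_eq_zero g hF' (isRel_sub hQ hQ') ?_
  rw [Finsupp.mapRange_sub (map_sub _), h, sub_self]

end K565.LamRep
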