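import Groth.Agent.SGA7.K564.Tate.Pairing

/-!
# Values of elements of the Lie algebra of a Barsotti-Tate system at characters
-/

set_option autoImplicit false
universe u v

open TensorProduct CartDual K564.Tate

namespace K565.LieEval

variable {R : Type u} [CommRing R] {p h : ℕ} (Φ : Sys R p h) {S : Type u} [CommRing S] [Algebra R S]

/-- points are compatible with postcomposition. -/
theorem ev_qc {S' : Type u} [CommRing S'] [Algebra R S'] (σ : S →ₐ[R] S') (t : ∀ n, Φ.B n →ₗ[R] R) (n : ℕ)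
    (y : WithConv (D R (Φ.B n) →ₐ[R] S)) :
    Φ.ev t n (qc (D R (Φ.B n)) σ y) = σ (Φ.ev t n y) := by
  have h1 := pr_map (B := Φ.B n) σ (Sys.toS S (t n)) y.ofConv.toLinearMap
  have h2 : σ.toLinearMap ∘ₗ Sys.toS S (t n) = Sys.toS S' (t n) := by
    apply LinearMap.ext
    intro b
    exact σ.commutes _
  rw [h2] at h1
  exact h1

/-- divisibility of the pairing. -/
theorem dvd_pr {B : Type u} [AddCommGroup B] [Module R B] [Module.Finite R B] [Module.Free R B]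
    (q : S) (u : B →ₗ[R] S) (w : D R B →ₗ[R] S) (hu : ∀ b, q ∣ u b) : q ∣ pr B u w :=
  Finset.dvd_sum fun _ _ => Dvd.dvd.mul_right (hu _) _

/-- compatibility of the values. -/
theorem ev_succ (t : ∀ n, Φ.B n →ₗ[R] R) (ht : Φ.IsLie t) (y : Φ.Y S) (n : ℕ) :
    (p : S) ^ n ∣ Φ.ev t (n + 1) (y.1 (n + 1)) - Φ.ev t n (y.1 n) := by
  have h1 : Φ.ev t n (y.1 n) = pr (Φ.B (n + 1))
      (Sys.toS S (t n) ∘ₗ (Φ.res n : Φ.B (n + 1) →ₐ[R] Φ.B n).toLinearMap) (y.1 (n + 1)).ofConv.toLinearMap := by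
    rw [pr_comp]
    have h2 := y.2 n
    rw [← h2]
    rfl
  have h3 : Φ.ev t (n + 1) (y.1 (n + 1)) - Φ.ev t n (y.1 n) = pr (Φ.B (n + 1))
      (Sys.toS S (t (n + 1)) + (-1 : S) • (Sys.toS S (t n) ∘ₗ (Φ.res n : Φ.B (n + 1) →ₐ[R] Φ.B n).toLinearMap))
      (y.1 (n + 1)).ofConv.toLinearMap := by
    rw [pr_add_left, pr_smul_left, h1]
    change _ = Φ.ev t (n + 1) (y.1 (n + 1)) + _
    ring
  rw [h3]
  apply dvd_pr
  intro b
  have h4 := map_dvd (algebraMap R S) (ht.compat n b)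
  rw [map_pow, map_natCast, map_sub] at h4
  change (p : S) ^ n ∣ algebraMap R S (t (n + 1) b) + (-1 : S) • algebraMap R S (t n (Φ.res n b))
  rw [smul_eq_mul, neg_one_mul, ← sub_eq_add_neg]
  exact h4

/-- additivity of the values. -/
theorem ev_mul (t : ∀ n, Φ.B n →ₗ[R] R) (ht : Φ.IsLie t) (n : ℕ) (y y' : WithConv (D R (Φ.B n) →ₐ[R] S)) :
    (p : S) ^ n ∣ Φ.ev t n (y * y') - (Φ.ev t n y + Φ.ev t n y') := by
  have h1 := pr_der (S := S) ((p : R) ^ n) (t n) (ht.der n) y y'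
  rw [map_pow, map_natCast] at h1
  exact h1

theorem ev_one (t : ∀ n, Φ.B n →ₗ[R] R) (ht : Φ.IsLie t) (n : ℕ) :
    (p : S) ^ n ∣ Φ.ev t n (1 : WithConv (D R (Φ.B n) →ₐ[R] S)) := by
  have h1 := ev_mul Φ t ht n (1 : WithConv (D R (Φ.B n) →ₐ[R] S)) 1
  rw [mul_one] at h1
  have h2 : Φ.ev t n (1 : WithConv (D R (Φ.B n) →ₐ[R] S)) =
    -(Φ.ev t n (1 : WithConv (D R (Φ.B n) →ₐ[R] S)) - (Φ.ev t n (1 : WithConv (D R (Φ.B n) →ₐ[R] S)) +
      Φ.ev t n (1 : WithConv (D R (Φ.B n) →ₐ[R] S)))) := by ring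
  rw [h2, dvd_neg]
  exact h1

theorem ev_pow (t : ∀ n, Φ.B n →ₗ[R] R) (ht : Φ.IsLie t) (n : ℕ) (y : WithConv (D R (Φ.B n) →ₐ[R] S)) (a : ℕ) :
    (p : S) ^ n ∣ Φ.ev t n (y ^ a) - a * Φ.ev t n y := by
  induction a with
  | zero =>
    rw [pow_zero, Nat.cast_zero, zero_mul, sub_zero]
    exact ev_one Φ t ht n
  | succ a ih =>
    have h1 := ev_mul Φ t ht n (y ^ a) y
    have h2 : Φ.ev t n (y ^ (a + 1)) - ((a + 1 : ℕ) : S) * Φ.ev t n y =
        (Φ.ev t n (y ^ a * y) - (Φ.ev t n (y ^ a) + Φ.ev t n y)) + (Φ.ev t n (y ^ a) - a * Φ.ev t n y) := by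
      rw [← pow_succ]; push_cast; ring
    rw [h2]
    exact dvd_add h1 ih

theorem ev_prod {ι : Type*} (s : Finset ι) (t : ∀ n, Φ.B n →ₗ[R] R) (ht : Φ.IsLie t) (n : ℕ)
    (y : ι → WithConv (D R (Φ.B n) →ₐ[R] S)) (a : ι → ℕ) :
    (p : S) ^ n ∣ Φ.ev t n (∏ i ∈ s, y i ^ a i) - ∑ i ∈ s, a i * Φ.ev t n (y i) := by
  classical
  induction s using Finset.induction_on with
  | empty =>
    rw [Finset.prod_empty, Finset.sum_empty, sub_zero]
    exact ev_one Φ t ht n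
  | insert i s hi ih =>
    rw [Finset.prod_insert hi, Finset.sum_insert hi]
    have h1 := ev_mul Φ t ht n (y i ^ a i) (∏ i ∈ s, y i ^ a i)
    have h2 := ev_pow Φ t ht n (y i) (a i)
    have h3 := dvd_add (dvd_add h1 h2) ih
    refine h3.trans (dvd_of_eq ?_)
    ring

/-- linear combinations of Lie elements. -/
theorem isLie_sum {r : ℕ} (t : Fin r → ∀ n, Φ.B n →ₗ[R] R) (ht : ∀ j, Φ.IsLie (t j)) (c : Fin r → R) :
    Φ.IsLie (fun n => ∑ j, c j • t j n) where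
  der n a b := by
    have h1 : (∑ j, c j • t j n) (a * b) - (Coalgebra.counit (R := R) a * (∑ j, c j • t j n) b +
        Coalgebra.counit (R := R) b * (∑ j, c j • t j n) a) =
        ∑ j, c j * (t j n (a * b) - (Coalgebra.counit (R := R) a * t j n b + Coalgebra.counit (R := R) b * t j n a)) := by
      simp only [LinearMap.coe_sum, Finset.sum_apply, LinearMap.smul_apply, smul_eq_mul, Finset.mul_sum]
      rw [← Finset.sum_add_distrib, ← Finset.sum_sub_distrib]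
      exact Finset.sum_congr rfl fun j _ => by ring
    rw [h1]
    exact Finset.dvd_sum fun j _ => Dvd.dvd.mul_left ((ht j).der n a b) _
  compat n b := by
    have h1 : (∑ j, c j • t j (n + 1)) b - (∑ j, c j • t j n) (Φ.res n b) =
        ∑ j, c j * (t j (n + 1) b - t j n (Φ.res n b)) := by
      simp only [LinearMap.coe_sum, Finset.sum_apply, LinearMap.smul_apply, smul_eq_mul]
      rw [← Finset.sum_sub_distrib]
      exact Finset.sum_congr rfl fun j _ => by ring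
    rw [h1]
    exact Finset.dvd_sum fun j _ => Dvd.dvd.mul_left ((ht j).compat n b) _

theorem ev_sum {r : ℕ} (t : Fin r → ∀ n, Φ.B n →ₗ[R] R) (c : Fin r → R) (n : ℕ)
    (y : WithConv (D R (Φ.B n) →ₐ[R] S)) :
    Φ.ev (fun n => ∑ j, c j • t j n) n y = ∑ j, algebraMap R S (c j) * Φ.ev (t j) n y := by
  have h1 : Sys.toS S (∑ j, c j • t j n) = ∑ j, algebraMap R S (c j) • Sys.toS S (t j n) := by
    apply LinearMap.ext
    intro b
    simp [Sys.toS, map_sum, Algebra.smul_def]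
  change pr (Φ.B n) (Sys.toS S (∑ j, c j • t j n)) y.ofConv.toLinearMap = _
  rw [h1, pr_sum_left]
  refine Finset.sum_congr rfl fun j _ => ?_
  rw [pr_smul_left]
  rfl

end K565.LieEval
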