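import Groth.Agent.SGA7.K565.DefTan2
import Groth.Agent.SGA7.K565.DerRel
import Groth.Agent.CurvesA.TorsorCls

/-!
# Sections of the reduction of a deformation over affine opens

`IsSect ξ σ V s`: `s : Γ(V) → Γ(total, up V)` is a section of the reduction, compatible with `σ : k → A`;
unique extension to smaller affine opens; differences for first-order deformations are derivations.
-/

set_option autoImplicit false
universe u

open CategoryTheory CategoryTheory.Limits AlgebraicGeometry ArtFun ArtFun.Art TopologicalSpace Opposite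
open K565.TOneDef K565.DefOpens K565.DefTan K565.SecEtale K565.DerRel

namespace K565.LocTriv

variable {Λ k : Type u} [CommRing Λ] [Field k] [Algebra Λ k] {X : Scheme.{u}} {x : X ⟶ specPt k}

section Gen

variable {A : Art Λ k} (ξ : DefSch (Λ := Λ) X x A) (σ : k →+* A)

/-- Sections of the reduction. -/
structure IsSect (V : X.Opens) (s : Sec x V →+* Up ξ V) : Prop where
  pr : ∀ b, pr ξ V (s b) = b
  al : ∀ c : k, s (algebraMap k (Sec x V) c) = al ξ V (σ c)

theorem isNilpotent_ker_pr {V : X.Opens} (hV : IsAffineOpen V) : IsNilpotent (RingHom.ker (DefOpens.pr ξ V)) := by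
  obtain ⟨n, hn⟩ := K565.ArtTools.isNilpotent_maximalIdeal A
  refine ⟨n, ?_⟩
  rw [(surjective_and_ker ξ hV).2, ← Ideal.map_pow, hn]
  exact Ideal.map_bot

theorem sect_unique {V W : X.Opens} (hV : IsAffineOpen V) (hW : IsAffineOpen W) (h : W ≤ V)
    {s s' : Sec x W →+* Up ξ W} (h1 : ∀ b, DefOpens.pr ξ W (s b) = b) (h2 : ∀ b, DefOpens.pr ξ W (s' b) = b)
    (e : ∀ b, s (res x h b) = s' (res x h b)) : s = s' := by
  let _ := secAlg x h
  have _ := secEtale x hV hW h
  let _ : Algebra (Sec x V) (Up ξ W) := (s.comp (res x h).toRingHom).toAlgebra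
  let f : Sec x W →ₐ[Sec x V] Up ξ W := { s with commutes' := fun _ => rfl }
  let f' : Sec x W →ₐ[Sec x V] Up ξ W := { s' with commutes' := fun b => (e b).symm }
  have h3 : f = f' := Algebra.FormallyUnramified.ext' (DefOpens.pr ξ W) (isNilpotent_ker_pr ξ hW) f f'
    (fun b => (h1 b).trans (h2 b).symm)
  exact congrArg AlgHom.toRingHom h3

theorem exists_sect {V W : X.Opens} (hV : IsAffineOpen V) (hW : IsAffineOpen W) (h : W ≤ V)
    {s : Sec x V →+* Up ξ V} (hs : IsSect ξ σ V s) :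
    ∃ s' : Sec x W →+* Up ξ W, IsSect ξ σ W s' ∧ ∀ b, s' (res x h b) = rs ξ h (s b) := by
  let _ := secAlg x h
  have _ := secEtale x hV hW h
  let _ : Algebra (Sec x V) (Up ξ W) := ((rs ξ h).comp s).toAlgebra
  let g : Up ξ W →ₐ[Sec x V] Sec x W :=
    { DefOpens.pr ξ W with
      commutes' := fun b => by
        change DefOpens.pr ξ W (rs ξ h (s b)) = res x h b
        rw [pr_rs, hs.pr] }
  let f := Algebra.FormallySmooth.liftOfSurjective (AlgHom.id (Sec x V) (Sec x W)) g
    (surjective_and_ker ξ hW).1 (isNilpotent_ker_pr ξ hW)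
  have hf : ∀ b, f (res x h b) = rs ξ h (s b) := fun b => f.commutes b
  refine ⟨f.toRingHom, ⟨fun b => Algebra.FormallySmooth.liftOfSurjective_apply _ g _ _ b, fun c => ?_⟩, hf⟩
  have h1 := hf (algebraMap k _ c)
  rw [hs.al, rs_al, (res x h).commutes] at h1
  exact h1

/-- Compatible sections over the affine opens contained in `U`. -/
def P0 (U : X.Opens) : Type u :=
  {s : ∀ V : AffRel.Below U, Sec x V.1.1 →+* Up ξ V.1.1 // (∀ V, IsSect ξ σ V.1.1 (s V)) ∧
    ∀ (V W : AffRel.Below U) (h : W.1.1 ≤ V.1.1) (b : Sec x V.1.1), s W (res x h b) = rs ξ h (s V b)}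

/-- Restriction. -/
def pm {U U' : X.Opens} (h : U' ≤ U) (s : P0 ξ σ U) : P0 ξ σ U' :=
  ⟨fun V => s.1 ⟨V.1, V.2.trans h⟩, fun V => s.2.1 ⟨V.1, V.2.trans h⟩,
    fun V W h' b => s.2.2 ⟨V.1, V.2.trans h⟩ ⟨W.1, W.2.trans h⟩ h' b⟩

theorem pm_val {U U' : X.Opens} (h : U' ≤ U) (s : P0 ξ σ U) (V : AffRel.Below U') :
    (pm ξ σ h s).1 V = s.1 ⟨V.1, V.2.trans h⟩ := rfl

theorem pm_self {U : X.Opens} (s : P0 ξ σ U) : pm ξ σ le_rfl s = s :=
  Subtype.ext (funext fun V => pm_val ξ σ le_rfl s V)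

theorem pm_pm {U U' U'' : X.Opens} (h : U' ≤ U) (h' : U'' ≤ U') (s : P0 ξ σ U) :
    pm ξ σ h' (pm ξ σ h s) = pm ξ σ (h'.trans h) s :=
  Subtype.ext (funext fun V => by rw [pm_val, pm_val, pm_val])

/-- The presheaf of compatible sections. -/
def P : (Opens X)ᵒᵖ ⥤ Type u where
  obj U := P0 ξ σ U.unop
  map f := ↾(pm ξ σ f.unop.le)
  map_id _ := by
    ext s
    exact pm_self ξ σ s
  map_comp f g := by
    ext s
    exact (pm_pm ξ σ f.unop.le g.unop.le s).symm

theorem exists_P0 {V : X.Opens} (hV : IsAffineOpen V) {s : Sec x V →+* Up ξ V} (hs : IsSect ξ σ V s) :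
    ∃ p : P0 ξ σ V, p.1 ⟨⟨V, hV⟩, le_rfl⟩ = s := by
  choose t ht ht' using fun W : AffRel.Below V => exists_sect ξ σ hV W.1.2 W.2 hs
  refine ⟨⟨t, ht, fun W W' h b => ?_⟩, ?_⟩
  · obtain ⟨t', h1, h2⟩ := exists_sect ξ σ W.1.2 W'.1.2 h (ht W)
    have h3 : t' = t W' := sect_unique ξ hV W'.1.2 W'.2 h1.pr (ht W').pr (fun b => by
      rw [ht', ← res_res x W.2 h, h2, ht', rs_rs])
    rw [← h3, h2]
  · change t ⟨⟨V, hV⟩, le_rfl⟩ = s
    refine sect_unique ξ hV hV le_rfl (ht ⟨⟨V, hV⟩, le_rfl⟩).pr hs.pr (fun b => ?_)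
    rw [ht' ⟨⟨V, hV⟩, le_rfl⟩ b, rs_self, res_self]

/-- Local triviality. -/
def LT : Prop := ∀ V : X.Opens, IsAffineOpen V → ∃ s, IsSect ξ σ V s

theorem supp_mem (h : LT ξ σ) (U : X.Opens) :
    Groth.Agent.CurvesA.Torsor.supp (P ξ σ) U ∈ Opens.grothendieckTopology X U := by
  intro p hp
  obtain ⟨V, hV, hpV, hVU⟩ := Opens.isBasis_iff_nbhd.mp X.isBasis_affineOpens hp
  obtain ⟨s, hs⟩ := h V hV
  obtain ⟨t, -⟩ := exists_P0 ξ σ hV hs
  exact ⟨V, homOfLE hVU, ⟨t⟩, hpV⟩

end Gen

section Dual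

variable (ξ : DefSch (Λ := Λ) X x (dual Λ k))

theorem inc_injective {V : X.Opens} (hV : IsAffineOpen V) : Function.Injective (inc ξ hV) :=
  (ext ξ hV).isExtension.incl_injective

theorem exists_inc {V : X.Opens} (hV : IsAffineOpen V) {e : Up ξ V} (he : DefOpens.pr ξ V e = 0) :
    ∃ b, inc ξ hV b = e := ((ext ξ hV).isExtension.exact e).1 he

theorem exists_der {V : X.Opens} (hV : IsAffineOpen V) {s s' : Sec x V →+* Up ξ V} (hs : IsSect ξ inl V s)
    (hs' : IsSect ξ inl V s') : ∃ D : Dr x V, ∀ b, inc ξ hV (D b) = s b - s' b := by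
  choose d hd using fun b => exists_inc ξ hV (e := s b - s' b) (by rw [map_sub, hs.pr, hs'.pr, sub_self])
  have hmul : ∀ a b, d (a * b) = a * d b + b * d a := by
    intro a b
    apply inc_injective ξ hV
    rw [hd, map_mul, map_mul, map_add]
    have e1 : inc ξ hV (a * d b) = s a * (s b - s' b) := by rw [← hd b, mul_inc, hs.pr]
    have e2 : inc ξ hV (b * d a) = s' b * (s a - s' a) := by rw [← hd a, mul_inc, hs'.pr]
    rw [e1, e2]
    ring
  have hadd : ∀ a b, d (a + b) = d a + d b := by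
    intro a b
    apply inc_injective ξ hV
    rw [hd, map_add, map_add, map_add, hd, hd]
    ring
  have halg : ∀ c : k, d (algebraMap k _ c) = 0 := by
    intro c
    apply inc_injective ξ hV
    rw [hd, hs.al, hs'.al, sub_self, map_zero]
  refine ⟨Derivation.mk' { toFun := d, map_add' := hadd, map_smul' := fun c b => ?_ } hmul, hd⟩
  rw [Algebra.smul_def, hmul, halg, mul_zero, add_zero, RingHom.id_apply, Algebra.smul_def]

/-- The derivation attached to two sections. -/
noncomputable def dd {V : X.Opens} (hV : IsAffineOpen V) {s s' : Sec x V →+* Up ξ V} (hs : IsSect ξ inl V s)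
    (hs' : IsSect ξ inl V s') : Dr x V := (exists_der ξ hV hs hs').choose

theorem inc_dd {V : X.Opens} (hV : IsAffineOpen V) {s s' : Sec x V →+* Up ξ V} (hs : IsSect ξ inl V s)
    (hs' : IsSect ξ inl V s') (b : Sec x V) : inc ξ hV (dd ξ hV hs hs' b) = s b - s' b :=
  (exists_der ξ hV hs hs').choose_spec b

/-- The section translated by a derivation. -/
theorem isSect_sub {V : X.Opens} (hV : IsAffineOpen V) {s : Sec x V →+* Up ξ V} (hs : IsSect ξ inl V s)
    (D : Dr x V) : ∃ s', IsSect ξ inl V s' ∧ ∀ b, s' b = s b - inc ξ hV (D b) := by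
  have hi : ∀ b b', inc ξ hV b * inc ξ hV b' = 0 := by
    intro b b'
    rw [mul_inc]
    have : DefOpens.pr ξ V (inc ξ hV b) = 0 := ((ext ξ hV).isExtension.exact _).2 ⟨b, rfl⟩
    rw [this, zero_mul, map_zero]
  refine ⟨{ toFun := fun b => s b - inc ξ hV (D b)
            map_one' := by rw [map_one, Derivation.map_one_eq_zero, map_zero, sub_zero]
            map_zero' := by rw [map_zero, map_zero, map_zero, sub_zero]
            map_add' := fun a b => by rw [map_add, map_add, map_add]; ring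
            map_mul' := fun a b => by
              have e1 : inc ξ hV (a * D b) = s a * inc ξ hV (D b) := by rw [mul_inc, hs.pr]
              have e2 : inc ξ hV (b * D a) = s b * inc ξ hV (D a) := by rw [mul_inc, hs.pr]
              have e3 := hi (D a) (D b)
              rw [Derivation.leibniz, smul_eq_mul, smul_eq_mul, map_add, e1, e2, map_mul]
              linear_combination (-1 : Up ξ V) * e3 }, ⟨fun b => ?_, fun c => ?_⟩, fun b => rfl⟩
  · change DefOpens.pr ξ V (s b - inc ξ hV (D b)) = b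
    have : DefOpens.pr ξ V (inc ξ hV (D b)) = 0 := ((ext ξ hV).isExtension.exact _).2 ⟨D b, rfl⟩
    rw [map_sub, this, sub_zero, hs.pr]
  · change s _ - inc ξ hV (D _) = _
    rw [Derivation.map_algebraMap, map_zero, sub_zero, hs.al]

end Dual

end K565.LocTriv
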