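import Groth.Agent.SGA7.K564.Tate.Pairing
import Mathlib.RingTheory.IntegralClosure.IntegrallyClosed
import Mathlib.RingTheory.IntegralClosure.IsIntegralClosure.Basic

/-!
# Points of generically equal finite algebras with values in an integrally closed ring
-/

set_option autoImplicit false
universe u v

open TensorProduct CartDual K564.Tate

namespace K565.PtLift

section Lift

variable {R Kb : Type u} [CommRing R] [IsDomain R] [Field Kb] [Algebra R Kb] [FaithfulSMul R Kb]
  {B' B : Type u} [CommRing B'] [Algebra R B'] [CommRing B] [Algebra R B]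

omit [IsDomain R] in
theorem algebraMap_ne_zero {r : R} (hr : r ≠ 0) : algebraMap R Kb r ≠ 0 := by
  rwa [Ne, FaithfulSMul.algebraMap_eq_zero_iff]

/-- points of generically equal algebras: existence. -/
theorem exists_lift [Module.Finite R B] (f : B' →ₐ[R] B) (hf : Function.Injective f)
    (hs : ∀ b : B, ∃ r : R, r ≠ 0 ∧ ∃ a, f a = r • b) (x' : B' →ₐ[R] integralClosure R Kb) :
    ∃ x : B →ₐ[R] integralClosure R Kb, x.comp f = x' := by
  classical
  choose r hr a ha using hs
  let y' : B' →ₐ[R] Kb := (integralClosure R Kb).val.comp x'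
  let g : B → Kb := fun b => (algebraMap R Kb (r b))⁻¹ * y' (a b)
  have hg : ∀ (b : B) (s : R) (c : B'), s ≠ 0 → f c = s • b → algebraMap R Kb s * g b = y' c := by
    intro b s c hs hc
    have h1 : s • a b = r b • c := by
      apply hf
      rw [map_smul, map_smul, ha, hc, smul_comm]
    have h2 := congrArg y' h1
    rw [map_smul, map_smul, Algebra.smul_def, Algebra.smul_def] at h2
    have h3 := algebraMap_ne_zero (Kb := Kb) (hr b)
    change algebraMap R Kb s * ((algebraMap R Kb (r b))⁻¹ * y' (a b)) = y' c
    field_simp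
    linear_combination h2
  have huniq : ∀ (b : B) (s : R) (c : B') (v : Kb), s ≠ 0 → f c = s • b → algebraMap R Kb s * v = y' c → v = g b := by
    intro b s c v hs hc hv
    have h1 := hg b s c hs hc
    have h3 := algebraMap_ne_zero (Kb := Kb) hs
    exact mul_left_cancel₀ h3 (hv.trans h1.symm)
  have hmap1 : g 1 = 1 := (huniq 1 1 1 1 one_ne_zero (by rw [map_one, one_smul]) (by rw [map_one, map_one, one_mul])).symm
  have hmapmul : ∀ b c, g (b * c) = g b * g c := by
    intro b c
    refine (huniq (b * c) (r b * r c) (a b * a c) _ (mul_ne_zero (hr b) (hr c)) ?_ ?_).symm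
    · rw [map_mul, ha, ha, smul_mul_smul_comm]
    · rw [map_mul, map_mul, ← hg b _ _ (hr b) (ha b), ← hg c _ _ (hr c) (ha c)]; ring
  have hmapadd : ∀ b c, g (b + c) = g b + g c := by
    intro b c
    refine (huniq (b + c) (r b * r c) (r c • a b + r b • a c) _ (mul_ne_zero (hr b) (hr c)) ?_ ?_).symm
    · rw [map_add, map_smul, map_smul, ha, ha, smul_add, smul_smul, smul_smul, mul_comm (r c)]
    · rw [map_mul, map_add, map_smul, map_smul, Algebra.smul_def, Algebra.smul_def,
        ← hg b _ _ (hr b) (ha b), ← hg c _ _ (hr c) (ha c)]; ring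
  have hmapalg : ∀ s : R, g (algebraMap R B s) = algebraMap R Kb s := by
    intro s
    refine (huniq _ 1 (algebraMap R B' s) _ one_ne_zero ?_ ?_).symm
    · rw [AlgHom.commutes, one_smul]
    · rw [map_one, one_mul, AlgHom.commutes]
  let y : B →ₐ[R] Kb :=
    { toFun := g
      map_one' := hmap1
      map_mul' := hmapmul
      map_zero' := by
        have := hmapalg 0
        rwa [map_zero, map_zero] at this
      map_add' := hmapadd
      commutes' := hmapalg }
  have hint : ∀ b, y b ∈ integralClosure R Kb := fun b =>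
    (Algebra.IsIntegral.isIntegral (R := R) b).map y
  refine ⟨y.codRestrict (integralClosure R Kb) hint, ?_⟩
  apply AlgHom.ext
  intro c
  apply Subtype.ext
  change g (f c) = y' c
  exact (huniq _ 1 c _ one_ne_zero (by rw [one_smul]) (by rw [map_one, one_mul])).symm

omit [IsDomain R] [FaithfulSMul R Kb] in
/-- points of generically equal algebras: uniqueness. -/
theorem lift_unique {S : Type v} [CommRing S] [IsDomain S] [Algebra R S] (hinj : Function.Injective (algebraMap R S))
    (f : B' →ₐ[R] B)
    (hs : ∀ b : B, ∃ r : R, r ≠ 0 ∧ ∃ a, f a = r • b) (x y : B →ₐ[R] S) (h : x.comp f = y.comp f) : x = y := by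
  apply AlgHom.ext
  intro b
  obtain ⟨r, hr, a, ha⟩ := hs b
  have h1 : x (f a) = y (f a) := AlgHom.congr_fun h a
  rw [ha, map_smul, map_smul, Algebra.smul_def, Algebra.smul_def] at h1
  have h2 : algebraMap R S r ≠ 0 := by
    intro h0; exact hr (hinj (by rw [h0, map_zero]))
  exact mul_left_cancel₀ h2 h1

end Lift

section Dual

variable {R : Type u} [CommRing R] [IsDomain R] {B' B : Type u} [CommRing B'] [HopfAlgebra R B']
  [Module.Finite R B'] [Module.Free R B'] [CommRing B] [HopfAlgebra R B] [Module.Finite R B] [Module.Free R B]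

/-- the transpose of a generically surjective map is injective. -/
theorem transpose_injective (f : B' →ₐc[R] B) (hs : ∀ b : B, ∃ r : R, r ≠ 0 ∧ ∃ a, f a = r • b) :
    Function.Injective (transpose R f) := by
  rw [injective_iff_map_eq_zero]
  intro x hx
  apply WithConv.ext
  apply LinearMap.ext
  intro b
  obtain ⟨r, hr, a, ha⟩ := hs b
  have h1 : x.ofConv (f a) = 0 := by
    have := congrArg (fun w : D R B' => w.ofConv a) hx
    exact this
  rw [ha, map_smul, smul_eq_mul] at h1
  exact (mul_eq_zero.1 h1).resolve_left hr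

omit [Module.Finite R B'] [Module.Free R B'] [Module.Free R B] in
/-- a common denominator. -/
theorem exists_common (f : B' →ₐc[R] B) (hs : ∀ b : B, ∃ r : R, r ≠ 0 ∧ ∃ a, f a = r • b) :
    ∃ r : R, r ≠ 0 ∧ ∀ b : B, ∃ a, f a = r • b := by
  classical
  obtain ⟨s, hspan⟩ := (Module.finite_def (R := R) (M := B)).1 inferInstance
  choose r hr a ha using hs
  refine ⟨∏ b ∈ s, r b, Finset.prod_ne_zero_iff.2 fun b _ => hr b, fun b => ?_⟩
  have hb : b ∈ Submodule.span R (s : Set B) := by rw [hspan]; trivial
  induction hb using Submodule.span_induction with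
  | mem b hb =>
    obtain ⟨c, hc⟩ := Finset.dvd_prod_of_mem r hb
    refine ⟨c • a b, ?_⟩
    rw [map_smul, ha, hc, smul_smul, mul_comm]
  | zero => exact ⟨0, by rw [map_zero, smul_zero]⟩
  | add b c _ _ hb hc =>
    obtain ⟨a1, h1⟩ := hb
    obtain ⟨a2, h2⟩ := hc
    exact ⟨a1 + a2, by rw [map_add, h1, h2, smul_add]⟩
  | smul t b _ hb =>
    obtain ⟨a1, h1⟩ := hb
    exact ⟨t • a1, by rw [map_smul, h1, smul_comm]⟩

/-- the transpose of an injective generically surjective map is generically surjective. -/
theorem transpose_gen (f : B' →ₐc[R] B) (hf : Function.Injective f)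
    (hs : ∀ b : B, ∃ r : R, r ≠ 0 ∧ ∃ a, f a = r • b) (y : D R B') :
    ∃ r : R, r ≠ 0 ∧ ∃ x : D R B, transpose R f x = r • y := by
  obtain ⟨r, hr, hc⟩ := exists_common f hs
  choose a ha using hc
  let g : B →ₗ[R] R :=
    { toFun := fun b => y.ofConv (a b)
      map_add' := fun b c => by
        rw [← map_add]
        congr 1
        apply hf
        rw [map_add, ha, ha, ha, smul_add]
      map_smul' := fun t b => by
        rw [RingHom.id_apply, ← map_smul]
        congr 1
        apply hf
        rw [map_smul, ha, ha, smul_comm] }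
  refine ⟨r, hr, WithConv.toConv g, ?_⟩
  apply WithConv.ext
  apply LinearMap.ext
  intro b
  change y.ofConv (a (f b)) = r • y.ofConv b
  rw [← map_smul]
  congr 1
  apply hf
  rw [ha, map_smul]

end Dual

end K565.PtLift
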