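import Groth.Agent.SGA7.K565.LieEval
import Groth.Agent.SGA7.K565.PtLift
import Groth.Agent.SGA7.K565.CycR
import Groth.Agent.SGA7.K564.Tate.Iface

/-!
# Orthogonality of the Lie algebras of a Barsotti-Tate system and of its dual
-/

set_option autoImplicit false
universe u

open TensorProduct CartDual K564.Tate IsLocalRing

namespace K565.NDimCore

section V

variable {R K Kb : Type u} [CommRing R] [Field K] [Algebra R K] [Field Kb] [Algebra K Kb]
  [Algebra R Kb] [IsScalarTower R K Kb]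

/-- the action of the Galois group on the integral closure. -/
noncomputable def sV (s : Kb ≃ₐ[K] Kb) : integralClosure R Kb →ₐ[R] integralClosure R Kb :=
  ((s.restrictScalars R : Kb ≃ₐ[R] Kb) : Kb →ₐ[R] Kb).mapIntegralClosure

theorem sV_coe (s : Kb ≃ₐ[K] Kb) (v : integralClosure R Kb) : ((sV s v : integralClosure R Kb) : Kb) = s v := rfl

end V

section Core

variable {R K Kb : Type u} [CommRing R] [IsDomain R] [IsDiscreteValuationRing R] [CharZero R]
  [IsAdicComplete (maximalIdeal R) R] [Infinite (ResidueField R)]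
  [Field K] [Algebra R K] [IsFractionRing R K] [Field Kb] [Algebra K Kb]
  [Algebra R Kb] [IsScalarTower R K Kb] [IsAlgClosed Kb] [Algebra.IsAlgebraic K Kb] {p h : ℕ} [Fact p.Prime]

/-- The properties of the values of a family of Lie elements at a generating family of characters. -/
theorem lieProps {C : Type u} [NormedField C] [IsUltrametricDist C] (j : Kb →+* C)
    (hint : ∀ x : Kb, ‖j x‖ ≤ 1 ↔ IsIntegral R x)
    (hInj : NInj.{u}) (hpm : (p : R) ∈ maximalIdeal R) (Φ : Sys R p h)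
    (f : Fin h → Φ.Y (integralClosure R Kb))
    (hf : ∀ n (y : WithConv (D R (Φ.B n) →ₐ[R] integralClosure R Kb)), ∃ a : Fin h → ℕ, y = ∏ i, (f i).1 n ^ a i)
    (b : (Kb ≃ₐ[K] Kb) → ℕ → Fin h → Fin h → ℕ)
    (hb : ∀ (s : Kb ≃ₐ[K] Kb) n i, qc (D R (Φ.B n)) (sV (R := R) s) ((f i).1 n) = ∏ k, (f k).1 n ^ b s n i k)
    (r : ℕ) (t : Fin r → ∀ n, Φ.B n →ₗ[R] R) (ht : ∀ l, Φ.IsLie (t l))
    (hti : ∀ c : Fin r → R, (∀ x : Φ.B 1, ∑ l, c l * t l 1 x ∈ maximalIdeal R) → ∀ l, c l ∈ maximalIdeal R)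
    (U : Fin r → ℕ → Fin h → C) (hU : ∀ l n i, U l n i = j (Φ.ev (t l) n ((f i).1 n) : integralClosure R Kb))
    (σ : (Kb ≃ₐ[K] Kb) → C →+* C) (hσ : ∀ s x, σ s (j x) = j (s x)) :
    (∀ l n i, ‖U l n i‖ ≤ 1) ∧ (∀ l n i, ‖U l (n + 1) i - U l n i‖ ≤ ‖(p : C)‖ ^ n) ∧
    (∀ s l n i, ‖σ s (U l n i) - ∑ k, (b s n i k : C) * U l n k‖ ≤ ‖(p : C)‖ ^ n) ∧
    (∀ c : Fin r → R, (∀ n i, ‖∑ l, j (algebraMap R Kb (c l)) * U l n i‖ ≤ ‖(p : C)‖ ^ n) →
      ∀ l, c l ∈ maximalIdeal R) := by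
  have hdvd : ∀ (n : ℕ) (v : integralClosure R Kb), (p : integralClosure R Kb) ^ n ∣ v →
      ‖j (v : Kb)‖ ≤ ‖(p : C)‖ ^ n := by
    rintro n v ⟨w, rfl⟩
    have h1 : j (((p : integralClosure R Kb) ^ n * w : integralClosure R Kb) : Kb) = (p : C) ^ n * j (w : Kb) := by
      push_cast
      rw [map_mul, map_pow, map_natCast]
    rw [h1, norm_mul, norm_pow]
    exact mul_le_of_le_one_right (by positivity) ((hint _).2 w.2)
  have hCK : CharZero K := charZero_of_injective_algebraMap (IsFractionRing.injective R K)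
  have hCKb : CharZero Kb := charZero_of_injective_algebraMap (algebraMap K Kb).injective
  have hpKb : (p : Kb) ≠ 0 := by exact_mod_cast (Nat.Prime.ne_zero (Fact.out : p.Prime))
  have hdvd' : ∀ (n : ℕ) (v : integralClosure R Kb), ‖j (v : Kb)‖ ≤ ‖(p : C)‖ ^ n →
      (p : integralClosure R Kb) ^ n ∣ v := by
    intro n v hv
    have h1 : IsIntegral R ((v : Kb) / (p : Kb) ^ n) := by
      rw [← hint, map_div₀, norm_div, map_pow, map_natCast, norm_pow]
      have h2 : (p : C) ≠ 0 := by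
        rw [← map_natCast j]; rwa [Ne, map_eq_zero]
      exact (div_le_one (by positivity)).2 hv
    refine ⟨⟨_, h1⟩, Subtype.ext ?_⟩
    change (v : Kb) = (((p : integralClosure R Kb) ^ n * ⟨_, h1⟩ : integralClosure R Kb) : Kb)
    push_cast
    field_simp
  have hsub : ∀ v w : integralClosure R Kb, j (v : Kb) - j (w : Kb) = j ((v - w : integralClosure R Kb) : Kb) := by
    intro v w; push_cast; rw [map_sub]
  refine ⟨?_, ?_, ?_, ?_⟩
  · intro l n i
    rw [hU, hint]
    exact (Φ.ev (t l) n ((f i).1 n) : integralClosure R Kb).2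
  · intro l n i
    rw [hU, hU, hsub]
    exact hdvd n _ (LieEval.ev_succ Φ (t l) (ht l) (f i) n)
  · intro s l n i
    rw [hU, hσ, ← sV_coe (R := R), ← LieEval.ev_qc, hb]
    have h1 : ∑ k, (b s n i k : C) * U l n k =
        j ((∑ k, (b s n i k : integralClosure R Kb) * Φ.ev (t l) n ((f k).1 n) : integralClosure R Kb) : Kb) := by
      push_cast
      rw [map_sum]
      refine Finset.sum_congr rfl fun k _ => ?_
      rw [hU, map_mul, map_natCast]
    rw [h1, hsub]
    exact hdvd n _ (LieEval.ev_prod Φ Finset.univ (t l) (ht l) n _ _)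
  · intro c hc
    have hL := LieEval.isLie_sum Φ t ht c
    have h1 := hInj R K Kb p h hpm Φ (fun n => ∑ l, c l • t l n) hL (by
      intro y n
      obtain ⟨a, ha⟩ := hf n (y.1 n)
      rw [ha]
      have h2 := LieEval.ev_prod Φ Finset.univ (fun n => ∑ l, c l • t l n) hL n
        (fun i => (f i).1 n) a
      have h3 : (p : integralClosure R Kb) ^ n ∣
          ∑ i, (a i : integralClosure R Kb) * Φ.ev (fun n => ∑ l, c l • t l n) n ((f i).1 n) := by
        refine Finset.dvd_sum fun i _ => Dvd.dvd.mul_left ?_ _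
        apply hdvd'
        rw [LieEval.ev_sum]
        have h4 := hc n i
        refine le_of_eq_of_le ?_ h4
        congr 1
        push_cast
        rw [map_sum]
        refine Finset.sum_congr rfl fun l _ => ?_
        rw [hU, map_mul]
      have h6 := dvd_add h2 h3
      rwa [sub_add_cancel] at h6)
    apply hti c
    intro x
    have h2 := h1 x
    simpa only [LinearMap.coe_sum, Finset.sum_apply, LinearMap.smul_apply, smul_eq_mul] using h2

/-- **Orthogonality**, for two systems with dual Galois representations on their characters. -/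
theorem core (hInj : NInj.{u}) (hpm : (p : R) ∈ maximalIdeal R) (Φ Ψ : Sys R p h)
    (f : Fin h → Φ.Y (integralClosure R Kb)) (g : Fin h → Ψ.Y (integralClosure R Kb))
    (hf : ∀ n (y : WithConv (D R (Φ.B n) →ₐ[R] integralClosure R Kb)), ∃ a : Fin h → ℕ, y = ∏ i, (f i).1 n ^ a i)
    (hg : ∀ n (y : WithConv (D R (Ψ.B n) →ₐ[R] integralClosure R Kb)), ∃ a : Fin h → ℕ, y = ∏ i, (g i).1 n ^ a i)
    (z : ℕ → Kb) (hz : ∀ n, IsPrimitiveRoot (z n) (p ^ n)) (hz' : ∀ n, z (n + 1) ^ p = z n)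
    (χ : (Kb ≃ₐ[K] Kb) → ℕ → ℕ) (hχ : ∀ s n, s (z n) = z n ^ χ s n)
    (a b : (Kb ≃ₐ[K] Kb) → ℕ → Fin h → Fin h → ℕ)
    (hb : ∀ (s : Kb ≃ₐ[K] Kb) n i, qc (D R (Φ.B n)) (sV (R := R) s) ((f i).1 n) = ∏ k, (f k).1 n ^ b s n i k)
    (ha : ∀ (s : Kb ≃ₐ[K] Kb) n i, qc (D R (Ψ.B n)) (sV (R := R) s) ((g i).1 n) = ∏ k, (g k).1 n ^ a s n i k)
    (ha' : ∀ s n i k, a s (n + 1) i k ≡ a s n i k [MOD p ^ n])
    (hb' : ∀ s n i k, b s (n + 1) i k ≡ b s n i k [MOD p ^ n])
    (hab : ∀ s n i k, ∑ l, a s n i l * b s n k l ≡ (if i = k then χ s n else 0) [MOD p ^ n])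
    (r r' : ℕ) (t : Fin r → ∀ n, Φ.B n →ₗ[R] R) (ht : ∀ l, Φ.IsLie (t l))
    (hti : ∀ c : Fin r → R, (∀ x : Φ.B 1, ∑ l, c l * t l 1 x ∈ maximalIdeal R) → ∀ l, c l ∈ maximalIdeal R)
    (t' : Fin r' → ∀ n, Ψ.B n →ₗ[R] R) (ht' : ∀ l, Ψ.IsLie (t' l))
    (hti' : ∀ c : Fin r' → R, (∀ x : Ψ.B 1, ∑ l, c l * t' l 1 x ∈ maximalIdeal R) →
      ∀ l, c l ∈ maximalIdeal R) : r + r' ≤ h := by
  obtain ⟨C, _, _, _, j, hd, hint, hlt, -, hclosed⟩ := CpField.exists_C R K Kb
  have hCK : CharZero K := charZero_of_injective_algebraMap (IsFractionRing.injective R K)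
  have hCKb : CharZero Kb := charZero_of_injective_algebraMap (algebraMap K Kb).injective
  have hpp : p.Prime := Fact.out
  have hpKb : (p : Kb) ≠ 0 := by exact_mod_cast hpp.ne_zero
  have hp : ‖(p : C)‖ < 1 := by
    have h1 := (hlt (p : R)).2 hpm
    rwa [map_natCast, map_natCast] at h1
  -- the Galois action
  let G := Kb ≃ₐ[K] Kb
  have hG : ∀ (s : G) (x : Kb), ‖j (s • x)‖ = ‖j x‖ := by
    intro s x
    apply CpAct.norm_eq j (s : Kb →+* Kb) p (by rwa [map_natCast]) hpKb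
    intro y
    rw [hint, hint]
    constructor
    · intro h1
      have h2 := h1.map (s.symm.restrictScalars R : Kb ≃ₐ[R] Kb)
      have h3 : s.symm (s y) = y := AlgEquiv.symm_apply_apply s y
      change IsIntegral R (s.symm (s y)) at h2
      rwa [h3] at h2
    · intro h1
      exact h1.map (s.restrictScalars R : Kb ≃ₐ[R] Kb)
  let σ : G → C →+* C := CpAct.ext j G hd hG
  have hσn : ∀ s y, ‖σ s y‖ = ‖y‖ := CpAct.norm_ext j G hd hG
  have hσj : ∀ (s : G) x, σ s (j x) = j (s x) := CpAct.ext_j j G hd hG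
  let _ : Algebra K C := (j.comp (algebraMap K Kb)).toAlgebra
  have halg : ∀ x : K, algebraMap K C x = j (algebraMap K Kb x) := fun _ => rfl
  -- properties of the two families
  obtain ⟨hU0, hU1, hU2, hU3⟩ := lieProps (C := C) j hint hInj hpm Φ f hf b hb r t ht hti
    (fun l n i => j (Φ.ev (t l) n ((f i).1 n) : integralClosure R Kb)) (fun _ _ _ => rfl) σ hσj
  obtain ⟨hW0, hW1, hW2, hW3⟩ := lieProps (C := C) j hint hInj hpm Ψ g hg a ha r' t' ht' hti'
    (fun l n i => j (Ψ.ev (t' l) n ((g i).1 n) : integralClosure R Kb)) (fun _ _ _ => rfl) σ hσj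
  refine OrthLim.orth_levels (R := R) (K := K) (C := C) (IsFractionRing.injective R K) ?_ p hp σ hσn ?_ χ ?_ ?_ ?_
    a b ha' hb' hab r r' _ _ hU0 hW0 hU1 hW1 hU2 hW2 ?_ ?_
  · intro x
    rw [halg, hint, isIntegral_algebraMap_iff (algebraMap K Kb).injective, IsIntegrallyClosed.isIntegral_iff]
    rfl
  · -- Ax-Sen-Tate
    intro c hc
    let _ : NormedField Kb := NormedField.induced Kb C j j.injective
    have hjn : ∀ x : Kb, ‖j x‖ = ‖x‖ := fun _ => rfl
    have hult : IsUltrametricDist Kb := by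
      apply IsUltrametricDist.isUltrametricDist_of_isNonarchimedean_norm
      intro x y
      rw [← hjn, ← hjn, ← hjn, map_add]
      exact IsUltrametricDist.norm_add_le_max _ _
    have hpK : ‖(p : Kb)‖ < 1 := by rw [← hjn, map_natCast]; exact hp
    have h1 := AxComp.mem_closure (L := K) (Ω := Kb) (C := C) p hpK hG j hjn hd c (fun s =>
      ⟨(σ s : C →+ C), fun y => (hσn s y).le, fun y => hσj s y, hc s⟩)
    rw [hclosed.closure_eq] at h1
    exact h1
  · -- compatibility of the exponents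
    intro s n
    apply CycK.modEq_of_pow_eq hpp.ne_zero _ _ (hz n)
    rw [← hχ, ← hz' n, ← pow_mul, mul_comm, pow_mul, ← hχ, map_pow]
  · intro s hdvd
    have h1 := hχ s 1
    have h2 : s (z 1) = 1 := by
      obtain ⟨c, hc⟩ := hdvd
      rw [h1, hc, pow_mul, ← pow_one p, (hz 1).pow_eq_one, one_pow]
    have h3 : z 1 = 1 := by
      have := congrArg s.symm h2
      simpa using this
    have h4 := (hz 1).eq_orderOf
    rw [h3, orderOf_one, pow_one] at h4
    exact hpp.one_lt.ne' h4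
  · -- no eigenvector
    intro c hc
    apply CycR.eq_zero_of_chi R K Kb j hd hint hpm hp z hz hz' c
    intro s
    refine ⟨σ s, hσn s, hσj s, fun n m hm => ?_⟩
    have h1 : χ s n ≡ m [MOD p ^ n] := CycK.modEq_of_pow_eq hpp.ne_zero _ _ (hz n) (by rw [← hχ, hm])
    have h2 := OrthLim.norm_sub_le_of_modEq (C := C) p n _ _ h1
    have h3 : σ s c - m * c = (σ s c - χ s n * c) + ((χ s n : C) - m) * c := by ring
    rw [h3]
    refine (IsUltrametricDist.norm_add_le_max _ _).trans (max_le (hc s n) ?_)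
    rw [norm_mul]
    exact mul_le_mul_of_nonneg_right h2 (norm_nonneg _)
  · intro c hc
    apply hU3
    intro n i
    have h1 := hc n i
    simp only [halg, ← IsScalarTower.algebraMap_apply R K Kb] at h1
    exact h1
  · intro c hc
    apply hW3
    intro n i
    have h1 := hc n i
    simp only [halg, ← IsScalarTower.algebraMap_apply R K Kb] at h1
    exact h1

end Core

end K565.NDimCore
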