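import Mathlib.LinearAlgebra.Matrix.NonsingularInverse
import Mathlib.LinearAlgebra.Matrix.Dual
import Mathlib.LinearAlgebra.Matrix.BilinearForm
import Mathlib.LinearAlgebra.BilinearForm.Orthogonal
import Mathlib.LinearAlgebra.Dimension.Constructions
import Mathlib.FieldTheory.Finiteness
import Mathlib.Algebra.Ring.Action.Basic

/-!
# Artin independence and orthogonality of semilinear invariants

`C` is a field with an action of a group `G`, `K ⊆ C` contains the invariants.
* `linearIndependent_of_semilinear`: vectors `u_i ∈ C^ι` with `s (u_i) = B_s u_i`, `B_s` invertible,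
  which are linearly independent over `K` are linearly independent over `C`;
* `orth`: two such spaces `U`, `W ⊆ C^ι` for matrices with `A_sᵀ B_s = χ(s)` where
  `χ` has no nonzero eigenvector in `C` satisfy `dim_K U + dim_K W ≤ |ι|`.
-/

set_option autoImplicit false

open Module

namespace K565.Orth

variable {K C : Type*} [Field K] [Field C] [Algebra K C] {ι G : Type*} [Fintype ι] [DecidableEq ι]

/-- A set of field endomorphisms `σ s` of `C` with fixed field inside `K`. -/
theorem linearIndependent_of_semilinear (σ : G → C →+* C) 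
    (hfix : ∀ c : C, (∀ s, σ s c = c) → c ∈ Set.range (algebraMap K C))
    (B : G → Matrix ι ι C) (hB : ∀ s, IsUnit (B s)) {n : ℕ} (u : Fin n → ι → C)
    (hu : ∀ i s, (fun j => σ s (u i j)) = Matrix.mulVec (B s) (u i))
    (hind : LinearIndependent K u) : LinearIndependent C u := by
  classical
  -- a shortest relation
  by_contra hdep
  -- the set of supports of nontrivial relations
  have hex : ∃ (m : ℕ), ∃ c : Fin n → C, (∑ i, c i • u i = 0) ∧ c ≠ 0 ∧
      (Finset.univ.filter fun i => c i ≠ 0).card = m := by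
    rw [Fintype.linearIndependent_iff] at hdep
    push Not at hdep
    obtain ⟨c, hc, i, hi⟩ := hdep
    exact ⟨_, c, hc, fun h => hi (by rw [h]; rfl), rfl⟩
  obtain ⟨c, hc0, hcne, hcm⟩ := Nat.find_spec hex
  have hmin := fun m hm => Nat.find_min hex (m := m) hm
  obtain ⟨i₀, hi₀⟩ : ∃ i, c i ≠ 0 := by
    by_contra h
    push Not at h
    exact hcne (funext h)
  -- normalise
  set d : Fin n → C := fun i => (c i₀)⁻¹ * c i with hd
  have hd0 : ∑ i, d i • u i = 0 := by
    have : ∑ i, d i • u i = (c i₀)⁻¹ • ∑ i, c i • u i := by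
      rw [Finset.smul_sum]
      exact Finset.sum_congr rfl fun i _ => by rw [hd, mul_smul]
    rw [this, hc0, smul_zero]
  have hdi₀ : d i₀ = 1 := inv_mul_cancel₀ hi₀
  have hdsupp : ∀ i, d i ≠ 0 ↔ c i ≠ 0 := fun i => by
    rw [hd]; simp [hi₀]
  -- the conjugate relation
  have hconj : ∀ s, ∑ i, (σ s (d i)) • u i = 0 := by
    intro s
    have h1 : (B s).mulVec (∑ i, (σ s (d i)) • u i) = 0 := by
      rw [Matrix.mulVec_sum]
      have h2 : ∀ i, (B s).mulVec ((σ s (d i)) • u i) = fun j => σ s ((d i • u i) j) := by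
        intro i
        rw [Matrix.mulVec_smul, ← hu i s]
        funext j
        simp
      simp_rw [h2]
      funext j
      have h3 := congrFun hd0 j
      rw [Finset.sum_apply, ← map_sum]
      rw [Finset.sum_apply] at h3
      rw [h3]; simp
    obtain ⟨Bi, hBi⟩ := (hB s).exists_left_inv
    have h4 := congrArg (Bi.mulVec) h1
    rwa [Matrix.mulVec_mulVec, hBi, Matrix.one_mulVec, Matrix.mulVec_zero] at h4
  -- all coefficients are invariant
  have hinv : ∀ i s, σ s (d i) = d i := by
    intro i s
    by_contra hne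
    set e : Fin n → C := fun i => σ s (d i) - d i with he
    have he0 : ∑ i, e i • u i = 0 := by
      simp_rw [he, sub_smul, Finset.sum_sub_distrib, hconj s, hd0, sub_zero]
    have hene : e ≠ 0 := fun h => hne (sub_eq_zero.1 (congrFun h i))
    have hlt : (Finset.univ.filter fun i => e i ≠ 0).card <
        (Finset.univ.filter fun i => c i ≠ 0).card := by
      apply Finset.card_lt_card
      rw [Finset.ssubset_iff_of_subset]
      · refine ⟨i₀, by simp [hi₀], ?_⟩
        simp [he, hdi₀]
      · intro k hk
        simp only [Finset.mem_filter, Finset.mem_univ, true_and] at hk ⊢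
        rw [← hdsupp]
        intro h0
        apply hk
        rw [he]; simp [h0]
    rw [hcm] at hlt
    exact hmin _ hlt ⟨e, he0, hene, rfl⟩
  choose k hk using fun i => hfix (d i) (hinv i)
  have h5 : ∑ i, k i • u i = 0 := by
    rw [← hd0]
    exact Finset.sum_congr rfl fun i _ => by rw [← hk i, algebraMap_smul]
  have h6 := (Fintype.linearIndependent_iff.1 hind) k h5 i₀
  have h7 := hk i₀
  rw [h6, map_zero, hdi₀] at h7
  exact zero_ne_one h7

/-- dimension of the `C`-span. -/
theorem finrank_span (σ : G → C →+* C) 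
    (hfix : ∀ c : C, (∀ s, σ s c = c) → c ∈ Set.range (algebraMap K C))
    (B : G → Matrix ι ι C) (hB : ∀ s, IsUnit (B s)) (U : Submodule K (ι → C))
    (hU : ∀ u ∈ U, ∀ s, (fun j => σ s (u j)) = Matrix.mulVec (B s) u) {n : ℕ} (u : Fin n → ι → C)
    (hu : ∀ i, u i ∈ U) (hind : LinearIndependent K u) :
    n ≤ finrank C (Submodule.span C (U : Set (ι → C))) := by
  have h1 := linearIndependent_of_semilinear σ hfix B hB u (fun i s => hU _ (hu i) s) hind
  have h2 : LinearIndependent C (fun i : Fin n => (⟨u i, Submodule.subset_span (hu i)⟩ :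
      Submodule.span C (U : Set (ι → C)))) := by
    apply LinearIndependent.of_comp (Submodule.subtype _)
    exact h1
  have := h2.fintype_card_le_finrank
  rwa [Fintype.card_fin] at this

/-- **Orthogonality**. -/
theorem orth (σ : G → C →+* C) 
    (hfix : ∀ c : C, (∀ s, σ s c = c) → c ∈ Set.range (algebraMap K C))
    (χ : G → C) (hχ0 : ∀ s, χ s ≠ 0) (hχ : ∀ c : C, (∀ s, σ s c = χ s * c) → c = 0)
    (A B : G → Matrix ι ι C) (hAB : ∀ s, (A s).transpose * B s = χ s • 1)
    (U W : Submodule K (ι → C)) (hU : ∀ u ∈ U, ∀ s, (fun j => σ s (u j)) = Matrix.mulVec (A s) u)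
    (hW : ∀ u ∈ W, ∀ s, (fun j => σ s (u j)) = Matrix.mulVec (B s) u) {m n : ℕ}
    (u : Fin m → ι → C) (w : Fin n → ι → C) (hu : ∀ i, u i ∈ U) (hw : ∀ i, w i ∈ W)
    (hui : LinearIndependent K u) (hwi : LinearIndependent K w) : m + n ≤ Fintype.card ι := by
  have hBu : ∀ s, IsUnit (B s) := by
    intro s
    rw [Matrix.isUnit_iff_isUnit_det]
    have h := congrArg Matrix.det (hAB s)
    rw [Matrix.det_mul, Matrix.det_smul, Matrix.det_one, mul_one] at h
    have h2 : IsUnit ((A s).transpose.det * (B s).det) := by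
      rw [h]; exact (IsUnit.mk0 _ (hχ0 s)).pow _
    exact isUnit_of_mul_isUnit_right h2
  have hAu : ∀ s, IsUnit (A s) := by
    intro s
    rw [Matrix.isUnit_iff_isUnit_det]
    have h := congrArg Matrix.det (hAB s)
    rw [Matrix.det_mul, Matrix.det_smul, Matrix.det_one, mul_one, Matrix.det_transpose] at h
    have h2 : IsUnit ((A s).det * (B s).det) := by
      rw [h]; exact (IsUnit.mk0 _ (hχ0 s)).pow _
    exact isUnit_of_mul_isUnit_left h2
  have hmu := finrank_span σ hfix A hAu U hU u hu hui
  have hnw := finrank_span σ hfix B hBu W hW w hw hwi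
  -- orthogonality
  have horth : ∀ x ∈ U, ∀ y ∈ W, x ⬝ᵥ y = 0 := by
    intro x hx y hy
    apply hχ
    intro s
    have h1 : σ s (x ⬝ᵥ y) = (fun j => σ s (x j)) ⬝ᵥ (fun j => σ s (y j)) := by
      simp [dotProduct, map_sum]
    rw [h1, hU x hx s, hW y hy s, Matrix.dotProduct_mulVec, ← Matrix.vecMul_transpose,
      Matrix.vecMul_vecMul, hAB, Matrix.vecMul_smul, Matrix.vecMul_one, smul_dotProduct,
      smul_eq_mul]
  set P := Submodule.span C (U : Set (ι → C)) with hP
  set Q := Submodule.span C (W : Set (ι → C)) with hQ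
  have horth1 : ∀ x ∈ P, ∀ y ∈ W, x ⬝ᵥ y = 0 := by
    intro x hx y hy
    induction hx using Submodule.span_induction with
    | mem x hx => exact horth x hx y hy
    | zero => exact zero_dotProduct y
    | add a b _ _ ha hb => rw [add_dotProduct, ha, hb, add_zero]
    | smul c a _ ha => rw [smul_dotProduct, ha, smul_zero]
  have horth2 : ∀ x ∈ P, ∀ y ∈ Q, x ⬝ᵥ y = 0 := by
    intro x hx y hy
    induction hy using Submodule.span_induction with
    | mem y hy => exact horth1 x hx y hy
    | zero => exact dotProduct_zero x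
    | add a b _ _ ha hb => rw [dotProduct_add, ha, hb, add_zero]
    | smul c a _ ha => rw [dotProduct_smul, ha, smul_zero]
  have hle : Q.map (dotProductEquiv C ι).toLinearMap ≤ P.dualAnnihilator := by
    rintro _ ⟨y, hy, rfl⟩
    rw [Submodule.mem_dualAnnihilator]
    intro x hx
    change y ⬝ᵥ x = 0
    rw [dotProduct_comm]
    exact horth2 x hx y hy
  have h1 := Submodule.finrank_mono hle
  rw [LinearEquiv.finrank_map_eq] at h1
  have h2 := Subspace.finrank_add_finrank_dualAnnihilator_eq P
  rw [Module.finrank_pi] at h2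
  omega

end K565.Orth
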