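import Groth.Agent.SGA7.K565.TateExact
import Groth.Agent.SGA7.K539.Lin
import Groth.Agent.Neron.K125.RkFib
import Groth.Agent.SGA7.K566.Cochar
import Groth.Agent.S12398
import Groth.Agent.S15674

/-!
# Endomorphisms of semiabelian groups over algebraically closed fields

`exists_data`: `0 → DS(ℤ^r) → H → Q → 0`, the endomorphism `u` of `H` acts on the torus through an integral matrix `w`
and the characteristic polynomial of `T_l u` is the product of the characteristic polynomial of `T_l w` and of a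
polynomial with integer coefficients independent of `l`.
-/

set_option autoImplicit false
universe u

open CategoryTheory MonoidalCategory CartesianMonoidalCategory MonObj GrpObj AlgebraicGeometry Limits
open AbDual

namespace K565.SemiEnd

open Groth.Agent Sga7.H109.Basic Sga7.H109.Struct Sga3.H794.ChevKer K565.TateExact

variable {k : Type u} [Field k] [IsAlgClosed k]

/-- The final object. -/
noncomputable abbrev U (k : Type u) [Field k] : Over (Spec (CommRingCat.of k)) := 𝟙_ (Over (Spec (CommRingCat.of k)))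

/-- The standard torus. -/
noncomputable abbrev D (k : Type u) [Field k] (r : ℕ) : Over (Spec (CommRingCat.of k)) :=
  Red.DS (Spec (CommRingCat.of k)) (Fin r → ℤ)

theorem exists_data (H : Over (Spec (CommRingCat.of k))) [GrpObj H] [IsCommMonObj H] [Smooth H.hom]
    [QuasiCompact H.hom] [ConnectedSpace H.left] (h : NoGa H) (u : H ⟶ H) [IsMonHom u] :
    ∃ (r a : ℕ) (i : D k r ⟶ H) (_ : IsMonHom i) (_ : Mono i) (Q : Over (Spec (CommRingCat.of k))) (_ : GrpObj Q)
      (q : H ⟶ Q) (_ : IsMonHom q) (w : (Fin r → ℤ) →+ (Fin r → ℤ)) (PB : Polynomial ℤ),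
      IsProper Q.hom ∧ AlgGrp.IsKernel i q ∧ i ≫ u = Red.DSmap (Spec (CommRingCat.of k)) w ≫ i ∧
      topologicalKrullDim H.left = ((a + r : ℕ) : WithBot ℕ∞) ∧
      ∀ (l : ℕ) [Fact l.Prime], (l : k) ≠ 0 →
        Module.Finite ℤ_[l] (TateMod H l (U k)) ∧ Module.Finite ℤ_[l] (TateMod (D k r) l (U k)) ∧
        Module.finrank ℤ_[l] (TateMod H l (U k)) = 2 * a + r ∧
        Module.finrank ℤ_[l] (TateMod (D k r) l (U k)) = r ∧
        ∀ [Module.Free ℤ_[l] (TateMod H l (U k))] [Module.Finite ℤ_[l] (TateMod H l (U k))]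
          [Module.Free ℤ_[l] (TateMod (D k r) l (U k))] [Module.Finite ℤ_[l] (TateMod (D k r) l (U k))]
          (hw : IsMonHom (Red.DSmap (Spec (CommRingCat.of k)) w)),
          (tateMapₗ (l := l) (T := U k) u).charpoly =
            (tateMapₗ (l := l) (T := U k) (Red.DSmap (Spec (CommRingCat.of k)) w)).charpoly *
              PB.map (Int.castRingHom ℤ_[l]) := by
  obtain ⟨r, i, Q, _, q, hi, hic, hq, hqs, hqf, hker, hQp, hQs, hQc⟩ := exists_semiabelian H h
  have himl : Mono i.left := inferInstance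
  have him : Mono i := Over.mono_of_mono_left i
  have hT : Red.IsTorus (Red.DS (Spec (CommRingCat.of k)) (Fin r → ℤ)) := K452.TorusRig.isTorus_DS _ r
  have hQi : GeometricallyIntegral Q.hom := Sga7.H620.TorsCount.geometricallyIntegral_of_smooth_connected Q
  have hQcomm : IsCommMonObj Q := isCommMonObj_of_isProper_of_geometricallyIntegral Q
  have hTft : LocallyOfFiniteType (Red.DS (Spec (CommRingCat.of k)) (Fin r → ℤ)).hom := by
    rw [← Over.w i]; infer_instance
  have hd1 := Sga7.H620.TorsCount.dim_add i q hker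
  have hdT := Sga3.H816.TorusDim.topologicalKrullDim_DS k r
  have hQint : IsIntegral Q.left := K247.SmoothGI.isIntegral_of_smooth Q.hom
  obtain ⟨a, ha⟩ : ∃ a : ℕ, topologicalKrullDim Q.left = a := by
    let _ : Q.left.Over (Spec (CommRingCat.of k)) := ⟨Q.hom⟩
    have : LocallyOfFiniteType (Q.left ↘ Spec (CommRingCat.of k)) := inferInstanceAs (LocallyOfFiniteType Q.hom)
    exact ⟨_, Groth.Agent.VarietyB.DimSch.topologicalKrullDim_eq_trd k⟩
  have hqlfp : LocallyOfFinitePresentation q.left := locallyOfFinitePresentation_left q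
  -- the endomorphism of the torus
  have h1 : i ≫ u ≫ q = 1 := K452.TorusRig.hom_eq_one_algClosed hT (i ≫ u ≫ q)
  obtain ⟨b, hb⟩ := exists_lift_ker hker (i ≫ u) (by rw [Category.assoc]; exact h1)
  have hbi : IsMonHom (b ≫ i) := by rw [hb]; infer_instance
  have hbm : IsMonHom b := Sga3C.SubGrp.isMonHom_of_comp_mono b i
  obtain ⟨w, hw⟩ := Sga3B.Parab.DSHom.exists_DSmap b
  -- the endomorphism of the quotient
  obtain ⟨v, hv, hqv⟩ := exists_desc_hom i q hker (u ≫ q) h1
  obtain ⟨PB, hPm, hPd, hP⟩ := S15674.result k Q a ha v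
  refine ⟨r, a, i, hi, him, Q, inferInstance, q, hq, w, PB, hQp, hker, by rw [← hw, hb], ?_, fun l _ hl => ?_⟩
  · rw [hd1, ha, hdT]
    push_cast
    rfl
  have hl0 : 0 < l := Nat.pos_of_ne_zero (by rintro rfl; exact hl Nat.cast_zero)
  have hlp : l.Prime := Fact.out
  have hiq : i ≫ q = 1 := by
    rw [hker.w, ← Hom.one_def]
  have hker' : ∀ x : U k ⟶ H, x ≫ q = 1 → ∃ y : U k ⟶ D k r, y ≫ i = x := fun x hx => exists_lift_ker hker x hx
  have hsurj : ∀ z : U k ⟶ Q, ∃ x : U k ⟶ H, x ≫ q = z := fun z => Sga7.H620.Rosenlicht.exists_lift_pt q z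
  have hdivT : ∀ y : U k ⟶ D k r, ∃ d : U k ⟶ D k r, d ^ l = y := fun y => K530.TorPts.exists_pow_eq hT l hl0 y
  have hcT : Nat.card {x : U k ⟶ D k r // x ^ l = 1} = l ^ r := K530.TorPts.card_torsion hT l hl r hdT
  have hcQ : Nat.card {x : U k ⟶ Q // x ^ l = 1} = l ^ (2 * a) := Etcore.AbTors.card_torsion Q a ha l hl
  have hcH : Nat.card {x : U k ⟶ H // x ^ l = 1} = l ^ (2 * a + r) := by
    rw [K125.Rk.card_of_kernel i q hker l hdivT hsurj, hcT, hcQ, pow_add, _root_.mul_comm]
  have hdivH : ∀ y : U k ⟶ H, ∃ d : U k ⟶ H, d ^ l = y := fun y => Sga7.H109.Torsion.exists_pow_eq H l hl y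
  have fin : ∀ {A : Over (Spec (CommRingCat.of k))} [GrpObj A] [IsCommMonObj A] {n : ℕ},
      Nat.card {x : U k ⟶ A // x ^ l = 1} = l ^ n → Finite (torsPts A l (U k)) := by
    intro A _ _ n hA
    refine Nat.finite_of_card_ne_zero (α := {x : U k ⟶ A // x ^ l = 1}) ?_
    rw [hA]
    exact pow_ne_zero _ hlp.ne_zero
  have f1 := K510.TateMod.finite_of_finite (fin hcH)
  have f2 := K510.TateMod.finite_of_finite (fin hcT)
  have f3 := K510.TateMod.finite_of_finite (fin hcQ)
  have g3 := K510.TateMod.free_of_finite (fin hcQ)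
  have f3' : Module.Finite ℤ_[l] (TateMod Q l (Over.mk (𝟙 (Spec (CommRingCat.of k))))) := f3
  have g3' : Module.Free ℤ_[l] (TateMod Q l (Over.mk (𝟙 (Spec (CommRingCat.of k))))) := g3
  refine ⟨f1, f2, K510.TateMod.finrank_eq hdivH _ hcH, K510.TateMod.finrank_eq hdivT _ hcT, ?_⟩
  intro _ _ _ _ hwm
  have h5 : (tateMapₗ (l := l) (T := U k) v).charpoly = PB.map (Int.castRingHom ℤ_[l]) :=
    S12398.result k l hl Q v PB hP
  rw [← h5]
  refine K539.Lin.charpoly_exact_nat (tateMapₗ (l := l) (T := U k) i) (tateMapₗ (l := l) (T := U k) q)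
    (injective_tateMap i (fun a b hab => (cancel_mono i).1 hab))
    (ker_tateMapₗ i q hiq (fun a b hab => (cancel_mono i).1 hab) hker')
    ⟨1, one_ne_zero, fun z => by
      rw [one_smul]
      exact surjective_tateMap i q hiq hker' hdivT hsurj z⟩ _ _ _ (fun x => co_ext fun n => ?_) (fun x => co_ext fun n => ?_)
  · change (co x n ≫ Red.DSmap (Spec (CommRingCat.of k)) w) ≫ i = (co x n ≫ i) ≫ u
    rw [Category.assoc, Category.assoc, ← hw, hb]
  · change (co x n ≫ u) ≫ q = (co x n ≫ q) ≫ v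
    rw [Category.assoc, Category.assoc, hqv]

end K565.SemiEnd
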