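import Groth.Agent.AbVar.K510.TateMod

/-!
# Exactness of the Tate module

`0 → T_l(N)(T) → T_l(G)(T) → T_l(Q)(T) → 0` for `N → G → Q` exact on `T`-points with `N(T)` divisible.
-/

set_option autoImplicit false
universe u

open CategoryTheory CategoryTheory.Limits AlgebraicGeometry MonObj
open MonoidalCategory CartesianMonoidalCategory
open AbDual

noncomputable section

namespace K565.TateExact

variable {S : Scheme.{u}} {N G Q : Over S} [GrpObj N] [IsCommMonObj N] [GrpObj G] [IsCommMonObj G] [GrpObj Q]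
  [IsCommMonObj Q] {l : ℕ} {T : Over S}

/-- the components of an element of the Tate module -/
abbrev co {A : Over S} [GrpObj A] [IsCommMonObj A] (x : TateMod A l T) (k : ℕ) : T ⟶ A :=
  ((x : ℕ → Additive (T ⟶ A)) k).toMul

lemma co_pow (x : TateMod G l T) (k : ℕ) : co x k ^ (l ^ k) = 1 := x.2.1 k

lemma co_succ (x : TateMod G l T) (k : ℕ) : co x (k + 1) ^ l = co x k := x.2.2 k

lemma co_ext {x y : TateMod G l T} (h : ∀ k, co x k = co y k) : x = y := TateMod.ext h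

lemma co_zero' (x : TateMod G l T) : co x 0 = 1 := by
  have h := co_pow x 0
  rwa [pow_zero, pow_one] at h

/-- constructor -/
def mkT (f : ℕ → (T ⟶ G)) (h1 : ∀ k, f k ^ (l ^ k) = 1) (h2 : ∀ k, f (k + 1) ^ l = f k) : TateMod G l T :=
  ⟨fun k => Additive.ofMul (f k), h1, h2⟩

lemma co_mkT (f : ℕ → (T ⟶ G)) (h1 : ∀ k, f k ^ (l ^ k) = 1) (h2 : ∀ k, f (k + 1) ^ l = f k) (k : ℕ) :
    co (mkT f h1 h2) k = f k := rfl

theorem surjective_tateMap (i : N ⟶ G) [IsMonHom i] (q : G ⟶ Q) [IsMonHom q] (hiq : i ≫ q = 1)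
    (hker : ∀ x : T ⟶ G, x ≫ q = 1 → ∃ y : T ⟶ N, y ≫ i = x)
    (hdiv : ∀ y : T ⟶ N, ∃ d : T ⟶ N, d ^ l = y) (hsurj : ∀ z : T ⟶ Q, ∃ x : T ⟶ G, x ≫ q = z) :
    Function.Surjective (tateMap (l := l) (T := T) q) := by
  intro z
  have hdq : ∀ d : T ⟶ N, (d ≫ i) ≫ q = 1 := fun d => by
    rw [Category.assoc, hiq, MonObj.comp_one]
  have step : ∀ (n : ℕ) (x : T ⟶ G), x ≫ q = co z n → ∃ x' : T ⟶ G, x' ≫ q = co z (n + 1) ∧ x' ^ l = x := by
    intro n x hx
    obtain ⟨g, hg⟩ := hsurj (co z (n + 1))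
    obtain ⟨y, hy⟩ := hker (g ^ l * x⁻¹) (by
      rw [MonObj.mul_comp, MonObj.pow_comp, hg, co_succ, GrpObj.inv_comp, hx, mul_inv_cancel])
    obtain ⟨d, hd⟩ := hdiv y
    refine ⟨g * (d ≫ i)⁻¹, ?_, ?_⟩
    · rw [MonObj.mul_comp, hg, GrpObj.inv_comp, hdq, inv_one, _root_.mul_one]
    · rw [mul_pow, inv_pow, ← MonObj.pow_comp, hd, hy, _root_.mul_inv_rev, inv_inv, _root_.mul_comm x,
        mul_inv_cancel_left]
  choose! f hf1 hf2 using step
  let s : (n : ℕ) → {x : T ⟶ G // x ≫ q = co z n} := fun n =>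
    Nat.rec (motive := fun n => {x : T ⟶ G // x ≫ q = co z n}) ⟨1, by rw [MonObj.one_comp, co_zero']⟩
      (fun n x => ⟨f n x.1, hf1 n x.1 x.2⟩) n
  have hs : ∀ n, (s (n + 1)).1 ^ l = (s n).1 := fun n => hf2 n (s n).1 (s n).2
  have hs' : ∀ n, (s n).1 ^ (l ^ n) = 1 := by
    intro n
    induction n with
    | zero => exact one_pow _
    | succ n ih => rw [pow_succ', pow_mul, hs, ih]
  exact ⟨mkT (fun n => (s n).1) hs' hs, co_ext fun n => (s n).2⟩

variable [Fact l.Prime]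

omit [Fact l.Prime] in
theorem injective_tateMap (i : N ⟶ G) [IsMonHom i] (hi : ∀ a b : T ⟶ N, a ≫ i = b ≫ i → a = b) :
    Function.Injective (tateMap (l := l) (T := T) i) := fun x y hxy =>
  co_ext fun k => hi _ _ (congrArg (fun w => co w k) hxy)

theorem ker_tateMapₗ (i : N ⟶ G) [IsMonHom i] (q : G ⟶ Q) [IsMonHom q] (hiq : i ≫ q = 1)
    (hi : ∀ a b : T ⟶ N, a ≫ i = b ≫ i → a = b)
    (hker : ∀ x : T ⟶ G, x ≫ q = 1 → ∃ y : T ⟶ N, y ≫ i = x) :
    LinearMap.ker (tateMapₗ (l := l) (T := T) q) = LinearMap.range (tateMapₗ (l := l) (T := T) i) := by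
  ext x
  constructor
  · intro hx
    have hx' : tateMapₗ (l := l) (T := T) q x = 0 := hx
    choose y hy using fun k => hker (co x k) (congrArg (fun w => co w k) hx')
    refine ⟨mkT y (fun k => hi _ _ ?_) (fun k => hi _ _ ?_), co_ext hy⟩
    · rw [MonObj.pow_comp, hy, co_pow, MonObj.one_comp]
    · rw [MonObj.pow_comp, hy, hy, co_succ]
  · rintro ⟨y, rfl⟩
    change tateMapₗ q (tateMapₗ i y) = 0
    refine co_ext fun k => ?_
    change (co y k ≫ i) ≫ q = 1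
    rw [Category.assoc, hiq, MonObj.comp_one]

end K565.TateExact
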