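import Groth.Agent.SGA7.K565.TwistGrp
import Mathlib.CategoryTheory.Monoidal.Cartesian.Grp
import Mathlib.CategoryTheory.Monoidal.Grp
import Mathlib.Tactic.Group

/-!
# Extensions with a section: the cocycle, and its transport along a functor
-/

set_option autoImplicit false

open CategoryTheory Limits MonoidalCategory CartesianMonoidalCategory MonObj GrpObj

namespace K565.TwistExt

open TwistGrp

theorem isMonHom_of_mul' {𝒞 : Type*} [Category 𝒞] [CartesianMonoidalCategory 𝒞] {G H : 𝒞} [GrpObj G] [GrpObj H]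
    (f : G ⟶ H) (h : ∀ (T : 𝒞) (x y : T ⟶ G), (x * y) ≫ f = (x ≫ f) * (y ≫ f)) : IsMonHom f where
  one_hom := by
    have h1 : (η[G] : 𝟙_ 𝒞 ⟶ G) = 1 := by
      rw [Hom.one_def, toUnit_unique (toUnit (𝟙_ 𝒞)) (𝟙 _), Category.id_comp]
    have h2 : (η[H] : 𝟙_ 𝒞 ⟶ H) = 1 := by
      rw [Hom.one_def, toUnit_unique (toUnit (𝟙_ 𝒞)) (𝟙 _), Category.id_comp]
    have h3 := h (𝟙_ 𝒞) 1 1
    rw [_root_.one_mul] at h3
    rw [h1, h2]
    exact left_eq_mul.1 h3
  mul_hom := by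
    have h1 := h (G ⊗ G) (fst G G) (snd G G)
    rw [Hom.mul_def, lift_fst_snd, Category.id_comp, Hom.mul_def] at h1
    rw [h1]
    congr 1
    apply CartesianMonoidalCategory.hom_ext <;> simp

section Ext

variable {C : Type*} [Category C] [CartesianMonoidalCategory C] {G P E : C} [GrpObj G] [GrpObj P] [GrpObj E]

/-- An extension with a (pointed) section which is not necessarily a homomorphism. -/
structure Split (u : G ⟶ E) (v : E ⟶ P) (s : P ⟶ E) : Prop where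
  uv : u ≫ v = 1
  sv : s ≫ v = 𝟙 P
  one_s : (1 : 𝟙_ C ⟶ P) ≫ s = 1
  ker : ∀ {T : C} (y : T ⟶ E), y ≫ v = 1 → ∃ g : T ⟶ G, g ≫ u = y
  inj : ∀ {T : C} (g g' : T ⟶ G), g ≫ u = g' ≫ u → g = g'

variable {u : G ⟶ E} {v : E ⟶ P} {s : P ⟶ E} [IsMonHom u] [IsMonHom v]

omit [GrpObj G] [IsMonHom u] [IsMonHom v] in
theorem Split.one_s' (h : Split u v s) (T : C) : (1 : T ⟶ P) ≫ s = 1 := by
  have h1 : (1 : T ⟶ P) = toUnit T ≫ (1 : 𝟙_ C ⟶ P) := (MonObj.comp_one _).symm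
  rw [h1, Category.assoc, h.one_s, MonObj.comp_one]

theorem Split.exists_coc (h : Split u v s) :
    ∃ (α : P ⊗ G ⟶ G) (c : P ⊗ P ⟶ G), IsCoc α c ∧
      (∀ (T : C) (p : T ⟶ P) (a : T ⟶ G), (lift p a ≫ α) ≫ u = (p ≫ s) * (a ≫ u) * (p ≫ s)⁻¹) ∧
      (∀ (T : C) (p q : T ⟶ P), (lift p q ≫ c) ≫ u = (p ≫ s) * (q ≫ s) * ((p * q) ≫ s)⁻¹) := by
  obtain ⟨α, hα⟩ := h.ker ((fst P G ≫ s) * (snd P G ≫ u) * (fst P G ≫ s)⁻¹) (by
    rw [MonObj.mul_comp, MonObj.mul_comp, GrpObj.inv_comp, Category.assoc, Category.assoc, h.uv, h.sv,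
      MonObj.comp_one, Category.comp_id, _root_.mul_one, _root_.mul_inv_cancel])
  obtain ⟨c, hc⟩ := h.ker ((fst P P ≫ s) * (snd P P ≫ s) * ((fst P P * snd P P) ≫ s)⁻¹) (by
    rw [MonObj.mul_comp, MonObj.mul_comp, GrpObj.inv_comp, Category.assoc, Category.assoc, Category.assoc, h.sv,
      Category.comp_id, Category.comp_id, Category.comp_id, _root_.mul_inv_cancel])
  have hα' : ∀ (T : C) (p : T ⟶ P) (a : T ⟶ G), (lift p a ≫ α) ≫ u = (p ≫ s) * (a ≫ u) * (p ≫ s)⁻¹ := by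
    intro T p a
    rw [Category.assoc, hα, MonObj.comp_mul, MonObj.comp_mul, GrpObj.comp_inv, lift_fst_assoc, lift_snd_assoc]
  have hc' : ∀ (T : C) (p q : T ⟶ P), (lift p q ≫ c) ≫ u = (p ≫ s) * (q ≫ s) * ((p * q) ≫ s)⁻¹ := by
    intro T p q
    rw [Category.assoc, hc, MonObj.comp_mul, MonObj.comp_mul, GrpObj.comp_inv, lift_fst_assoc, lift_snd_assoc,
      ← Category.assoc, MonObj.comp_mul, lift_fst, lift_snd]
  refine ⟨α, c, ⟨?_, ?_, ?_, ?_, ?_⟩, hα', hc'⟩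
  · intro T p a b
    apply h.inj
    rw [MonObj.mul_comp, hα', hα', hα', MonObj.mul_comp]
    group
  · intro T p q b
    apply h.inj
    rw [MonObj.mul_comp, MonObj.mul_comp, GrpObj.inv_comp, hα', hα', hα', hc']
    group
  · intro T p q r
    apply h.inj
    rw [MonObj.mul_comp, MonObj.mul_comp, hα', hc', hc', hc', hc', _root_.mul_assoc p q r]
    group
  · intro T b
    apply h.inj
    rw [hα', h.one_s']
    group
  · intro T q
    apply h.inj
    rw [hc', h.one_s', MonObj.one_comp, _root_.one_mul]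
    group

end Ext

section Transport

open Functor.Monoidal Functor.LaxMonoidal Functor.OplaxMonoidal
open scoped Obj

variable {C D : Type*} [Category C] [Category D] [CartesianMonoidalCategory C] [CartesianMonoidalCategory D]
  (F : C ⥤ D) [F.Monoidal] {G P : C} [GrpObj G] [GrpObj P]

/-- `F` is injective on morphisms `T ⟶ G`. -/
def Inj (T G : C) : Prop := ∀ x y : T ⟶ G, F.map x = F.map y → x = y

omit [GrpObj G] [GrpObj P] in
theorem map_lift_comp {α : P ⊗ G ⟶ G} {α' : F.obj P ⊗ F.obj G ⟶ F.obj G} (hα : F.map α = δ F P G ≫ α')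
    {T : C} (p : T ⟶ P) (a : T ⟶ G) : F.map (lift p a ≫ α) = lift (F.map p) (F.map a) ≫ α' := by
  rw [F.map_comp, hα, lift_δ_assoc]

theorem isCoc_of_map {α : P ⊗ G ⟶ G} {c : P ⊗ P ⟶ G} {α' : F.obj P ⊗ F.obj G ⟶ F.obj G}
    {c' : F.obj P ⊗ F.obj P ⟶ F.obj G} (h : IsCoc α' c') (hα : F.map α = δ F P G ≫ α')
    (hc : F.map c = δ F P P ≫ c') (h1 : Inj F (P ⊗ (G ⊗ G)) G) (h2 : Inj F (P ⊗ (P ⊗ G)) G)
    (h3 : Inj F (P ⊗ (P ⊗ P)) G) (h4 : Inj F G G) (h5 : Inj F P G) : IsCoc α c := by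
  have kα : ∀ {T : C} (p : T ⟶ P) (a : T ⟶ G), F.map (lift p a ≫ α) = lift (F.map p) (F.map a) ≫ α' :=
    fun p a => map_lift_comp F hα p a
  have kc : ∀ {T : C} (p q : T ⟶ P), F.map (lift p q ≫ c) = lift (F.map p) (F.map q) ≫ c' := fun p q => by
    rw [F.map_comp, hc, lift_δ_assoc]
  refine ⟨?_, ?_, ?_, ?_, ?_⟩
  · intro T p a b
    have univ := h1 (lift (fst P (G ⊗ G)) ((snd P (G ⊗ G) ≫ fst G G) * (snd P (G ⊗ G) ≫ snd G G)) ≫ α)
      ((lift (fst P (G ⊗ G)) (snd P (G ⊗ G) ≫ fst G G) ≫ α) * (lift (fst P (G ⊗ G)) (snd P (G ⊗ G) ≫ snd G G) ≫ α))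
      (by rw [Functor.map_mul, kα, kα, kα, Functor.map_mul, h.α_mul])
    have := congrArg (fun x => lift p (lift a b) ≫ x) univ
    simpa only [MonObj.comp_mul, ← Category.assoc, comp_lift, lift_fst, lift_snd] using this
  · intro T p q b
    have univ := h2 (lift (fst P (P ⊗ G)) (lift (snd P (P ⊗ G) ≫ fst P G) (snd P (P ⊗ G) ≫ snd P G) ≫ α) ≫ α)
      ((lift (fst P (P ⊗ G)) (snd P (P ⊗ G) ≫ fst P G) ≫ c) *
        (lift (fst P (P ⊗ G) * (snd P (P ⊗ G) ≫ fst P G)) (snd P (P ⊗ G) ≫ snd P G) ≫ α) *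
        (lift (fst P (P ⊗ G)) (snd P (P ⊗ G) ≫ fst P G) ≫ c)⁻¹)
      (by
        have hinv : ∀ {T : C} (x : T ⟶ G), F.map (x⁻¹) = (F.map x)⁻¹ := fun x => map_inv F.homMonoidHom x
        rw [Functor.map_mul, Functor.map_mul, hinv, kα, kα, kα, kc, Functor.map_mul, h.α_α])
    have := congrArg (fun x => lift p (lift q b) ≫ x) univ
    simpa only [MonObj.comp_mul, GrpObj.comp_inv, ← Category.assoc, comp_lift, lift_fst, lift_snd] using this
  · intro T p q r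
    have univ := h3 ((lift (fst P (P ⊗ P)) (snd P (P ⊗ P) ≫ fst P P) ≫ c) *
        (lift (fst P (P ⊗ P) * (snd P (P ⊗ P) ≫ fst P P)) (snd P (P ⊗ P) ≫ snd P P) ≫ c))
      ((lift (fst P (P ⊗ P)) (lift (snd P (P ⊗ P) ≫ fst P P) (snd P (P ⊗ P) ≫ snd P P) ≫ c) ≫ α) *
        (lift (fst P (P ⊗ P)) ((snd P (P ⊗ P) ≫ fst P P) * (snd P (P ⊗ P) ≫ snd P P)) ≫ c))
      (by rw [Functor.map_mul, Functor.map_mul, kα, kc, kc, kc, kc, Functor.map_mul, Functor.map_mul, h.cc])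
    have := congrArg (fun x => lift p (lift q r) ≫ x) univ
    simpa only [MonObj.comp_mul, ← Category.assoc, comp_lift, lift_fst, lift_snd] using this
  · intro T b
    have univ := h4 (lift 1 (𝟙 G) ≫ α) (𝟙 G) (by rw [kα, Functor.map_one, h.α_one])
    have := congrArg (fun x => b ≫ x) univ
    simpa only [MonObj.comp_one, ← Category.assoc, comp_lift, Category.comp_id] using this
  · intro T q
    have univ := h5 (lift 1 (𝟙 P) ≫ c) 1 (by rw [kc, Functor.map_one, Functor.map_one, h.c_one])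
    have := congrArg (fun x => q ≫ x) univ
    simpa only [MonObj.comp_one, ← Category.assoc, comp_lift, Category.comp_id] using this

section Assembly

variable {α : P ⊗ G ⟶ G} {c : P ⊗ P ⟶ G} {α' : F.obj P ⊗ F.obj G ⟶ F.obj G}
    {c' : F.obj P ⊗ F.obj P ⟶ F.obj G}

/-- The object attached to a cocycle. -/
@[instance_reducible]
def grpF (h : IsCoc α c) : GrpObj (F.obj (Tw G P)) :=
  letI := h.grp
  inferInstance

theorem fmul (h : IsCoc α c) (hα : F.map α = δ F P G ≫ α') (hc : F.map c = δ F P P ≫ c') {T : D}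
    (x y : T ⟶ F.obj (Tw G P)) :
    letI := h.grp
    (x * y) ≫ F.map (Tw.a G P) = (x ≫ F.map (Tw.a G P)) *
      (lift (x ≫ F.map (Tw.p G P)) (y ≫ F.map (Tw.a G P)) ≫ α') *
      (lift (x ≫ F.map (Tw.p G P)) (y ≫ F.map (Tw.p G P)) ≫ c') ∧
    (x * y) ≫ F.map (Tw.p G P) = (x ≫ F.map (Tw.p G P)) * (y ≫ F.map (Tw.p G P)) := by
  let _ := h.grp
  have kα : ∀ {T : C} (p : T ⟶ P) (a : T ⟶ G), F.map (lift p a ≫ α) = lift (F.map p) (F.map a) ≫ α' :=
    fun p a => map_lift_comp F hα p a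
  have kc : ∀ {T : C} (p q : T ⟶ P), F.map (lift p q ≫ c) = lift (F.map p) (F.map q) ≫ c' := fun p q => by
    rw [F.map_comp, hc, lift_δ_assoc]
  let E := Tw G P
  let z : T ⟶ F.obj (E ⊗ E) := lift x y ≫ Functor.LaxMonoidal.μ F E E
  have hx : x = z ≫ F.map (fst E E) := by
    change x = (lift x y ≫ Functor.LaxMonoidal.μ F E E) ≫ _
    rw [Category.assoc, Functor.Monoidal.μ_fst, lift_fst]
  have hy : y = z ≫ F.map (snd E E) := by
    change y = (lift x y ≫ Functor.LaxMonoidal.μ F E E) ≫ _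
    rw [Category.assoc, Functor.Monoidal.μ_snd, lift_snd]
  have hxy : x * y = z ≫ F.map (fst E E * snd E E) := by
    rw [Functor.map_mul, MonObj.comp_mul, ← hx, ← hy]
  constructor
  · rw [hxy, Category.assoc, ← F.map_comp, h.mul_a, Functor.map_mul, Functor.map_mul, kα, kc, MonObj.comp_mul,
      MonObj.comp_mul, ← Category.assoc, ← Category.assoc, comp_lift, comp_lift]
    simp only [F.map_comp, ← Category.assoc]
    rw [← hx, ← hy]
  · rw [hxy, Category.assoc, ← F.map_comp, h.mul_p, Functor.map_mul, MonObj.comp_mul]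
    simp only [F.map_comp, ← Category.assoc]
    rw [← hx, ← hy]

omit [GrpObj G] [GrpObj P] in
theorem fext0 {T : D} {x y : T ⟶ F.obj (G ⊗ P)} (h1 : x ≫ F.map (fst G P) = y ≫ F.map (fst G P))
    (h2 : x ≫ F.map (snd G P) = y ≫ F.map (snd G P)) : x = y := by
  have h3 : x ≫ δ F G P = y ≫ δ F G P := by
    apply CartesianMonoidalCategory.hom_ext
    · rw [Category.assoc, Category.assoc, δ_fst]; exact h1
    · rw [Category.assoc, Category.assoc, δ_snd]; exact h2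
  exact (cancel_mono (δ F G P)).1 h3

omit [GrpObj G] [GrpObj P] in
theorem fext {T : D} {x y : T ⟶ F.obj (Tw G P)} (h1 : x ≫ F.map (Tw.a G P) = y ≫ F.map (Tw.a G P))
    (h2 : x ≫ F.map (Tw.p G P) = y ≫ F.map (Tw.p G P)) : x = y :=
  fext0 F h1 h2

theorem exists_extension {E' : D} [GrpObj E'] (u' : F.obj G ⟶ E') (v' : E' ⟶ F.obj P) [IsMonHom u'] [IsMonHom v']
    (s : F.obj P ⟶ E') (hs : Split u' v' s)
    (s1 : ∀ x : F.obj (P ⊗ G) ⟶ F.obj G, ∃ y, F.map y = x)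
    (s2 : ∀ x : F.obj (P ⊗ P) ⟶ F.obj G, ∃ y, F.map y = x)
    (h1 : Inj F (P ⊗ (G ⊗ G)) G) (h2 : Inj F (P ⊗ (P ⊗ G)) G)
    (h3 : Inj F (P ⊗ (P ⊗ P)) G) (h4 : Inj F G G) (h5 : Inj F P G) :
    ∃ (E : C) (_ : GrpObj E) (u : G ⟶ E) (v : E ⟶ P) (σ : P ⟶ E) (φ : F.obj E ≅ E'),
      IsMonHom u ∧ IsMonHom v ∧ Split u v σ ∧ IsMonHom φ.hom ∧ F.map u ≫ φ.hom = u' ∧ φ.hom ≫ v' = F.map v := by
  obtain ⟨α', c', h', kα', kc'⟩ := hs.exists_coc
  obtain ⟨α, hα⟩ := s1 (δ F P G ≫ α')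
  obtain ⟨c, hc⟩ := s2 (δ F P P ≫ c')
  have h := isCoc_of_map F h' hα hc h1 h2 h3 h4 h5
  let _ := h.grp
  obtain ⟨g, hg⟩ := hs.ker (𝟙 E' * (v' ≫ s)⁻¹) (by
    rw [MonObj.mul_comp, GrpObj.inv_comp, Category.assoc, hs.sv, Category.id_comp, Category.comp_id,
      _root_.mul_inv_cancel])
  let f : F.obj (Tw G P) ⟶ E' := (F.map (Tw.a G P) ≫ u') * (F.map (Tw.p G P) ≫ s)
  let k : E' ⟶ F.obj (Tw G P) := lift g v' ≫ Functor.LaxMonoidal.μ F G P
  have hka : k ≫ F.map (Tw.a G P) = g := by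
    change (lift g v' ≫ Functor.LaxMonoidal.μ F G P) ≫ F.map (fst G P) = g
    rw [Category.assoc, Functor.Monoidal.μ_fst, lift_fst]
  have hkp : k ≫ F.map (Tw.p G P) = v' := by
    change (lift g v' ≫ Functor.LaxMonoidal.μ F G P) ≫ F.map (snd G P) = v'
    rw [Category.assoc, Functor.Monoidal.μ_snd, lift_snd]
  have hfv : f ≫ v' = F.map (Tw.p G P) := by
    rw [MonObj.mul_comp, Category.assoc, Category.assoc, hs.uv, hs.sv, MonObj.comp_one, Category.comp_id,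
      _root_.one_mul]
  have hpt : ∀ {T : D} (x : T ⟶ F.obj (Tw G P)),
      x ≫ f = ((x ≫ F.map (Tw.a G P)) ≫ u') * ((x ≫ F.map (Tw.p G P)) ≫ s) := by
    intro T x
    rw [MonObj.comp_mul, Category.assoc, Category.assoc]
  let φ : F.obj (Tw G P) ≅ E' :=
    { hom := f
      inv := k
      hom_inv_id := by
        apply fext F
        · rw [Category.assoc, hka, Category.id_comp]
          apply hs.inj
          rw [Category.assoc, hg, MonObj.comp_mul, GrpObj.comp_inv, Category.comp_id, ← Category.assoc, hfv]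
          exact mul_inv_cancel_right _ _
        · rw [Category.assoc, hkp, Category.id_comp, hfv]
      inv_hom_id := by
        rw [hpt, hka, hkp, hg, inv_mul_cancel_right] }
  let u : G ⟶ Tw G P := Tw.mk (𝟙 G) 1
  let σ : P ⟶ Tw G P := Tw.mk 1 (𝟙 P)
  have mulTw : ∀ {T : C} (a b : T ⟶ G) (p q : T ⟶ P), (Tw.mk a p * Tw.mk b q : T ⟶ Tw G P) =
      Tw.mk (a * (lift p b ≫ α) * (lift p q ≫ c)) (p * q) := by
    intro T a b p q
    apply Tw.ext
    · rw [h.mul_a]; simp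
    · rw [h.mul_p]; simp
  have oneTw : ∀ {T : C}, (1 : T ⟶ Tw G P) = Tw.mk 1 1 := by
    intro T
    have := mulTw (T := T) 1 1 1 1
    rw [h.α_one, h.c_one, _root_.one_mul, _root_.one_mul, _root_.one_mul] at this
    exact (mul_eq_left.1 this).symm
  have hu : IsMonHom u := by
    refine isMonHom_of_mul' u fun T x y => ?_
    rw [Tw.comp_mk, Tw.comp_mk, Tw.comp_mk, mulTw, MonObj.comp_one, MonObj.comp_one, MonObj.comp_one,
      h.α_one, h.c_one]
    simp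
  have hv : IsMonHom (Tw.p G P) := isMonHom_of_mul' _ fun T x y => h.mul_p x y
  have hφ : IsMonHom φ.hom := by
    refine isMonHom_of_mul' _ fun T x y => ?_
    obtain ⟨k1, k2⟩ := fmul F h hα hc x y
    change (x * y) ≫ f = (x ≫ f) * (y ≫ f)
    rw [hpt, hpt, hpt, k1, k2, MonObj.mul_comp, MonObj.mul_comp, kα', kc']
    group
  refine ⟨Tw G P, h.grp, u, Tw.p G P, σ, φ, hu, hv, ⟨?_, ?_, ?_, ?_, ?_⟩, hφ, ?_, hfv⟩
  · exact Tw.mk_p _ _
  · exact Tw.mk_p _ _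
  · rw [Tw.comp_mk, MonObj.comp_one, Category.comp_id, oneTw]
  · intro T y hy
    refine ⟨y ≫ Tw.a G P, ?_⟩
    apply Tw.ext
    · rw [Category.assoc, Tw.mk_a, Category.comp_id]
    · rw [Category.assoc, Tw.mk_p, hy, MonObj.comp_one]
  · intro T g g' hgg
    have := congrArg (fun t => t ≫ Tw.a G P) hgg
    simpa [u] using this
  · change F.map u ≫ f = u'
    rw [hpt, ← F.map_comp, ← F.map_comp, Tw.mk_a, Tw.mk_p, F.map_id, Category.id_comp, Functor.map_one,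
      hs.one_s', _root_.mul_one]

end Assembly

end Transport

end K565.TwistExt
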