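import Mathlib.CategoryTheory.Monoidal.Cartesian.Grp
import Mathlib.Algebra.Group.MinimalAxioms

/-!
# Group objects from cocycles (extensions with a section)
-/

set_option autoImplicit false

open CategoryTheory Limits MonoidalCategory CartesianMonoidalCategory MonObj GrpObj

namespace K565.TwistGrp

/-- A (non abelian) normalized 2-cocycle. -/
structure Coc (A Q : Type*) [Group A] [Group Q] where
  α : Q → A → A
  c : Q → Q → A
  α_mul : ∀ p a b, α p (a * b) = α p a * α p b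
  α_α : ∀ p q b, α p (α q b) = c p q * α (p * q) b * (c p q)⁻¹
  cc : ∀ p q r, c p q * c (p * q) r = α p (c q r) * c p (q * r)
  α_one : ∀ b, α 1 b = b
  c_one : ∀ q, c 1 q = 1

/-- The underlying set of the extension attached to a cocycle. -/
@[ext]
structure Coc.X {A Q : Type*} [Group A] [Group Q] (d : Coc A Q) where
  a : A
  p : Q

namespace Coc

variable {A Q : Type*} [Group A] [Group Q] (d : Coc A Q)

instance : Mul d.X := ⟨fun x y => ⟨x.a * d.α x.p y.a * d.c x.p y.p, x.p * y.p⟩⟩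
instance : One d.X := ⟨⟨1, 1⟩⟩
instance : Inv d.X := ⟨fun x => ⟨(d.α x.p⁻¹ x.a * d.c x.p⁻¹ x.p)⁻¹, x.p⁻¹⟩⟩

@[simp] lemma mul_a (x y : d.X) : (x * y).a = x.a * d.α x.p y.a * d.c x.p y.p := rfl
@[simp] lemma mul_p (x y : d.X) : (x * y).p = x.p * y.p := rfl
@[simp] lemma one_a : (1 : d.X).a = 1 := rfl
@[simp] lemma one_p : (1 : d.X).p = 1 := rfl
@[simp] lemma inv_a (x : d.X) : (x⁻¹).a = (d.α x.p⁻¹ x.a * d.c x.p⁻¹ x.p)⁻¹ := rfl
@[simp] lemma inv_p (x : d.X) : (x⁻¹).p = x.p⁻¹ := rfl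

instance : Group d.X := Group.ofLeftAxioms
  (fun x y z => by
    refine X.ext ?_ ?_
    · rw [mul_a, mul_a, mul_a, mul_a, mul_p, mul_p, d.α_mul, d.α_mul, d.α_α]
      have h := d.cc x.p y.p z.p
      have h' : d.α x.p (d.c y.p z.p) * d.c x.p (y.p * z.p) = _ := h.symm
      simp only [_root_.mul_assoc]
      rw [h', inv_mul_cancel_left]
    · rw [mul_p, mul_p, mul_p, mul_p, _root_.mul_assoc])
  (fun x => by
    refine X.ext ?_ ?_
    · simp [d.α_one, d.c_one]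
    · simp)
  (fun x => by
    refine X.ext ?_ ?_
    · simp [_root_.mul_assoc]
    · simp)

end Coc

variable {C : Type*} [Category C] [CartesianMonoidalCategory C] {G P : C} [GrpObj G] [GrpObj P]

/-- A cocycle in a category, on points. -/
structure IsCoc (α : P ⊗ G ⟶ G) (c : P ⊗ P ⟶ G) : Prop where
  α_mul : ∀ {T : C} (p : T ⟶ P) (a b : T ⟶ G), lift p (a * b) ≫ α = (lift p a ≫ α) * (lift p b ≫ α)
  α_α : ∀ {T : C} (p q : T ⟶ P) (b : T ⟶ G), lift p (lift q b ≫ α) ≫ α =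
    (lift p q ≫ c) * (lift (p * q) b ≫ α) * (lift p q ≫ c)⁻¹
  cc : ∀ {T : C} (p q r : T ⟶ P), (lift p q ≫ c) * (lift (p * q) r ≫ c) =
    (lift p (lift q r ≫ c) ≫ α) * (lift p (q * r) ≫ c)
  α_one : ∀ {T : C} (b : T ⟶ G), lift 1 b ≫ α = b
  c_one : ∀ {T : C} (q : T ⟶ P), lift 1 q ≫ c = 1

namespace IsCoc

variable {α : P ⊗ G ⟶ G} {c : P ⊗ P ⟶ G} (h : IsCoc α c)

/-- The cocycle of `T`-points. -/
def coc (T : C) : Coc (T ⟶ G) (T ⟶ P) where
  α p a := lift p a ≫ α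
  c p q := lift p q ≫ c
  α_mul := h.α_mul
  α_α := h.α_α
  cc := h.cc
  α_one := h.α_one
  c_one := h.c_one

/-- The functor of points of the extension. -/
def fn : Cᵒᵖ ⥤ GrpCat where
  obj T := GrpCat.of (h.coc T.unop).X
  map {T T'} f := GrpCat.ofHom (MonoidHom.mk' (fun x => ⟨f.unop ≫ x.a, f.unop ≫ x.p⟩) (fun x y => by
    refine Coc.X.ext ?_ ?_
    · change f.unop ≫ (x.a * (lift x.p y.a ≫ α) * (lift x.p y.p ≫ c)) = (f.unop ≫ x.a) *
        (lift (f.unop ≫ x.p) (f.unop ≫ y.a) ≫ α) * (lift (f.unop ≫ x.p) (f.unop ≫ y.p) ≫ c)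
      rw [MonObj.comp_mul, MonObj.comp_mul, ← Category.assoc, ← Category.assoc, comp_lift, comp_lift]
    · change f.unop ≫ (x.p * y.p) = (f.unop ≫ x.p) * (f.unop ≫ y.p)
      rw [MonObj.comp_mul]))
  map_id T := by
    apply GrpCat.hom_ext
    apply MonoidHom.ext
    intro x
    exact Coc.X.ext (Category.id_comp _) (Category.id_comp _)
  map_comp f g := by
    apply GrpCat.hom_ext
    apply MonoidHom.ext
    intro x
    exact Coc.X.ext (Category.assoc _ _ _) (Category.assoc _ _ _)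

end IsCoc

/-- The underlying object of the extension. -/
def Tw (G P : C) : C := G ⊗ P

namespace Tw

/-- first projection -/
def a (G P : C) : Tw G P ⟶ G := fst G P
/-- second projection -/
def p (G P : C) : Tw G P ⟶ P := snd G P

variable {T : C}
/-- points -/
def mk (x : T ⟶ G) (y : T ⟶ P) : T ⟶ Tw G P := lift x y

omit [GrpObj G] [GrpObj P]
@[reassoc (attr := simp)] lemma mk_a (x : T ⟶ G) (y : T ⟶ P) : mk x y ≫ a G P = x := lift_fst _ _
@[reassoc (attr := simp)] lemma mk_p (x : T ⟶ G) (y : T ⟶ P) : mk x y ≫ p G P = y := lift_snd _ _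
lemma ext {x y : T ⟶ Tw G P} (h1 : x ≫ a G P = y ≫ a G P) (h2 : x ≫ p G P = y ≫ p G P) : x = y :=
  CartesianMonoidalCategory.hom_ext _ _ h1 h2
lemma comp_mk {T' : C} (f : T' ⟶ T) (x : T ⟶ G) (y : T ⟶ P) : f ≫ mk x y = mk (f ≫ x) (f ≫ y) := comp_lift _ _ _

end Tw

namespace IsCoc

variable {α : P ⊗ G ⟶ G} {c : P ⊗ P ⟶ G} (h : IsCoc α c)

/-- `Tw G P` represents the functor. -/
def rep : (h.fn ⋙ forget _).RepresentableBy (Tw G P) where
  homEquiv {T} :=
    { toFun := fun x => (⟨x ≫ Tw.a G P, x ≫ Tw.p G P⟩ : (h.coc T).X)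
      invFun := fun y => Tw.mk (Coc.X.a (d := h.coc T) y) (Coc.X.p (d := h.coc T) y)
      left_inv := fun x => by apply Tw.ext <;> simp
      right_inv := fun y => Coc.X.ext (d := h.coc T) (Tw.mk_a _ _) (Tw.mk_p _ _) }
  homEquiv_comp f g := by
    change (⟨_, _⟩ : (h.coc _).X) = ⟨_, _⟩
    simp

/-- The group structure. -/
@[instance_reducible]
def grp : GrpObj (Tw G P) := GrpObj.ofRepresentableBy _ h.fn h.rep

section

variable {T : C}

lemma mul_a (x y : T ⟶ Tw G P) : letI := h.grp; (x * y) ≫ Tw.a G P =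
    (x ≫ Tw.a G P) * (lift (x ≫ Tw.p G P) (y ≫ Tw.a G P) ≫ α) * (lift (x ≫ Tw.p G P) (y ≫ Tw.p G P) ≫ c) := by
  let _ := h.grp
  let e := yonedaGrpObjIsoOfRepresentableBy (Tw G P) h.fn h.rep
  have h1 := map_mul (e.hom.app (Opposite.op T)).hom x y
  exact congrArg (Coc.X.a (d := h.coc T)) h1

lemma mul_p (x y : T ⟶ Tw G P) : letI := h.grp; (x * y) ≫ Tw.p G P = (x ≫ Tw.p G P) * (y ≫ Tw.p G P) := by
  let _ := h.grp
  let e := yonedaGrpObjIsoOfRepresentableBy (Tw G P) h.fn h.rep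
  have h1 := map_mul (e.hom.app (Opposite.op T)).hom x y
  exact congrArg (Coc.X.p (d := h.coc T)) h1

end

end IsCoc

end K565.TwistGrp
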